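import Cfsg.Agent.SL2CharTable.Uniform

/-!
# The character table of `SL₂(q)`, `q` even
-/

set_option autoImplicit false
set_option linter.unusedSectionVars false

namespace CfsgLib.SL2CharTable.Even

open Matrix CfsgLib.SL2Borel CfsgLib.SL2Tori CfsgLib.Characters
open scoped MatrixGroups ComplexConjugate

variable {F : Type*} [Field F] [Fintype F] [DecidableEq F] [CharP F 2]

theorem neg_units (e : Fˣ) : -e = e := Units.ext (CharTwo.neg_eq _)

theorem neg_one_SL : (-1 : SL(2, F)) = 1 := by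
  rw [← mk_neg_one_zero, neg_units, mk_one_zero]

theorem eq_one_of_sq {a : Fˣ} (h : a ^ 2 = 1) : a = 1 := by
  have : a = 1 ∨ a = -1 := by_contra fun hh => sq_ne_one_iff.2 hh h
  rwa [neg_units, or_self] at this

theorem card_even : Fintype.card F % 2 = 0 :=
  FiniteField.even_card_of_char_two (ringChar.eq F 2)

theorem dual_eq_one_of_sq {X : Type*} [CommGroup X] [Finite X] (hodd : Nat.card X % 2 = 1) {θ : X →* ℂˣ}
    (h : θ ^ 2 = 1) : θ = 1 := by
  refine MonoidHom.ext fun x => ?_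
  obtain ⟨k, hk⟩ : ∃ k, Nat.card X = 2 * k + 1 := ⟨Nat.card X / 2, by omega⟩
  have e1 : θ x ^ 2 = 1 := by rw [← MonoidHom.pow_apply, h, MonoidHom.one_apply]
  have e2 : θ x ^ (2 * k + 1) = 1 := by rw [← map_pow, ← hk, pow_card_eq_one', map_one]
  rwa [pow_succ, pow_mul, e1, one_pow, one_mul] at e2

variable (Tr : NSTorus F)

/-- The cuspidal character. -/
noncomputable def D (θ : Tr.T →* ℂˣ) : SL(2, F) → ℂ :=
  fun g => (R (1 : Fˣ →* ℂˣ) g - 2) * R (1 : Fˣ →* ℂˣ) g - I Tr θ g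

theorem D_one (θ : Tr.T →* ℂˣ) : D Tr θ 1 = (Fintype.card F : ℂ) - 1 := by
  have hI := I_central Tr θ 1 (Subgroup.one_mem _)
  rw [Subgroup.coe_one] at hI
  rw [D, hI, R_one, map_one, Units.val_one, mul_one, Nat.cast_mul, Nat.cast_sub Fintype.card_pos, Nat.cast_one]
  ring

theorem D_regular (θ : Tr.T →* ℂˣ) {a : Fˣ} (ha : a ≠ 1) (x : F) : D Tr θ (mk a x) = 0 := by
  have ha2 : a ^ 2 ≠ 1 := fun e => ha (eq_one_of_sq e)
  rw [D, R_mk_regular _ ha2, I_borel Tr θ (fun h => sq_ne_one_iff.1 ha2 h.1)]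
  simp only [MonoidHom.one_apply, Units.val_one]
  ring

theorem D_unipotent (θ : Tr.T →* ℂˣ) {x : F} (hx : x ≠ 0) : D Tr θ (mk 1 x) = -1 := by
  rw [D, R_unipotent _ (Or.inl rfl) hx, I_borel Tr θ (fun h => hx h.2)]
  simp only [MonoidHom.one_apply, Units.val_one]
  ring

theorem D_torus (θ : Tr.T →* ℂˣ) (t : Tr.T) (ht : t ≠ 1) : D Tr θ t = -((θ t : ℂ) + (θ t⁻¹ : ℂ)) := by
  have h1 : (t : SL(2, F)) ≠ 1 := fun e => ht (Subtype.ext e)
  have h1' : (t : SL(2, F)) ≠ -1 := by rw [neg_one_SL]; exact h1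
  rw [D, R_nonsplit _ (Tr.regular t.2 h1 h1').2.2, I_torus Tr θ t h1 h1']
  ring

theorem isClassFunction_D (θ : Tr.T →* ℂˣ) : Cfsg.IsClassFunction SL(2, F) (D Tr θ) := fun g h => by
  simp only [D, isClassFunction_R _ g h, I, isClassFunction_indFun _ _ g h]

theorem isGen_D (θ : Tr.T →* ℂˣ) : Cfsg.IsGeneralizedCharacter SL(2, F) (D Tr θ) := by
  have e : D Tr θ = (R (1 : Fˣ →* ℂˣ) - ((2 : ℤ) : ℂ) • fun _ => (1 : ℂ)) * R 1 - I Tr θ := by
    funext g; simp [D]
  rw [e]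
  exact isGen_sub (isGen_mul (isGen_sub (isGen_of_isCharacter (isCharacter_R _)) (isGen_zsmul isGen_one 2))
    (isGen_of_isCharacter (isCharacter_R _)))
    (isGen_indFun _ (isGen_of_isIrr (isIrr_linChar θ)))

theorem sum_D_mk (θ : Tr.T →* ℂˣ) (a : Fˣ) : ∑ x, D Tr θ (mk a x) = 0 := by
  by_cases ha : a = 1
  · subst ha
    rw [sum_central _ _ fun x hx => D_unipotent Tr θ hx, mk_one_zero, D_one]
    ring
  · exact Finset.sum_eq_zero fun x _ => D_regular Tr θ ha x

theorem classInner_R_D (β : Fˣ →* ℂˣ) (θ : Tr.T →* ℂˣ) : Cfsg.classInner (R β) (D Tr θ) = 0 := by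
  rw [classInner_R_of_sum β (isClassFunction_D Tr θ) (fun _ => 0) fun a => by rw [sum_D_mk, mul_zero]]
  simp

theorem D_expand (θ : Tr.T →* ℂˣ) :
    D Tr θ = (fun g => R (1 : Fˣ →* ℂˣ) g * (R (1 : Fˣ →* ℂˣ) g - 2)) - I Tr θ := by
  funext g; simp [D, mul_comm]

open scoped Classical in
theorem classInner_D_const (θ : Tr.T →* ℂˣ) :
    Cfsg.classInner (D Tr θ) (fun _ => 1) = -(if θ = 1 then 1 else 0) := by
  haveI : Fintype Tr.T := Fintype.ofFinite _
  have h1 : Cfsg.classInner (fun g => R (1 : Fˣ →* ℂˣ) g * (R (1 : Fˣ →* ℂˣ) g - 2)) (fun _ => 1) =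
      Cfsg.classInner (R (1 : Fˣ →* ℂˣ)) (fun g => R (1 : Fˣ →* ℂˣ) g - 2) := by
    simp only [Cfsg.classInner, map_one, mul_one, map_sub, conj_R_trivial, map_ofNat]
  rw [D_expand, classInner_sub_left, h1,
    classInner_R_of_sum _ (fun g h => by simp only [isClassFunction_R _ g h]) (fun _ => 0)
      (fun a => by rw [Finset.sum_sub_distrib, sum_R_mk]; simp; ring),
    classInner_I Tr θ (fun _ _ => rfl)]
  have hne : ((Fintype.card F + 1 : ℕ) : ℂ) ≠ 0 := Nat.cast_ne_zero.2 (by omega)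
  simp only [map_one, mul_one, map_zero, mul_zero, Finset.sum_const_zero, sum_char,
    zero_sub, ← Nat.card_eq_fintype_card (α := Tr.T), Tr.card_T]
  split_ifs <;> field_simp <;> simp

open scoped Classical in
theorem classInner_D_D (θ η : Tr.T →* ℂˣ) :
    Cfsg.classInner (D Tr θ) (D Tr η) = (if θ = η then 1 else 0) + (if θ * η = 1 then 1 else 0) := by
  haveI : Fintype Tr.T := Fintype.ofFinite _
  rw [D_expand Tr θ, classInner_sub_left]
  have h1 : Cfsg.classInner (fun g => R (1 : Fˣ →* ℂˣ) g * (R (1 : Fˣ →* ℂˣ) g - 2)) (D Tr η) =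
      Cfsg.classInner (R (1 : Fˣ →* ℂˣ)) (fun g => (R (1 : Fˣ →* ℂˣ) g - 2) * D Tr η g) := by
    simp only [Cfsg.classInner, map_mul, map_sub, conj_R_trivial, map_ofNat, mul_assoc]
  have hval : ∀ t : Tr.T, t ≠ 1 →
      (θ t : ℂ) * conj (D Tr η t) = -((θ t : ℂ) * conj (η t : ℂ) + (θ t : ℂ) * (η t : ℂ)) := by
    intro t ht
    rw [D_torus Tr η t ht, map_neg, map_add, conj_char η t⁻¹, inv_inv]
    ring
  have hsum : ∑ t : Tr.T, (θ t : ℂ) * conj (D Tr η t) =
      ∑ t : Tr.T, -((θ t : ℂ) * conj (η t : ℂ) + (θ t : ℂ) * (η t : ℂ)) + ((Fintype.card F : ℂ) + 1) := by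
    rw [← sub_eq_iff_eq_add', ← Finset.sum_sub_distrib, Finset.sum_eq_single (1 : Tr.T)
      (fun t _ ht => by rw [hval t ht, sub_self]) (fun h => absurd (Finset.mem_univ _) h)]
    rw [Subgroup.coe_one, D_one]
    simp only [map_one, Units.val_one, map_sub, map_natCast]
    ring
  rw [h1, classInner_R_of_sum _ (fun g h => by simp only [isClassFunction_R _ g h, isClassFunction_D Tr η g h])
      (fun a => if a = 1 then (Fintype.card F : ℂ) - 1 else 0) (fun a => ?_),
    classInner_I Tr θ (isClassFunction_D Tr η), hsum, Finset.sum_neg_distrib, Finset.sum_add_distrib,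
    sum_char_mul_conj, sum_char_mul, ← Nat.card_eq_fintype_card (α := Tr.T), Tr.card_T,
    Finset.sum_eq_single (1 : Fˣ) (fun b _ hb => by rw [if_neg hb, map_zero, mul_zero])
      (fun h => absurd (Finset.mem_univ _) h), if_pos rfl]
  · have hq1 : (Fintype.card F : ℂ) + 1 ≠ 0 := Nat.cast_add_one_ne_zero _
    have hq2 : (Fintype.card F : ℂ) - 1 ≠ 0 :=
      sub_ne_zero.2 (Nat.cast_ne_one.2 (Fintype.one_lt_card (α := F)).ne')
    simp only [map_one, MonoidHom.one_apply, Units.val_one, map_sub, map_natCast, one_mul]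
    rw [Nat.cast_sub Fintype.card_pos, Nat.cast_add, Nat.cast_one]
    split_ifs <;> field_simp <;> ring
  · by_cases ha : a = 1
    · subst ha
      rw [sum_central _ 1 fun x hx => by
        rw [R_unipotent _ (Or.inl rfl) hx, D_unipotent Tr η hx]; simp; ring,
        R_central _ (Or.inl rfl), mk_one_zero, D_one, if_pos rfl]
      simp; ring
    · rw [if_neg ha, mul_zero]
      exact Finset.sum_eq_zero fun x _ => by rw [D_regular Tr η ha x, mul_zero]

theorem isIrr_D {θ : Tr.T →* ℂˣ} (hθ : θ ^ 2 ≠ 1) : Cfsg.IsIrrCharacter SL(2, F) (D Tr θ) :=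
  isIrr_of_gen_norm_one (isGen_D Tr θ)
    (by rw [classInner_D_D, if_pos rfl, if_neg (fun h => hθ ((pow_two θ).trans h)), add_zero]) (by
    rw [D_one, Complex.sub_re, Complex.natCast_re, Complex.one_re, sub_nonneg]
    exact_mod_cast Fintype.card_pos)

/-- The trivial character. -/
def irrOne : Cfsg.IrrCharacter SL(2, F) := ⟨fun _ => 1, isIrr_one⟩

/-- The Steinberg character. -/
noncomputable def irrSt : Cfsg.IrrCharacter SL(2, F) := ⟨St, isIrr_St'⟩

/-- The principal series characters as a family. -/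
noncomputable def fR (β : {β : Fˣ →* ℂˣ // β ^ 2 ≠ 1}) : Cfsg.IrrCharacter SL(2, F) := ⟨R β.1, isIrr_R' β.2⟩

/-- The discrete series characters as a family. -/
noncomputable def fD (η : {η : Tr.T →* ℂˣ // η ^ 2 ≠ 1}) : Cfsg.IrrCharacter SL(2, F) :=
  ⟨D Tr η.1, isIrr_D Tr η.2⟩

theorem card_sq_ne_one_odd {X : Type*} [CommGroup X] [Finite X] (hodd : Nat.card X % 2 = 1)
    [Fintype (X →* ℂˣ)] [DecidableEq (X →* ℂˣ)] :
    Fintype.card {θ : X →* ℂˣ // θ ^ 2 ≠ 1} = Nat.card X - 1 := by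
  have e : ∀ θ : X →* ℂˣ, θ ^ 2 ≠ 1 ↔ ¬ θ = 1 := fun θ =>
    ⟨fun h e => h (one_pow_two (x := θ) e), fun h e => h (dual_eq_one_of_sq hodd e)⟩
  rw [Fintype.card_congr (Equiv.subtypeEquivRight e), Fintype.card_subtype_compl, Fintype.card_subtype_eq, ← Nat.card_eq_fintype_card,
    CommGroup.card_monoidHom_of_hasEnoughRootsOfUnity]

theorem card_range_R : 2 * (Set.range (fR (F := F))).ncard = Fintype.card F - 2 := by
  classical
  haveI : Fintype (Fˣ →* ℂˣ) := Fintype.ofFinite _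
  have hq := Fintype.one_lt_card (α := F)
  have hu : Nat.card Fˣ % 2 = 1 := by
    rw [Nat.card_units, Nat.card_eq_fintype_card]; have := card_even (F := F); omega
  rw [show Set.range (fR (F := F)) = ↑(Finset.univ.image (fR (F := F))) by simp, Set.ncard_coe_finset,
    card_image_double fR (fun β => ⟨β.1⁻¹, inv_sq_ne_one β.2⟩)
      (fun β e => inv_ne_self_of_sq β.2 (congrArg Subtype.val e)) ?_, card_sq_ne_one_odd hu,
    Nat.card_units, Nat.card_eq_fintype_card, Nat.sub_sub]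
  intro x y
  rw [fR, fR, Subtype.ext_iff]
  show R x.1 = R y.1 ↔ _
  constructor
  · intro e
    have h := classInner_R_R' x.1 y.1
    rw [e, classInner_isIrr_self (isIrr_R' y.2)] at h
    by_contra hne
    rw [not_or] at hne
    rw [if_neg (fun h' => hne.1 (Subtype.ext h'.symm)),
      if_neg (fun h' => hne.2 (Subtype.ext (show y.1 = x.1⁻¹ from pair_eq_inv x.1 y.1 h')))] at h
    norm_num at h
  · rintro (rfl | rfl)
    · rfl
    · by_contra hne
      have e1 := classInner_R_R' x.1 x.1⁻¹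
      rw [classInner_isIrr_ne (isIrr_R' x.2) (isIrr_R' (inv_sq_ne_one x.2)) hne,
        if_neg (fun h => inv_ne_self_of_sq x.2 h.symm), if_pos (mul_inv_cancel x.1), zero_add] at e1
      exact zero_ne_one e1

theorem card_range_D : 2 * (Set.range (fD Tr)).ncard = Fintype.card F := by
  classical
  haveI : Fintype Tr.T := Fintype.ofFinite _
  haveI : Fintype (Tr.T →* ℂˣ) := Fintype.ofFinite _
  have hT : Nat.card Tr.T % 2 = 1 := by rw [Tr.card_T]; have := card_even (F := F); omega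
  rw [show Set.range (fD Tr) = ↑(Finset.univ.image (fD Tr)) by simp, Set.ncard_coe_finset,
    card_image_double (fD Tr) (fun β => ⟨β.1⁻¹, inv_sq_ne_one β.2⟩)
      (fun β e => inv_ne_self_of_sq β.2 (congrArg Subtype.val e)) ?_, card_sq_ne_one_odd hT, Tr.card_T,
    Nat.add_sub_cancel]
  intro x y
  rw [fD, fD, Subtype.ext_iff]
  show D Tr x.1 = D Tr y.1 ↔ _
  constructor
  · intro e
    have h := classInner_D_D Tr x.1 y.1
    rw [e, classInner_isIrr_self (isIrr_D Tr y.2)] at h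
    by_contra hne
    rw [not_or] at hne
    rw [if_neg (fun h' => hne.1 (Subtype.ext h'.symm)),
      if_neg (fun h' => hne.2 (Subtype.ext (show y.1 = x.1⁻¹ from pair_eq_inv x.1 y.1 h')))] at h
    norm_num at h
  · rintro (rfl | rfl)
    · rfl
    · by_contra hne
      have e1 := classInner_D_D Tr x.1 x.1⁻¹
      rw [classInner_isIrr_ne (isIrr_D Tr x.2) (isIrr_D Tr (inv_sq_ne_one x.2)) hne,
        if_neg (fun h => inv_ne_self_of_sq x.2 h.symm), if_pos (mul_inv_cancel x.1), zero_add] at e1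
      exact zero_ne_one e1

/-- The irreducible characters. -/
theorem exhaustive (χ : SL(2, F) → ℂ) (hχ : Cfsg.IsIrrCharacter SL(2, F) χ) :
    (χ = (fun _ => 1) ∧ χ 1 = ((1 : ℕ) : ℂ)) ∨ (χ = St ∧ χ 1 = (Fintype.card F : ℂ)) ∨
    (∃ β : Fˣ →* ℂˣ, β ^ 2 ≠ 1 ∧ χ = R β ∧ χ 1 = ((Fintype.card F + 1 : ℕ) : ℂ)) ∨
    (∃ η : Tr.T →* ℂˣ, η ^ 2 ≠ 1 ∧ χ = D Tr η ∧ χ 1 = ((Fintype.card F - 1 : ℕ) : ℂ)) := by
  classical
  have hq := Fintype.one_lt_card (α := F)
  have heven := card_even (F := F)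
  haveI : Fintype (Fˣ →* ℂˣ) := Fintype.ofFinite _
  haveI : Fintype Tr.T := Fintype.ofFinite _
  haveI : Fintype (Tr.T →* ℂˣ) := Fintype.ofFinite _
  set IR := Finset.univ.image (fR (F := F)) with hIR
  set ID := Finset.univ.image (fD Tr) with hID
  have hcR : 2 * IR.card = Fintype.card F - 2 := by
    rw [← card_range_R (F := F), hIR, ← Set.ncard_coe_finset]; simp
  have hcD : 2 * ID.card = Fintype.card F := by
    rw [← card_range_D Tr, hID, ← Set.ncard_coe_finset]; simp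
  have degIR : ∀ k ∈ IR, k.1 1 = ((Fintype.card F + 1 : ℕ) : ℂ) := by
    intro k hk
    obtain ⟨β, -, rfl⟩ := Finset.mem_image.1 hk
    show R β.1 1 = _
    rw [R_one]; push_cast; rfl
  have degID : ∀ k ∈ ID, k.1 1 = ((Fintype.card F - 1 : ℕ) : ℂ) := by
    intro k hk
    obtain ⟨β, -, rfl⟩ := Finset.mem_image.1 hk
    show D Tr β.1 1 = _
    rw [D_one, Nat.cast_sub hq.le, Nat.cast_one]
  have d12 : Disjoint IR ID := by
    rw [Finset.disjoint_left]
    intro k h1 h2'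
    have := (degIR k h1).symm.trans (degID k h2')
    rw [Nat.cast_inj] at this; omega
  have d34 : Disjoint ({irrOne, irrSt} : Finset (Cfsg.IrrCharacter SL(2, F))) (IR ∪ ID) := by
    rw [Finset.disjoint_left]
    intro k hk hk'
    simp only [Finset.mem_insert, Finset.mem_singleton] at hk
    rcases Finset.mem_union.1 hk' with h | h
    · have h' := degIR k h
      rcases hk with rfl | rfl
      · simp [irrOne] at h'
      · rw [show (irrSt (F := F)).1 1 = (Fintype.card F : ℂ) from St_one, Nat.cast_inj] at h'; omega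
    · rcases hk with rfl | rfl
      · obtain ⟨η, -, hη⟩ := Finset.mem_image.1 h
        have := classInner_D_const Tr η.1
        rw [show D Tr η.1 = fun _ => (1 : ℂ) from congrArg Subtype.val hη,
          classInner_isIrr_self isIrr_one, if_neg (fun e => η.2 (one_pow_two (x := η.1) e))] at this
        norm_num at this
      · have h' := degID _ h
        rw [show (irrSt (F := F)).1 1 = (Fintype.card F : ℂ) from St_one, Nat.cast_inj] at h'; omega
  have hne1 : (irrOne : Cfsg.IrrCharacter SL(2, F)) ≠ irrSt := fun e => by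
    have := congrArg (fun k : Cfsg.IrrCharacter SL(2, F) => k.1 1) e
    simp only [irrOne, irrSt, St_one] at this
    rw [eq_comm, Nat.cast_eq_one] at this; omega
  set A := ({irrOne, irrSt} : Finset (Cfsg.IrrCharacter SL(2, F))) ∪ (IR ∪ ID) with hA
  choose deg hdeg0 hdeg using fun k : Cfsg.IrrCharacter SL(2, F) => exists_degree_pos k.2
  have htot : ∑ k, deg k ^ 2 = Fintype.card F * (Fintype.card F ^ 2 - 1) := by
    have := sum_degree_sq (G := SL(2, F))
    simp only [hdeg, card_SL2] at this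
    exact_mod_cast this
  have val : ∀ (k : Cfsg.IrrCharacter SL(2, F)) (n : ℕ), k.1 1 = n → deg k = n := fun k n h => by
    rw [hdeg] at h; exact_mod_cast h
  have hsumA : ∑ k ∈ A, deg k ^ 2 = 1 + Fintype.card F ^ 2 +
      (IR.card * (Fintype.card F + 1) ^ 2 + ID.card * (Fintype.card F - 1) ^ 2) := by
    rw [hA, Finset.sum_union d34, Finset.sum_union d12, Finset.sum_pair hne1,
      Finset.sum_congr rfl (fun k hk => by rw [val k _ (degIR k hk)]) (s₁ := IR),
      Finset.sum_congr rfl (fun k hk => by rw [val k _ (degID k hk)]) (s₁ := ID), Finset.sum_const,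
      Finset.sum_const, val irrOne 1 (by simp [irrOne]), val irrSt (Fintype.card F) St_one]
    simp only [smul_eq_mul]; ring
  have hfull : ∑ k ∈ A, deg k ^ 2 = ∑ k, deg k ^ 2 := by
    obtain ⟨k, hk⟩ : ∃ k, Fintype.card F = 2 * k + 2 := ⟨Fintype.card F / 2 - 1, by omega⟩
    rw [hsumA, htot, show IR.card = k by omega, show ID.card = k + 1 by omega, hk,
      show 2 * k + 2 - 1 = 2 * k + 1 by omega,
      show (2 * k + 2) ^ 2 - 1 = (2 * k + 1) * (2 * k + 3) from Nat.sub_eq_of_eq_add (by ring)]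
    ring
  have hmem : (⟨χ, hχ⟩ : Cfsg.IrrCharacter SL(2, F)) ∈ A := by
    by_contra hn
    have h := Finset.sum_le_sum_of_subset (f := fun k => deg k ^ 2)
      (Finset.subset_univ (insert ⟨χ, hχ⟩ A))
    rw [Finset.sum_insert hn, hfull] at h
    have := Nat.pow_pos (n := 2) (hdeg0 ⟨χ, hχ⟩)
    omega
  simp only [hA, hIR, hID, Finset.mem_union, Finset.mem_insert, Finset.mem_singleton, Finset.mem_image,
    Finset.mem_univ, true_and] at hmem
  rcases hmem with (h | h) | ⟨β, h⟩ | ⟨η, h⟩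
  · obtain rfl : χ = fun _ => 1 := congrArg Subtype.val h
    exact Or.inl ⟨rfl, Nat.cast_one.symm⟩
  · obtain rfl : χ = St := congrArg Subtype.val h
    exact Or.inr (Or.inl ⟨rfl, St_one⟩)
  · obtain rfl : R β.1 = χ := congrArg Subtype.val h
    exact Or.inr (Or.inr (Or.inl ⟨β.1, β.2, rfl, by rw [R_one]; push_cast; rfl⟩))
  · obtain rfl : D Tr η.1 = χ := congrArg Subtype.val h
    exact Or.inr (Or.inr (Or.inr ⟨η.1, η.2, rfl, by rw [D_one, Nat.cast_sub hq.le, Nat.cast_one]⟩))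

theorem deg_q {χ : SL(2, F) → ℂ} (hχ : Cfsg.IsIrrCharacter SL(2, F) χ)
    (h : χ 1 = (Fintype.card F : ℂ)) : χ = St := by
  obtain ⟨g, -, hg⟩ := exists_nonsplit (F := F)
  have := Fintype.one_lt_card (α := F)
  rcases exhaustive ⟨g, hg⟩ χ hχ with ⟨_, e⟩ | ⟨e', -⟩ | ⟨_, _, _, e⟩ | ⟨_, _, _, e⟩
  case inr.inl => exact e'
  all_goals exfalso; rw [h, Nat.cast_inj] at e; omega

/-- The numbers of irreducible characters of each degree. -/
theorem degree_counts (hq : 4 ≤ Fintype.card F) :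
    {χ : Cfsg.IrrCharacter SL(2, F) | χ.1 1 = 1}.ncard = 1 ∧
    {χ : Cfsg.IrrCharacter SL(2, F) | χ.1 1 = (Fintype.card F : ℂ)}.ncard = 1 ∧
    {χ : Cfsg.IrrCharacter SL(2, F) | χ.1 1 = (Fintype.card F : ℂ) + 1}.ncard = (Fintype.card F - 2) / 2 ∧
    {χ : Cfsg.IrrCharacter SL(2, F) | χ.1 1 = (Fintype.card F : ℂ) - 1}.ncard = Fintype.card F / 2 := by
  obtain ⟨g, -, hg⟩ := exists_nonsplit (F := F)
  set Tr : NSTorus F := ⟨g, hg⟩
  refine ⟨?_, ?_, ?_, ?_⟩
  · refine Set.ncard_eq_one.2 ⟨irrOne, Set.eq_singleton_iff_unique_mem.2 ⟨rfl, fun χ h => ?_⟩⟩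
    have h' : χ.1 1 = ((1 : ℕ) : ℂ) := by rw [Nat.cast_one]; exact h
    rcases exhaustive Tr χ.1 χ.2 with ⟨e, -⟩ | ⟨_, e⟩ | ⟨_, _, _, e⟩ | ⟨_, _, _, e⟩
    · exact Subtype.ext e
    all_goals exfalso; rw [h', Nat.cast_inj] at e; omega
  · exact Set.ncard_eq_one.2 ⟨irrSt, Set.eq_singleton_iff_unique_mem.2
      ⟨St_one, fun χ h => Subtype.ext (deg_q χ.2 h)⟩⟩
  · rw [show {χ : Cfsg.IrrCharacter SL(2, F) | χ.1 1 = (Fintype.card F : ℂ) + 1} = Set.range fR by
      ext χ
      refine ⟨fun h => ?_, ?_⟩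
      · have h' : χ.1 1 = ((Fintype.card F + 1 : ℕ) : ℂ) := by rw [Nat.cast_succ]; exact h
        rcases exhaustive Tr χ.1 χ.2 with ⟨_, e⟩ | ⟨_, e⟩ | ⟨β, hb, e', -⟩ | ⟨_, _, _, e⟩
        case inr.inr.inl => exact ⟨⟨β, hb⟩, Subtype.ext e'.symm⟩
        all_goals exfalso; rw [h', Nat.cast_inj] at e; omega
      · rintro ⟨β, rfl⟩
        exact R_one β.1]
    have := card_range_R (F := F)
    omega
  · rw [show {χ : Cfsg.IrrCharacter SL(2, F) | χ.1 1 = (Fintype.card F : ℂ) - 1} = Set.range (fD Tr) by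
      ext χ
      refine ⟨fun h => ?_, ?_⟩
      · have h' : χ.1 1 = ((Fintype.card F - 1 : ℕ) : ℂ) := by
          rw [Nat.cast_sub Fintype.card_pos, Nat.cast_one]; exact h
        rcases exhaustive Tr χ.1 χ.2 with ⟨_, e⟩ | ⟨_, e⟩ | ⟨_, _, _, e⟩ | ⟨η, he, e', -⟩
        case inr.inr.inr => exact ⟨⟨η, he⟩, Subtype.ext e'.symm⟩
        all_goals exfalso; rw [h', Nat.cast_inj] at e; omega
      · rintro ⟨η, rfl⟩
        exact D_one Tr η.1]
    have := card_range_D Tr
    omega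

end CfsgLib.SL2CharTable.Even
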