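import Cfsg.Agent.SL2CharTable.Values

/-!
# The table of `SL₂(q)`, `q` odd, in the form needed for applications
-/

set_option autoImplicit false
set_option linter.unusedSectionVars false

namespace CfsgLib.SL2CharTable

open Matrix CfsgLib.SL2Borel CfsgLib.SL2Tori CfsgLib.Characters
open scoped MatrixGroups ComplexConjugate

variable {F : Type*} [Field F] [Fintype F] [DecidableEq F]

/-- Elements without an eigenvalue are conjugate to regular torus elements. -/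
theorem exists_torus_conj (Tr : NSTorus F) (h2 : (2 : F) ≠ 0) {g : SL(2, F)}
    (hg : ∀ m : F, m ^ 2 + tr g * m + 1 ≠ 0) :
    ∃ t : Tr.T, (t : SL(2, F)) ≠ 1 ∧ (t : SL(2, F)) ≠ -1 ∧ IsConj (t : SL(2, F)) g := by
  refine (element_cases Tr h2 g).resolve_left ?_
  rintro ⟨a, x, h⟩
  obtain ⟨c, hc⟩ := isConj_iff.1 h
  have e : tr g = tr (SL2Borel.mk a x) := by
    rw [← hc]
    simp only [tr, Matrix.SpecialLinearGroup.coe_mul]
    rw [Matrix.trace_mul_cycle, ← Matrix.SpecialLinearGroup.coe_mul, inv_mul_cancel,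
      Matrix.SpecialLinearGroup.coe_one, one_mul]
  exact hg (-(a : F)) (by rw [e]; exact root_of_mem a x)

/-- A matrix of diagonal shape. -/
theorem exists_mk_of_upper {g : SL(2, F)} (h10 : g 1 0 = 0) :
    ∃ (a : Fˣ) (x : F), g = mk a x ∧ g 0 0 = (a : F) ∧ g 1 1 = ((a⁻¹ : Fˣ) : F) ∧ g 0 1 = x := by
  have e : mk ((borelEquiv F).symm ⟨g, mem_borel.2 h10⟩).1 ((borelEquiv F).symm ⟨g, mem_borel.2 h10⟩).2 = g :=
    congrArg Subtype.val ((borelEquiv F).apply_symm_apply ⟨g, mem_borel.2 h10⟩)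
  refine ⟨_, _, e.symm, ?_, ?_, ?_⟩
  · conv_lhs => rw [← e]
    exact (mk_apply _ _).1
  · conv_lhs => rw [← e]
    exact (mk_apply _ _).2.2.2
  · conv_lhs => rw [← e]
    exact (mk_apply _ _).2.1

theorem St_regular {a : Fˣ} (ha : a ^ 2 ≠ 1) (x : F) : (St : SL(2, F) → ℂ) (mk a x) = 1 := by
  simp [St, R_mk_regular _ ha]

theorem St_unipotent {e : Fˣ} (he : e = 1 ∨ e = -1) {x : F} (hx : x ≠ 0) :
    (St : SL(2, F) → ℂ) (mk e x) = 0 := by
  simp [St, R_unipotent _ he hx]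

theorem St_nonsplit {g : SL(2, F)} (hg : ∀ m : F, m ^ 2 + tr g * m + 1 ≠ 0) :
    (St : SL(2, F) → ℂ) g = -1 := by
  simp [St, R_nonsplit _ hg]

namespace Halves

variable {Tr : NSTorus F} {h2 : (2 : F) ≠ 0} (H : Halves Tr h2)

theorem χ_regular {a : Fˣ} (ha : a ^ 2 ≠ 1) (x : F) :
    H.χ₁ (SL2Borel.mk a x) = (H.α a : ℂ) ∧ H.χ₂ (SL2Borel.mk a x) = (H.α a : ℂ) := by
  have e := R_mk_regular H.α ha x
  rw [H.R_eq, Pi.add_apply] at e
  have hinv : H.α a⁻¹ = H.α a := by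
    rw [map_inv, inv_eq_iff_mul_eq_one, ← pow_two, ← MonoidHom.pow_apply, H.α_sq, MonoidHom.one_apply]
  rw [hinv] at e
  have d := H.balanced_χ.regular ha x
  rw [Pi.sub_apply] at d
  exact ⟨by linear_combination (1 / 2 : ℂ) * e + (1 / 2 : ℂ) * d,
    by linear_combination (1 / 2 : ℂ) * e - (1 / 2 : ℂ) * d⟩

theorem χ_nonsplit {g : SL(2, F)} (hg : ∀ m : F, m ^ 2 + tr g * m + 1 ≠ 0) : H.χ₁ g = 0 ∧ H.χ₂ g = 0 := by
  have e := R_nonsplit H.α hg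
  rw [H.R_eq, Pi.add_apply] at e
  obtain ⟨t, -, -, hc⟩ := exists_torus_conj Tr h2 hg
  have d := classFun_congr H.balanced_χ.cls hc
  rw [H.balanced_χ.torus t, Pi.sub_apply] at d
  exact ⟨by linear_combination (1 / 2 : ℂ) * e + (1 / 2 : ℂ) * d,
    by linear_combination (1 / 2 : ℂ) * e - (1 / 2 : ℂ) * d⟩

theorem ψ_regular {a : Fˣ} (ha : a ^ 2 ≠ 1) (x : F) :
    H.ψ₁ (SL2Borel.mk a x) = 0 ∧ H.ψ₂ (SL2Borel.mk a x) = 0 := by
  have e := D_regular Tr h2 H.θ ha x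
  rw [H.D_eq, Pi.add_apply] at e
  have d := H.balanced_ψ.regular ha x
  rw [Pi.sub_apply] at d
  exact ⟨by linear_combination (1 / 2 : ℂ) * e + (1 / 2 : ℂ) * d,
    by linear_combination (1 / 2 : ℂ) * e - (1 / 2 : ℂ) * d⟩

theorem ψ_torus (t : Tr.T) (h1 : (t : SL(2, F)) ≠ 1) (h1' : (t : SL(2, F)) ≠ -1) :
    H.ψ₁ t = -(H.θ t : ℂ) ∧ H.ψ₂ t = -(H.θ t : ℂ) := by
  have e := D_torus Tr h2 H.θ t h1 h1'
  rw [H.D_eq, Pi.add_apply] at e
  have hinv : H.θ t⁻¹ = H.θ t := by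
    rw [map_inv, inv_eq_iff_mul_eq_one, ← pow_two, ← MonoidHom.pow_apply, H.θ_sq, MonoidHom.one_apply]
  rw [hinv] at e
  have d := H.balanced_ψ.torus t
  rw [Pi.sub_apply] at d
  exact ⟨by linear_combination (1 / 2 : ℂ) * e + (1 / 2 : ℂ) * d,
    by linear_combination (1 / 2 : ℂ) * e - (1 / 2 : ℂ) * d⟩

/-- The irreducible characters with their degrees. -/
theorem cases (H : Halves Tr h2) {χ : SL(2, F) → ℂ} (hχ : Cfsg.IsIrrCharacter SL(2, F) χ) :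
    (χ = (fun _ => 1) ∧ χ 1 = ((1 : ℕ) : ℂ)) ∨ (χ = St ∧ χ 1 = (Fintype.card F : ℂ)) ∨
    (∃ β : Fˣ →* ℂˣ, β ^ 2 ≠ 1 ∧ χ = R β ∧ χ 1 = ((Fintype.card F + 1 : ℕ) : ℂ)) ∨
    (∃ η : Tr.T →* ℂˣ, η ^ 2 ≠ 1 ∧ χ = D Tr h2 η ∧ χ 1 = ((Fintype.card F - 1 : ℕ) : ℂ)) ∨
    ((χ = H.χ₁ ∨ χ = H.χ₂) ∧ χ 1 = (((Fintype.card F + 1) / 2 : ℕ) : ℂ)) ∨
    ((χ = H.ψ₁ ∨ χ = H.ψ₂) ∧ χ 1 = (((Fintype.card F - 1) / 2 : ℕ) : ℂ)) := by
  rcases H.exhaustive χ hχ with h | h | ⟨β, hb, h⟩ | ⟨η, he, h⟩ | h | h | h | h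
  · exact Or.inl ⟨h, by rw [h, Nat.cast_one]⟩
  · exact Or.inr (Or.inl ⟨h, by rw [h, St_one]⟩)
  · exact Or.inr (Or.inr (Or.inl ⟨β, hb, h, by rw [h, R_one]; push_cast; rfl⟩))
  · exact Or.inr (Or.inr (Or.inr (Or.inl ⟨η, he, h, by
      rw [h, D_one, Nat.cast_sub Fintype.card_pos, Nat.cast_one]⟩)))
  · exact Or.inr (Or.inr (Or.inr (Or.inr (Or.inl ⟨Or.inl h, by rw [h, H.χ₁_one]⟩))))
  · exact Or.inr (Or.inr (Or.inr (Or.inr (Or.inl ⟨Or.inr h, by rw [h, H.χ₂_one]⟩))))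
  · exact Or.inr (Or.inr (Or.inr (Or.inr (Or.inr ⟨Or.inl h, by rw [h, H.ψ₁_one]⟩))))
  · exact Or.inr (Or.inr (Or.inr (Or.inr (Or.inr ⟨Or.inr h, by rw [h, H.ψ₂_one]⟩))))

theorem deg_q (H : Halves Tr h2) {χ : SL(2, F) → ℂ} (hχ : Cfsg.IsIrrCharacter SL(2, F) χ)
    (h : χ 1 = (Fintype.card F : ℂ)) : χ = St := by
  have := odd_card (F := F) h2
  have := Fintype.one_lt_card (α := F)
  rcases H.cases hχ with ⟨_, e⟩ | ⟨e', -⟩ | ⟨_, _, _, e⟩ | ⟨_, _, _, e⟩ | ⟨_, e⟩ | ⟨_, e⟩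
  case inr.inl => exact e'
  all_goals exfalso; rw [h, Nat.cast_inj] at e; omega

theorem deg_plus (H : Halves Tr h2) {χ : SL(2, F) → ℂ} (hχ : Cfsg.IsIrrCharacter SL(2, F) χ)
    (h : χ 1 = (Fintype.card F : ℂ) + 1) : ∃ β : Fˣ →* ℂˣ, β ^ 2 ≠ 1 ∧ χ = R β := by
  have h' : χ 1 = ((Fintype.card F + 1 : ℕ) : ℂ) := by rw [h]; push_cast; rfl
  have := odd_card (F := F) h2
  have := Fintype.one_lt_card (α := F)
  rcases H.cases hχ with ⟨_, e⟩ | ⟨_, e⟩ | ⟨β, hb, hb', e⟩ | ⟨_, _, _, e⟩ | ⟨_, e⟩ | ⟨_, e⟩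
  case inr.inr.inl => exact ⟨β, hb, hb'⟩
  all_goals exfalso; rw [h', Nat.cast_inj] at e; omega

theorem deg_minus (H : Halves Tr h2) {χ : SL(2, F) → ℂ} (hχ : Cfsg.IsIrrCharacter SL(2, F) χ)
    (h : χ 1 = (Fintype.card F : ℂ) - 1) : (∃ η : Tr.T →* ℂˣ, η ^ 2 ≠ 1 ∧ χ = D Tr h2 η) ∨
      (Fintype.card F = 3 ∧ (χ = H.χ₁ ∨ χ = H.χ₂)) := by
  have h' : χ 1 = ((Fintype.card F - 1 : ℕ) : ℂ) := by rw [h, Nat.cast_sub Fintype.card_pos, Nat.cast_one]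
  have := odd_card (F := F) h2
  have := Fintype.one_lt_card (α := F)
  rcases H.cases hχ with ⟨_, e⟩ | ⟨_, e⟩ | ⟨_, _, _, e⟩ | ⟨η, he, he', e⟩ | ⟨hh, e⟩ | ⟨_, e⟩
  case inr.inr.inr.inl => exact Or.inl ⟨η, he, he'⟩
  case inr.inr.inr.inr.inl =>
    refine Or.inr ⟨?_, hh⟩
    rw [h', Nat.cast_inj] at e; omega
  all_goals exfalso; rw [h', Nat.cast_inj] at e; omega

theorem deg_half_plus (H : Halves Tr h2) (hq : 5 ≤ Fintype.card F) {χ : SL(2, F) → ℂ}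
    (hχ : Cfsg.IsIrrCharacter SL(2, F) χ) (h : χ 1 = (((Fintype.card F + 1) / 2 : ℕ) : ℂ)) :
    χ = H.χ₁ ∨ χ = H.χ₂ := by
  have := odd_card (F := F) h2
  rcases H.cases hχ with ⟨_, e⟩ | ⟨_, e⟩ | ⟨_, _, _, e⟩ | ⟨_, _, _, e⟩ | ⟨hh, -⟩ | ⟨_, e⟩
  case inr.inr.inr.inr.inl => exact hh
  all_goals exfalso; rw [h, Nat.cast_inj] at e; omega

theorem deg_half_minus (H : Halves Tr h2) (hq : 5 ≤ Fintype.card F) {χ : SL(2, F) → ℂ}
    (hχ : Cfsg.IsIrrCharacter SL(2, F) χ) (h : χ 1 = (((Fintype.card F - 1) / 2 : ℕ) : ℂ)) :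
    χ = H.ψ₁ ∨ χ = H.ψ₂ := by
  have := odd_card (F := F) h2
  rcases H.cases hχ with ⟨_, e⟩ | ⟨_, e⟩ | ⟨_, _, _, e⟩ | ⟨_, _, _, e⟩ | ⟨_, e⟩ | ⟨hh, -⟩
  case inr.inr.inr.inr.inr => exact hh
  all_goals exfalso; rw [h, Nat.cast_inj] at e; omega

end Halves

/-- The norm of the difference of a pair of halves at a unipotent element. -/
theorem norm_unipotent {Tr : NSTorus F} {h2 : (2 : F) ≠ 0} {χ ψ : SL(2, F) → ℂ}
    (hχ : Cfsg.IsIrrCharacter SL(2, F) χ) (hψ : Cfsg.IsIrrCharacter SL(2, F) ψ) (hne : χ ≠ ψ)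
    (h1 : χ 1 = ψ 1) (hn : χ (-1) = ψ (-1)) (B : Balanced Tr h2 (χ - ψ)) :
    (χ - ψ) (mk 1 1) * conj ((χ - ψ) (mk 1 1)) = (Fintype.card F : ℂ) := by
  set Δ := χ - ψ with hΔ
  set u : ℂ := Δ (mk 1 1) * conj (Δ (mk 1 1)) with hu
  obtain ⟨n, hn0, hdeg⟩ := exists_degree_pos hχ
  have hne1 : χ 1 ≠ 0 := by rw [hdeg]; exact Nat.cast_ne_zero.2 hn0.ne'
  have hnc : (-1 : SL(2, F)) ∈ Subgroup.center SL(2, F) := (SL2Trace.mem_center_iff_eq _).2 (Or.inr rfl)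
  -- the absolute value is the same on all non-trivial unipotent classes
  have hq : ∀ y : F, y ≠ 0 → (quadraticChar F y : ℂ) * conj (quadraticChar F y : ℂ) = 1 := by
    intro y hy
    rw [map_intCast, ← Int.cast_mul, ← sq, quadraticChar_sq_one hy, Int.cast_one]
  have hval : ∀ e : Fˣ, (e = 1 ∨ e = -1) → ∀ x : F, x ≠ 0 → Δ (mk e x) * conj (Δ (mk e x)) = u := by
    intro e he x hx
    have hun : ∀ y : F, y ≠ 0 → Δ (mk 1 y) * conj (Δ (mk 1 y)) = u := by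
      intro y hy
      rw [B.unipotent (Or.inl rfl) hy, map_mul, hu]
      linear_combination (Δ (mk 1 1) * conj (Δ (mk 1 1))) * hq y hy
    rcases he with rfl | rfl
    · exact hun x hx
    rw [mk_mul_central (Or.inr rfl) x, mk_neg_one_zero]
    have hmul : ∀ y, χ 1 * Δ (-1 * y) = χ (-1) * Δ y := by
      intro y
      have a := central_mul hχ hnc y
      have b := central_mul hψ hnc y
      rw [← h1, ← hn] at b
      simp only [hΔ, Pi.sub_apply]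
      linear_combination a - b
    obtain hs | hs := central_sign hχ hnc (by simp)
    · have := hmul (mk 1 (((-1 : Fˣ) : F) * x))
      rw [hs] at this
      rw [mul_left_cancel₀ hne1 this]
      exact hun _ (by simpa using hx)
    · have := hmul (mk 1 (((-1 : Fˣ) : F) * x))
      rw [hs] at this
      rw [mul_left_cancel₀ hne1 (show χ 1 * Δ (-1 * mk 1 (((-1 : Fˣ) : F) * x)) =
        χ 1 * -Δ (mk 1 (((-1 : Fˣ) : F) * x)) by linear_combination this), map_neg, neg_mul_neg]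
      exact hun _ (by simpa using hx)
  have hnorm : Cfsg.classInner Δ Δ = 2 := by
    rw [hΔ, classInner_sub_left, classInner_sub_right, classInner_sub_right, classInner_isIrr_self hχ,
      classInner_isIrr_self hψ, classInner_isIrr_ne hχ hψ hne, classInner_isIrr_ne hψ hχ hne.symm]
    norm_num
  have hmove : Cfsg.classInner (R (1 : Fˣ →* ℂˣ)) (fun g => Δ g * conj (Δ g)) = Cfsg.classInner Δ Δ := by
    simp only [Cfsg.classInner, map_mul, Complex.conj_conj]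
    congr 1
    refine Finset.sum_congr rfl fun g _ => ?_
    linear_combination (conj (Δ g)) * B.R_trivial_mul g
  rw [classInner_R_of_shape h2 1 (fun g h => by simp only [B.cls g h]) (fun _ => 0)
    (fun a ha x => by simp [B.regular ha x]) (((Fintype.card F : ℂ) - 1) * u / Fintype.card F) 1
    (fun e he => ?_), hnorm] at hmove
  · have hq0 : (Fintype.card F : ℂ) ≠ 0 := Nat.cast_ne_zero.2 Fintype.card_ne_zero
    have hq1 : (Fintype.card F : ℂ) - 1 ≠ 0 :=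
      sub_ne_zero.2 (Nat.cast_ne_one.2 (Fintype.one_lt_card (α := F)).ne')
    have hur : conj u = u := by rw [hu, map_mul, Complex.conj_conj, mul_comm]
    simp only [map_zero, mul_zero, Finset.sum_const_zero, zero_add, MonoidHom.one_apply, Units.val_one,
      map_one, mul_one, map_div₀, map_mul, map_sub, map_natCast, hur] at hmove
    rw [Nat.cast_sub Fintype.card_pos, Nat.cast_one] at hmove
    field_simp at hmove
    linear_combination (1 / 2 : ℂ) * hmove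
  · rw [sum_central (fun x => Δ (mk e x) * conj (Δ (mk e x))) u (fun x hx => hval e he x hx),
      B.central he]
    have hq0 : (Fintype.card F : ℂ) ≠ 0 := Nat.cast_ne_zero.2 Fintype.card_ne_zero
    simp only [MonoidHom.one_apply, Units.val_one, zero_mul, zero_add, mul_one]
    field_simp

end CfsgLib.SL2CharTable
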