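import Cfsg.Agent.SL2CharTable.Uniform
import Cfsg.Agent.SL2CharTable.Final

/-!
# The diagonal automorphism of `SL₂(q)` exchanges the halves
-/

set_option autoImplicit false
set_option linter.unusedSectionVars false

namespace CfsgLib.SL2CharTable

open Matrix CfsgLib.SL2Borel CfsgLib.SL2Tori CfsgLib.Characters
open scoped MatrixGroups ComplexConjugate

variable {F : Type*} [Field F] [Fintype F] [DecidableEq F]

/-- The diagonal matrix with entries `u, 1`. -/
def diagGL (u : Fˣ) : GL (Fin 2) F :=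
  ⟨!![(u : F), 0; 0, 1], !![((u⁻¹ : Fˣ) : F), 0; 0, 1],
    by simp [Matrix.mul_fin_two, ← Matrix.one_fin_two], by simp [Matrix.mul_fin_two, ← Matrix.one_fin_two]⟩

/-- Conjugation by `diagGL u` on `SL₂`. -/
def diagAut (u : Fˣ) : SL(2, F) →* SL(2, F) where
  toFun g := ⟨!![g 0 0, (u : F) * g 0 1; ((u⁻¹ : Fˣ) : F) * g 1 0, g 1 1], by
    have h := g.2
    rw [Matrix.det_fin_two] at h
    have hu := u.mul_inv
    rw [Matrix.det_fin_two_of]
    linear_combination h - (g 0 1 * g 1 0) * hu⟩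
  map_one' := Subtype.ext (by simp [← Matrix.one_fin_two])
  map_mul' g h := Subtype.ext (by
    have hu := u.mul_inv
    show _ = !![g 0 0, (u : F) * g 0 1; ((u⁻¹ : Fˣ) : F) * g 1 0, g 1 1] *
      !![h 0 0, (u : F) * h 0 1; ((u⁻¹ : Fˣ) : F) * h 1 0, h 1 1]
    ext i j
    fin_cases i <;> fin_cases j <;> simp [Matrix.mul_apply, Fin.sum_univ_two] <;> field_simp <;> ring)

theorem diagAut_apply (u : Fˣ) (g : SL(2, F)) :
    (diagAut u g).1 = !![g 0 0, (u : F) * g 0 1; ((u⁻¹ : Fˣ) : F) * g 1 0, g 1 1] := rfl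

theorem diagAut_bijective (u : Fˣ) : Function.Bijective (diagAut u) := by
  refine Function.bijective_iff_has_inverse.2 ⟨diagAut u⁻¹, fun g => ?_, fun g => ?_⟩ <;>
  · apply Subtype.ext
    rw [diagAut_apply, diagAut_apply]
    ext i j
    fin_cases i <;> fin_cases j <;> simp

theorem toGL_diagAut (u : Fˣ) (g : SL(2, F)) :
    Matrix.SpecialLinearGroup.toGL (diagAut u g) =
      diagGL u * Matrix.SpecialLinearGroup.toGL g * (diagGL u)⁻¹ := by
  rw [eq_mul_inv_iff_mul_eq]
  apply Units.ext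
  show (diagAut u g).1 * (diagGL u).1 = (diagGL u).1 * g.1
  rw [diagAut_apply, diagGL, Matrix.eta_fin_two g.1]
  simp [Matrix.mul_fin_two]
  refine ⟨mul_comm _ _, ?_⟩
  field_simp

theorem diagAut_mk (u a : Fˣ) (x : F) : diagAut u (mk a x) = mk a ((u : F) * x) := by
  apply Subtype.ext
  rw [diagAut_apply, coe_mk, coe_mk]
  ext i j
  fin_cases i <;> fin_cases j <;> simp [mk]

theorem tr_diagAut (u : Fˣ) (g : SL(2, F)) : tr (diagAut u g) = tr g := by
  simp [tr, diagAut_apply, Matrix.trace_fin_two]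

theorem classFunction_diagAut {f : SL(2, F) → ℂ} (hf : Cfsg.IsClassFunction SL(2, F) f) (u : Fˣ) :
    Cfsg.IsClassFunction SL(2, F) fun g => f (diagAut u g) := fun g h => by
  simp only [map_mul, map_inv]
  exact hf _ _

/-- The induced characters are invariant under the diagonal automorphisms. -/
theorem R_diagAut (β : Fˣ →* ℂˣ) (u : Fˣ) (g : SL(2, F)) : R β (diagAut u g) = R β g := by
  by_cases h : ∃ m : F, m ^ 2 + tr g * m + 1 = 0
  · obtain ⟨m, hm⟩ := h
    obtain ⟨a, x, hc⟩ := exists_mk g hm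
    have key : R β (diagAut u (mk a x)) = R β (mk a x) := by
      rw [diagAut_mk]
      by_cases ha : a ^ 2 = 1
      · have he : a = 1 ∨ a = -1 := by_contra fun h => sq_ne_one_iff.2 h ha
        by_cases hx : x = 0
        · subst hx; rw [mul_zero]
        · rw [R_unipotent β he hx, R_unipotent β he (mul_ne_zero u.ne_zero hx)]
      · rw [R_mk_regular β ha, R_mk_regular β ha]
    obtain ⟨c, rfl⟩ := isConj_iff.1 hc
    rw [isClassFunction_R β (mk a x) c, map_mul, map_mul, map_inv, isClassFunction_R β _ (diagAut u c), key]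
  · simp only [not_exists] at h
    rw [R_nonsplit β h, R_nonsplit β (by rw [tr_diagAut]; exact h)]

theorem Halves.diagAut_swap {Tr : NSTorus F} {h2 : (2 : F) ≠ 0} (H : Halves Tr h2) {u : Fˣ}
    (hu : ¬ IsSquare (u : F)) : (fun g => H.χ₁ (diagAut u g)) = H.χ₂ := by
  have hirr : Cfsg.IsIrrCharacter SL(2, F) (fun g => H.χ₁ (diagAut u g)) :=
    isIrr_comp (diagAut u) (diagAut_bijective u).2 H.χ₁_irr
  have hinner : Cfsg.classInner (R H.α) (fun g => H.χ₁ (diagAut u g)) = 1 := by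
    rw [← H.inner_parts.1]
    simp only [Cfsg.classInner]
    congr 1
    exact Fintype.sum_equiv (Equiv.ofBijective _ (diagAut_bijective u)) _ _ fun g => by
      rw [Equiv.ofBijective_apply, R_diagAut]
  by_contra hne
  have h1 : (fun g => H.χ₁ (diagAut u g)) = H.χ₁ := by
    by_contra hne1
    rw [H.R_eq, classInner_add_left, classInner_isIrr_ne H.χ₁_irr hirr (Ne.symm hne1),
      classInner_isIrr_ne H.χ₂_irr hirr (Ne.symm hne), add_zero] at hinner
    exact zero_ne_one hinner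
  have e1 := congrFun h1 (SL2Borel.mk 1 1)
  simp only [diagAut_mk, mul_one] at e1
  have hs : ∀ x : F, x ≠ 0 → H.χ₁ (SL2Borel.mk 1 x) + H.χ₂ (SL2Borel.mk 1 x) = 1 := fun x hx => by
    rw [← Pi.add_apply, ← H.R_eq, R_unipotent _ (Or.inl rfl) hx]; simp
  have b := H.balanced_χ.unipotent (Or.inl rfl) u.ne_zero
  rw [quadraticChar_neg_one_iff_not_isSquare.2 hu, Pi.sub_apply, Pi.sub_apply] at b
  push_cast at b
  have hu1 := hs u u.ne_zero
  have h11 := hs 1 one_ne_zero
  have hz : H.χ₁ (SL2Borel.mk 1 1) - H.χ₂ (SL2Borel.mk 1 1) = 0 := by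
    linear_combination (1 / 2 : ℂ) * b - e1 + (1 / 2 : ℂ) * hu1 - (1 / 2 : ℂ) * h11
  have := norm_unipotent H.χ₁_irr H.χ₂_irr H.χ_ne (H.χ₁_one.trans H.χ₂_one.symm)
    (by rw [H.χ_neg_one.1, H.χ_neg_one.2, H.χ₁_one, H.χ₂_one]) H.balanced_χ
  rw [Pi.sub_apply, hz, zero_mul] at this
  exact Nat.cast_ne_zero.2 Fintype.card_ne_zero this.symm

end CfsgLib.SL2CharTable
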