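import Cfsg.Agent.SL2CharTable.Final
import Cfsg.Agent.SL2Tori.SylowTwo

/-!
# Recognition lemmas for applying the table of `SL₂(q)`
-/

set_option autoImplicit false
set_option linter.unusedSectionVars false

namespace CfsgLib.SL2CharTable

open Matrix CfsgLib.SL2Borel CfsgLib.SL2Tori CfsgLib.Characters
open scoped MatrixGroups

variable {F : Type*} [Field F] [Fintype F] [DecidableEq F]

theorem mk_zero_pow (a : Fˣ) (n : ℕ) : mk a (0 : F) ^ n = mk (a ^ n) 0 := by
  induction n with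
  | zero => rw [pow_zero, pow_zero, mk_one_zero]
  | succ n ih => rw [pow_succ, ih, mk_mul, pow_succ]; simp

theorem mk_one_pow (x : F) (n : ℕ) : mk (1 : Fˣ) x ^ n = mk 1 ((n : F) * x) := by
  induction n with
  | zero => rw [pow_zero, Nat.cast_zero, zero_mul, mk_one_zero]
  | succ n ih => rw [pow_succ, ih, mk_mul, mul_one]; congr 1; simp; ring

/-- A regular element of the Borel subgroup has order dividing `q - 1`. -/
theorem mk_regular_pow {a : Fˣ} (ha : a ^ 2 ≠ 1) (x : F) : mk a x ^ (Fintype.card F - 1) = 1 := by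
  obtain ⟨c, hc⟩ := isConj_iff.1 (isConj_mk_zero ha x)
  have h : a ^ (Fintype.card F - 1) = 1 := by
    rw [← Fintype.card_units]; exact pow_card_eq_one
  rw [← hc, conj_pow, mk_zero_pow, h, mk_one_zero, mul_one, mul_inv_cancel]

/-- A central-times-unipotent element has order dividing `2q`. -/
theorem mk_central_pow {e : Fˣ} (he : e = 1 ∨ e = -1) (x : F) : mk e x ^ (2 * Fintype.card F) = 1 := by
  have h : mk e x * mk e x = mk 1 ((e : F) * x + x * ((e⁻¹ : Fˣ) : F)) := by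
    rw [mk_mul]
    congr 1
    rcases he with rfl | rfl <;> simp
  rw [pow_mul, sq, h, mk_one_pow, Nat.cast_card_eq_zero, zero_mul, mk_one_zero]

/-- A cyclic subgroup of order `q + 1` is a non-split torus. -/
theorem exists_torus_eq (h2 : (2 : F) ≠ 0) (C : Subgroup SL(2, F)) (hC : IsCyclic C)
    (hcard : Nat.card C = Fintype.card F + 1) : ∃ Tr : NSTorus F, C = Tr.T := by
  obtain ⟨⟨c, hcC⟩, hgen⟩ := hC.exists_generator
  have hord : orderOf c = Fintype.card F + 1 := by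
    rw [← hcard, ← orderOf_eq_card_of_forall_mem_zpowers hgen, Subgroup.orderOf_mk]
  have hodd := Halves.odd_card (F := F) h2
  have h1 := Fintype.one_lt_card (α := F)
  have hno : ∀ m : F, m ^ 2 + tr c * m + 1 ≠ 0 := by
    intro m hm
    obtain ⟨a, x, h⟩ := exists_mk c hm
    obtain ⟨k, hk⟩ := isConj_iff.1 h
    by_cases ha : a ^ 2 = 1
    · have he : a = 1 ∨ a = -1 := by_contra fun h => sq_ne_one_iff.2 h ha
      have hd : orderOf c ∣ 2 * Fintype.card F := orderOf_dvd_of_pow_eq_one (by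
        rw [← hk, conj_pow, mk_central_pow he, mul_one, mul_inv_cancel])
      rw [hord] at hd
      have hco : Nat.Coprime (Fintype.card F + 1) (Fintype.card F) :=
        Nat.coprime_self_add_left.2 (Nat.coprime_one_left _)
      have := Nat.le_of_dvd two_pos (hco.dvd_of_dvd_mul_right hd)
      omega
    · have hd : orderOf c ∣ Fintype.card F - 1 := orderOf_dvd_of_pow_eq_one (by
        rw [← hk, conj_pow, mk_regular_pow ha, mul_one, mul_inv_cancel])
      rw [hord] at hd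
      have := Nat.le_of_dvd (by omega) hd
      omega
  refine ⟨⟨c, hno⟩, Subgroup.eq_of_le_of_card_ge ?_ (by rw [NSTorus.card_T, hcard])⟩
  intro g hg
  refine Subgroup.mem_centralizer_iff.2 fun h hh => ?_
  obtain ⟨n, hn⟩ := Subgroup.mem_zpowers_iff.1 (hgen ⟨g, hg⟩)
  have e : c ^ n = g := by simpa using congrArg Subtype.val hn
  rw [show h = c from Set.mem_singleton_iff.1 hh, ← e]
  exact ((Commute.refl c).zpow_right n).eq

theorem not_center_iff {g : SL(2, F)} : g ∉ Subgroup.center SL(2, F) ↔ g ≠ 1 ∧ g ≠ -1 := by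
  rw [SL2Trace.mem_center_iff_eq, not_or]

end CfsgLib.SL2CharTable

namespace CfsgLib.SL2CharTable

open Matrix CfsgLib.SL2Borel CfsgLib.SL2Tori CfsgLib.Characters
open scoped MatrixGroups

variable {F : Type*} [Field F] [Fintype F] [DecidableEq F]

/-- Sums over the upper unitriangular subgroup. -/
theorem sum_unipotent_subgroup (f : SL(2, F) → ℂ) :
    (∑ g : SL(2, F), if (g : Matrix (Fin 2) (Fin 2) F) 1 0 = 0 ∧ (g : Matrix (Fin 2) (Fin 2) F) 0 0 = 1 ∧
      (g : Matrix (Fin 2) (Fin 2) F) 1 1 = 1 then f g else 0) = ∑ x : F, f (mk 1 x) := by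
  rw [← Finset.sum_filter]
  refine (Finset.sum_bij (fun x _ => mk (1 : Fˣ) x) (fun x _ => ?_) (fun x _ y _ h => ?_) (fun g hg => ?_)
    (fun x _ => rfl)).symm
  · simp [mk_apply]
  · have := congrArg (fun g : SL(2, F) => (g : Matrix (Fin 2) (Fin 2) F) 0 1) h
    simpa [mk_apply] using this
  · obtain ⟨-, h10, h00, h11⟩ := Finset.mem_filter.1 hg
    obtain ⟨a, x, rfl, ha, -, -⟩ := exists_mk_of_upper h10
    rw [ha, Units.val_eq_one] at h00
    exact ⟨x, Finset.mem_univ _, by rw [h00]⟩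

theorem sum_eq_one_add (f : SL(2, F) → ℂ) (c : ℂ) (h : ∀ x : F, x ≠ 0 → f (mk 1 x) = c) :
    ∑ x : F, f (mk 1 x) = f 1 + ((Fintype.card F : ℂ) - 1) * c := by
  rw [← Finset.add_sum_erase _ _ (Finset.mem_univ (0 : F)), mk_one_zero,
    Finset.sum_congr rfl fun x hx => h x (Finset.ne_of_mem_erase hx), Finset.sum_const,
    Finset.card_erase_of_mem (Finset.mem_univ _), Finset.card_univ, nsmul_eq_mul,
    Nat.cast_sub Fintype.card_pos, Nat.cast_one]

theorem sum_R (β : Fˣ →* ℂˣ) : ∑ x : F, R β (mk 1 x) = 2 * (Fintype.card F : ℂ) := by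
  rw [sum_eq_one_add (R β) 1 (fun x hx => by rw [R_unipotent _ (Or.inl rfl) hx]; simp), R_one]
  ring

theorem sum_St : ∑ x : F, (St : SL(2, F) → ℂ) (mk 1 x) = (Fintype.card F : ℂ) := by
  rw [sum_eq_one_add St 0 (fun x hx => St_unipotent (Or.inl rfl) hx), St_one]
  ring

theorem sum_D (Tr : NSTorus F) (h2 : (2 : F) ≠ 0) (η : Tr.T →* ℂˣ) :
    ∑ x : F, D Tr h2 η (mk 1 x) = 0 := by
  rw [sum_eq_one_add (D Tr h2 η) (-1) (fun x hx => by rw [D_unipotent _ _ _ (Or.inl rfl) hx]; simp), D_one]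
  ring

namespace Halves

variable {Tr : NSTorus F} {h2 : (2 : F) ≠ 0} (H : Halves Tr h2)

theorem sum_χ : ∑ x : F, H.χ₁ (SL2Borel.mk 1 x) = (Fintype.card F : ℂ) ∧
    ∑ x : F, H.χ₂ (SL2Borel.mk 1 x) = (Fintype.card F : ℂ) := by
  have d := H.balanced_χ.sum_eq_zero 1
  have e := sum_R (F := F) H.α
  simp only [H.R_eq, Pi.add_apply, Finset.sum_add_distrib] at e
  simp only [Pi.sub_apply, Finset.sum_sub_distrib] at d
  exact ⟨by linear_combination (1 / 2 : ℂ) * e + (1 / 2 : ℂ) * d,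
    by linear_combination (1 / 2 : ℂ) * e - (1 / 2 : ℂ) * d⟩

theorem sum_ψ : ∑ x : F, H.ψ₁ (SL2Borel.mk 1 x) = 0 ∧ ∑ x : F, H.ψ₂ (SL2Borel.mk 1 x) = 0 := by
  have d := H.balanced_ψ.sum_eq_zero 1
  have e := sum_D Tr h2 H.θ
  simp only [H.D_eq, Pi.add_apply, Finset.sum_add_distrib] at e
  simp only [Pi.sub_apply, Finset.sum_sub_distrib] at d
  exact ⟨by linear_combination (1 / 2 : ℂ) * e + (1 / 2 : ℂ) * d,
    by linear_combination (1 / 2 : ℂ) * e - (1 / 2 : ℂ) * d⟩

end Halves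

end CfsgLib.SL2CharTable

namespace CfsgLib.SL2CharTable

open Matrix CfsgLib.SL2Borel CfsgLib.SL2Tori CfsgLib.Characters
open scoped MatrixGroups ComplexConjugate

variable {F : Type*} [Field F] [Fintype F] [DecidableEq F]

/-- For three elements the discrete series vanishes off the Borel subgroup. -/
theorem D_nonsplit_three (Tr : NSTorus F) (h2 : (2 : F) ≠ 0) (h3 : Fintype.card F = 3) {η : Tr.T →* ℂˣ}
    (hη : η ^ 2 ≠ 1) {g : SL(2, F)} (hg : ∀ m : F, m ^ 2 + tr g * m + 1 ≠ 0) : D Tr h2 η g = 0 := by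
  obtain ⟨t, h1, h1', hc⟩ := exists_torus_conj Tr h2 hg
  haveI : Finite Tr.T := inferInstance
  have h4 : ∀ u : Tr.T, (u ^ 2) ^ 2 = 1 := fun u => by
    rw [← pow_mul, show 2 * 2 = Nat.card Tr.T by rw [Tr.card_T, h3]]; exact pow_card_eq_one'
  have key : ∀ u : Tr.T, u ^ 2 ≠ 1 → u ^ 2 = Tr.negT := fun u hu => by
    have e := congrArg Subtype.val (h4 u)
    rw [sq (u ^ 2), Subgroup.coe_mul, Subgroup.coe_one] at e
    rcases eq_one_or_neg_one_of_sq h2 e with a | a
    · exact absurd (Subtype.ext a) hu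
    · exact Subtype.ext a
  obtain ⟨u, hu⟩ : ∃ u, η u ^ 2 ≠ 1 := by
    by_contra h
    simp only [not_exists, ne_eq, not_not] at h
    exact hη (MonoidHom.ext fun c => by rw [MonoidHom.pow_apply, h c, MonoidHom.one_apply])
  have hu2 : u ^ 2 ≠ 1 := fun e => hu (by rw [← map_pow, e, map_one])
  have ht2 : t ^ 2 ≠ 1 := fun e => by
    have e' := congrArg Subtype.val e
    rw [sq, Subgroup.coe_mul, Subgroup.coe_one] at e'
    rcases eq_one_or_neg_one_of_sq h2 e' with a | a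
    exacts [h1 a, h1' a]
  have a : ((η u ^ 2 : ℂˣ) : ℂ) ^ 2 = 1 := by
    rw [← Units.val_pow_eq_pow_val, ← map_pow, ← map_pow, h4, map_one, Units.val_one]
  have hv : ((η t : ℂ)) ^ 2 = -1 := by
    rw [← Units.val_pow_eq_pow_val, ← map_pow, key t ht2, ← key u hu2, map_pow]
    exact (sq_eq_one_iff.1 a).resolve_left fun e => hu (Units.val_eq_one.1 e)
  rw [classFun_congr (isClassFunction_D Tr h2 η) hc, D_torus Tr h2 η t h1 h1', map_inv,
    Units.val_inv_eq_inv_val]
  have hne := (η t).ne_zero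
  field_simp
  linear_combination -hv

theorem quadraticChar_neg_one_pow (h2 : (2 : F) ≠ 0) :
    (quadraticChar F (-1) : ℂ) = (-1) ^ ((Fintype.card F - 1) / 2) := by
  have hc : ringChar F ≠ 2 := fun e => h2 (by
    have := ringChar.Nat.cast_ringChar (R := F)
    rw [e] at this; exact_mod_cast this)
  have hodd := FiniteField.odd_card_of_char_ne_two hc
  rw [quadraticChar_neg_one hc, ZMod.χ₄_eq_neg_one_pow hodd,
    show (Fintype.card F - 1) / 2 = Fintype.card F / 2 by omega]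
  push_cast
  rfl

/-- The square of the difference of two halves at a transvection. -/
theorem sq_unipotent {Tr : NSTorus F} {h2 : (2 : F) ≠ 0} {χ ψ : SL(2, F) → ℂ}
    (hχ : Cfsg.IsIrrCharacter SL(2, F) χ) (hψ : Cfsg.IsIrrCharacter SL(2, F) ψ) (hne : χ ≠ ψ)
    (h1 : χ 1 = ψ 1) (hn : χ (-1) = ψ (-1)) (B : Balanced Tr h2 (χ - ψ)) :
    (χ (mk 1 1) - ψ (mk 1 1)) ^ 2 = (-1) ^ ((Fintype.card F - 1) / 2) * (Fintype.card F : ℂ) := by
  have key := norm_unipotent hχ hψ hne h1 hn B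
  have hinv : (mk (1 : Fˣ) (1 : F))⁻¹ = mk 1 (-1) := inv_eq_of_mul_eq_one_right (by
    rw [mk_mul, mul_one, ← mk_one_zero]; congr 1; simp)
  have hcj : conj ((χ - ψ) (mk 1 1)) = (χ - ψ) (mk 1 (-1)) := by
    rw [← hinv, Pi.sub_apply, Pi.sub_apply, map_sub, ← character_inv (isCharacter_of_isIrr hχ),
      ← character_inv (isCharacter_of_isIrr hψ)]
  rw [hcj, B.unipotent (Or.inl rfl) (neg_ne_zero.2 one_ne_zero), quadraticChar_neg_one_pow h2, Pi.sub_apply] at key
  have hs : ((-1 : ℂ) ^ ((Fintype.card F - 1) / 2)) ^ 2 = 1 := by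
    rw [← pow_mul, mul_comm, pow_mul, neg_one_sq, one_pow]
  linear_combination ((-1 : ℂ) ^ ((Fintype.card F - 1) / 2)) * key -
    (χ (mk 1 1) - ψ (mk 1 1)) ^ 2 * hs

end CfsgLib.SL2CharTable
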