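import Cfsg.Agent.SL2CharTable.Counts
import Cfsg.Agent.SL2CharTable.Apply
import Cfsg.Agent.Blocks.Idempotent

/-!
# The blocks of `SL₂(q)`, `q` odd, in the defining characteristic
-/

set_option autoImplicit false
set_option linter.unusedSectionVars false
set_option linter.style.haveILetI false

namespace CfsgLib.SL2CharTable

open Matrix CfsgLib.SL2Borel CfsgLib.SL2Tori CfsgLib.Characters CfsgLib.Blocks
open scoped MatrixGroups ComplexConjugate

variable {F : Type*} [Field F] [Fintype F] [DecidableEq F]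

theorem natCast_isIntegral (n : ℕ) : IsIntegral ℤ (n : ℂ) := by
  simpa using (isIntegral_algebraMap (R := ℤ) (A := ℂ) (x := (n : ℤ)))

theorem centralChar_isConj {G : Type*} [Group G] [Fintype G] (χ : Cfsg.IrrCharacter G) {g h : G}
    (hgh : IsConj g h) : Cfsg.centralChar (χ : G → ℂ) g = Cfsg.centralChar (χ : G → ℂ) h := by
  rw [← omega_classSum, ← omega_classSum, ConjClasses.mk_eq_mk_iff_isConj.2 hgh]

theorem centralChar_central {G : Type*} [Group G] [Fintype G] (χ : G → ℂ) {z : G}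
    (hz : z ∈ Subgroup.center G) : Cfsg.centralChar χ z = χ z / χ 1 := by
  have e : Subgroup.centralizer ({z} : Set G) = ⊤ := by
    rw [eq_top_iff]
    intro g _
    exact Subgroup.mem_centralizer_singleton_iff.2 (Subgroup.mem_center_iff.1 hz g)
  rw [Cfsg.centralChar, e, Subgroup.index_top, Nat.cast_one, one_mul]

/-- The centraliser of a transvection has order `2q`. -/
theorem card_centralizer_unipotent (h2 : (2 : F) ≠ 0) {e : Fˣ} (he : e = 1 ∨ e = -1) {y : F} (hy : y ≠ 0) :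
    Nat.card (Subgroup.centralizer ({mk e y} : Set SL(2, F))) = 2 * Fintype.card F := by
  have hne : (1 : Fˣ) ≠ -1 := one_ne_neg_one h2
  have hmem : ∀ g : SL(2, F), g ∈ Subgroup.centralizer ({mk e y} : Set SL(2, F)) ↔
      ∃ (a : Fˣ) (x : F), (a = 1 ∨ a = -1) ∧ g = mk a x := by
    intro g
    rw [Subgroup.mem_centralizer_singleton_iff]
    constructor
    · intro h
      have h00 := congrArg (fun m : SL(2, F) => m.1 0 0) h
      have h01 := congrArg (fun m : SL(2, F) => m.1 0 1) h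
      have hei : ((e⁻¹ : Fˣ) : F) = (e : F) := by rcases he with rfl | rfl <;> simp
      simp [coe_mk, Matrix.mul_apply, Fin.sum_univ_two] at h00 h01
      rw [← Units.val_inv_eq_inv_val, hei] at h01
      have h10 : g 1 0 = 0 := by
        rcases mul_eq_zero.1 (show y * g 1 0 = 0 by linear_combination -h00) with h' | h'
        · exact absurd h' hy
        · exact h'
      obtain ⟨a, x, rfl, ha, ha', hx⟩ := exists_mk_of_upper h10
      refine ⟨a, x, ?_, rfl⟩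
      rw [ha, ha', hx] at h01
      have : y * ((a : F) - ((a⁻¹ : Fˣ) : F)) = 0 := by linear_combination h01
      by_contra hne'
      exact sub_inv_ne_zero (sq_ne_one_iff.2 hne') ((mul_eq_zero.1 this).resolve_left hy)
    · rintro ⟨a, x, ha, rfl⟩
      have hai : ((a⁻¹ : Fˣ) : F) = (a : F) := by rcases ha with rfl | rfl <;> simp
      have hei : ((e⁻¹ : Fˣ) : F) = (e : F) := by rcases he with rfl | rfl <;> simp
      rw [mk_mul, mk_mul, mul_comm a e]
      congr 1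
      rw [hai, hei]; ring
  let f : {a : Fˣ // a = 1 ∨ a = -1} × F → Subgroup.centralizer ({mk e y} : Set SL(2, F)) :=
    fun p => ⟨mk p.1.1 p.2, (hmem _).2 ⟨p.1.1, p.2, p.1.2, rfl⟩⟩
  rw [← Nat.card_congr (Equiv.ofBijective f ⟨?_, ?_⟩), Nat.card_prod, Nat.card_eq_fintype_card (α := F)]
  · congr 1
    rw [Nat.card_eq_two_iff]
    refine ⟨⟨1, Or.inl rfl⟩, ⟨-1, Or.inr rfl⟩, fun h => hne (congrArg Subtype.val h), ?_⟩
    rw [Set.eq_univ_iff_forall]
    rintro ⟨a, rfl | rfl⟩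
    · exact Or.inl rfl
    · exact Or.inr rfl
  · intro p p' h
    have h' : (mk p.1.1 p.2 : SL(2, F)) = mk p'.1.1 p'.2 := congrArg Subtype.val h
    have h0 := congrArg (fun m : SL(2, F) => m.1 0 0) h'
    have h1 := congrArg (fun m : SL(2, F) => m.1 0 1) h'
    simp [coe_mk] at h0 h1
    exact Prod.ext (Subtype.ext (Units.ext h0)) h1
  · rintro ⟨g, hg⟩
    obtain ⟨a, x, ha, rfl⟩ := (hmem g).1 hg
    exact ⟨(⟨a, ha⟩, x), rfl⟩

theorem index_centralizer_unipotent (h2 : (2 : F) ≠ 0) {e : Fˣ} (he : e = 1 ∨ e = -1) {y : F} (hy : y ≠ 0) :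
    2 * ((Subgroup.centralizer ({mk e y} : Set SL(2, F))).index : ℂ) = (Fintype.card F : ℂ) ^ 2 - 1 := by
  have h := Subgroup.card_mul_index (Subgroup.centralizer ({mk e y} : Set SL(2, F)))
  rw [card_centralizer_unipotent h2 he hy, card_SL2, mul_comm 2, mul_assoc] at h
  have h' := Nat.eq_of_mul_eq_mul_left Fintype.card_pos h
  have := congrArg (Nat.cast : ℕ → ℂ) h'
  rw [Nat.cast_mul, Nat.cast_sub (Nat.one_le_pow _ _ Fintype.card_pos)] at this
  push_cast at this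
  exact this

section Modular

variable {p : ℕ} [hp : Fact p.Prime] [CharP F p]

theorem dvd_card : p ∣ Fintype.card F := by
  obtain ⟨f, -, hf⟩ := FiniteField.card F p
  exact hf ▸ dvd_pow_self p f.ne_zero

theorem dvd_index_semisimple {g : SL(2, F)} (ht : tr g ^ 2 ≠ 4) :
    p ∣ (Subgroup.centralizer ({g} : Set SL(2, F))).index := by
  have h := Subgroup.card_mul_index (Subgroup.centralizer ({g} : Set SL(2, F)))
  have hd : p ∣ Nat.card SL(2, F) := by rw [card_SL2]; exact Dvd.dvd.mul_right dvd_card _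
  rw [← h] at hd
  refine (hp.out.dvd_mul.1 hd).resolve_left fun hc => hp.out.not_dvd_one ?_
  by_cases hl : ∃ l : F, l ^ 2 + tr g * l + 1 = 0
  · obtain ⟨l, hl⟩ := hl
    rw [card_centralizer_split ht hl] at hc
    have h' := Nat.dvd_sub (dvd_card (F := F)) hc
    rwa [Nat.sub_sub_self Fintype.card_pos] at h'
  · simp only [not_exists] at hl
    rw [card_centralizer_nonsplit ht hl] at hc
    exact (Nat.dvd_add_right dvd_card).1 hc

variable {Tr : NSTorus F} {h2 : (2 : F) ≠ 0} (H : Halves Tr h2) {M : Ideal Cfsg.AlgInt} [M.IsPrime]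
  (hM : Cfsg.IsPModular p M)
include hM

theorem q_mem : Cfsg.MemLocalIdeal M (Fintype.card F : ℂ) := (memLocalIdeal_natCast_iff hM _).2 dvd_card

theorem two_inv_mem (h2 : (2 : F) ≠ 0) : Cfsg.MemLocalRing M ((2 : ℂ)⁻¹) := by
  have : ¬ p ∣ 2 := fun h => by
    have h' := (Nat.prime_dvd_prime_iff_eq hp.out Nat.prime_two).1 h
    subst h'
    exact h2 (by exact_mod_cast CharP.cast_eq_zero F 2)
  simpa using memLocalRing_natCast_inv hM this

include H

theorem not_dvd_degree (χ : Cfsg.IrrCharacter SL(2, F)) (hχ : χ.1 ≠ St) :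
    ∃ n : ℕ, χ.1 1 = (n : ℂ) ∧ ¬ p ∣ n := by
  have hq1 := Fintype.one_lt_card (α := F)
  have hodd := Halves.odd_card (F := F) h2
  have h1 := hp.out.not_dvd_one
  have hpq := dvd_card (F := F) (p := p)
  have key : ∀ n : ℕ, (n = 1 ∨ n + 1 = Fintype.card F ∨ n = Fintype.card F + 1 ∨
      2 * n = Fintype.card F + 1 ∨ 2 * n + 1 = Fintype.card F) → ¬ p ∣ n := by
    intro n hc hd
    rcases hc with c | c | c | c | c
    · exact h1 (c ▸ hd)
    · exact h1 ((Nat.dvd_add_right hd).1 (c ▸ hpq))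
    · exact h1 ((Nat.dvd_add_right hpq).1 (c ▸ hd))
    · exact h1 ((Nat.dvd_add_right hpq).1 (c ▸ Dvd.dvd.mul_left hd 2))
    · exact h1 ((Nat.dvd_add_right (Dvd.dvd.mul_left hd 2)).1 (c ▸ hpq))
  rcases H.cases χ.2 with ⟨_, e⟩ | ⟨e, -⟩ | ⟨_, _, _, e⟩ | ⟨_, _, _, e⟩ | ⟨_, e⟩ | ⟨_, e⟩
  case inr.inl => exact absurd e hχ
  all_goals exact ⟨_, e, key _ (by omega)⟩

theorem inv_degree_mem (χ : Cfsg.IrrCharacter SL(2, F)) (hχ : χ.1 ≠ St) :
    Cfsg.MemLocalRing M (χ.1 1)⁻¹ := by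
  obtain ⟨n, hn, hd⟩ := not_dvd_degree H hM χ hχ
  rw [hn]; exact memLocalRing_natCast_inv hM hd

theorem memLocalIdeal_of_sq {d : ℂ} (hd : IsIntegral ℤ d) (h : Cfsg.MemLocalIdeal M (d ^ 2)) :
    Cfsg.MemLocalIdeal M d := by
  let a : Cfsg.AlgInt := ⟨d, hd⟩
  refine (memLocalIdeal_coe_iff a).2 ((Ideal.IsPrime.mem_of_pow_mem ‹M.IsPrime› 2) ?_)
  exact (memLocalIdeal_coe_iff (a ^ 2)).1 (by simpa [a] using h)

theorem diff_mem {χ ψ : SL(2, F) → ℂ} (hχ : Cfsg.IsIrrCharacter SL(2, F) χ)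
    (hψ : Cfsg.IsIrrCharacter SL(2, F) ψ) (hne : χ ≠ ψ) (h1 : χ 1 = ψ 1) (hn : χ (-1) = ψ (-1))
    (B : Balanced Tr h2 (χ - ψ)) {x : F} (hx : x ≠ 0) :
    Cfsg.MemLocalIdeal M (χ (mk 1 x) - ψ (mk 1 x)) := by
  have hu := B.unipotent (Or.inl rfl) hx
  rw [Pi.sub_apply, Pi.sub_apply] at hu
  refine memLocalIdeal_of_sq H hM ((character_isIntegral (isCharacter_of_isIrr hχ) _).sub
    (character_isIntegral (isCharacter_of_isIrr hψ) _)) ?_
  rw [hu, mul_pow, sq_unipotent hχ hψ hne h1 hn B, ← mul_assoc]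
  refine memLocalIdeal_mul_left ?_ (q_mem hM)
  have he : ((quadraticChar F x : ℂ)) ^ 2 * (-1) ^ ((Fintype.card F - 1) / 2) =
      (((quadraticChar F x) ^ 2 * (-1) ^ ((Fintype.card F - 1) / 2) : ℤ) : ℂ) := by push_cast; rfl
  rw [he]
  exact memLocalRing_of_isIntegral (isIntegral_algebraMap (R := ℤ) (A := ℂ))

/-- The values at transvections modulo `M`. -/
theorem exists_unipotent_value (χ : Cfsg.IrrCharacter SL(2, F)) (hχ : χ.1 ≠ St) {x : F} (hx : x ≠ 0) :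
    ∃ E : ℂ, Cfsg.MemLocalIdeal M E ∧
      ((Fintype.card F : ℂ) ^ 2 - 1) * χ.1 (mk 1 x) = χ.1 1 * (E - 1) := by
  have hq := q_mem (F := F) hM
  obtain ⟨t1, t2⟩ := Halves.two_half (Halves.odd_card (F := F) h2) (F := F)
  have hqr : ∀ z : ℂ, IsIntegral ℤ z → Cfsg.MemLocalRing M z := fun z h => memLocalRing_of_isIntegral h
  rcases H.exhaustive χ.1 χ.2 with e | e | ⟨β, -, e⟩ | ⟨η, -, e⟩ | hh
  · refine ⟨(Fintype.card F : ℂ) * Fintype.card F,
      memLocalIdeal_mul_left (memLocalRing_natCast _) hq, ?_⟩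
    rw [e]; ring
  · exact absurd e hχ
  · refine ⟨Fintype.card F, hq, ?_⟩
    rw [e, R_unipotent β (Or.inl rfl) hx, R_one, map_one, Units.val_one]; ring
  · refine ⟨-(Fintype.card F : ℂ), memLocalIdeal_neg hq, ?_⟩
    rw [e, D_unipotent Tr h2 η (Or.inl rfl) hx, D_one, map_one, Units.val_one]; ring
  · have dχ := diff_mem H hM H.χ₁_irr H.χ₂_irr H.χ_ne (H.χ₁_one.trans H.χ₂_one.symm)
      (by rw [H.χ_neg_one.1, H.χ_neg_one.2, H.χ₁_one, H.χ₂_one]) H.balanced_χ hx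
    have dψ := diff_mem H hM H.ψ₁_irr H.ψ₂_irr H.ψ_ne (H.ψ₁_one.trans H.ψ₂_one.symm)
      (by rw [H.ψ_neg_one.1, H.ψ_neg_one.2, H.ψ₁_one, H.ψ₂_one]) H.balanced_ψ hx
    have sχ : H.χ₁ (mk 1 x) + H.χ₂ (mk 1 x) = 1 := by
      rw [← Pi.add_apply, ← H.R_eq, R_unipotent _ (Or.inl rfl) hx]; simp
    have sψ : H.ψ₁ (mk 1 x) + H.ψ₂ (mk 1 x) = -1 := by
      rw [← Pi.add_apply, ← H.D_eq, D_unipotent _ _ _ (Or.inl rfl) hx]; simp
    have hm : Cfsg.MemLocalRing M ((Fintype.card F : ℂ) - 1) :=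
      hqr _ ((natCast_isIntegral (Fintype.card F)).sub isIntegral_one)
    have hp' : Cfsg.MemLocalRing M ((Fintype.card F : ℂ) + 1) :=
      hqr _ ((natCast_isIntegral (Fintype.card F)).add isIntegral_one)
    rcases hh with e | e | e | e
    · refine ⟨Fintype.card F + ((Fintype.card F : ℂ) - 1) * (H.χ₁ (mk 1 x) - H.χ₂ (mk 1 x)),
        memLocalIdeal_add hq (memLocalIdeal_mul_left hm dχ), ?_⟩
      rw [e, H.χ₁_one]
      linear_combination (((Fintype.card F : ℂ) ^ 2 - 1) / 2) * sχ -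
        (1 / 2 : ℂ) * ((Fintype.card F : ℂ) - 1) * (1 + (H.χ₁ (mk 1 x) - H.χ₂ (mk 1 x))) * t1
    · refine ⟨Fintype.card F - ((Fintype.card F : ℂ) - 1) * (H.χ₁ (mk 1 x) - H.χ₂ (mk 1 x)),
        memLocalIdeal_sub hq (memLocalIdeal_mul_left hm dχ), ?_⟩
      rw [e, H.χ₂_one]
      linear_combination (((Fintype.card F : ℂ) ^ 2 - 1) / 2) * sχ -
        (1 / 2 : ℂ) * ((Fintype.card F : ℂ) - 1) * (1 - (H.χ₁ (mk 1 x) - H.χ₂ (mk 1 x))) * t1
    · refine ⟨-(Fintype.card F : ℂ) + ((Fintype.card F : ℂ) + 1) * (H.ψ₁ (mk 1 x) - H.ψ₂ (mk 1 x)),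
        memLocalIdeal_add (memLocalIdeal_neg hq) (memLocalIdeal_mul_left hp' dψ), ?_⟩
      rw [e, H.ψ₁_one]
      linear_combination (((Fintype.card F : ℂ) ^ 2 - 1) / 2) * sψ -
        (1 / 2 : ℂ) * ((Fintype.card F : ℂ) + 1) * (-1 + (H.ψ₁ (mk 1 x) - H.ψ₂ (mk 1 x))) * t2
    · refine ⟨-(Fintype.card F : ℂ) - ((Fintype.card F : ℂ) + 1) * (H.ψ₁ (mk 1 x) - H.ψ₂ (mk 1 x)),
        memLocalIdeal_sub (memLocalIdeal_neg hq) (memLocalIdeal_mul_left hp' dψ), ?_⟩
      rw [e, H.ψ₂_one]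
      linear_combination (((Fintype.card F : ℂ) ^ 2 - 1) / 2) * sψ -
        (1 / 2 : ℂ) * ((Fintype.card F : ℂ) + 1) * (-1 - (H.ψ₁ (mk 1 x) - H.ψ₂ (mk 1 x))) * t2

/-- The central character at a transvection. -/
theorem centralChar_unipotent (χ : Cfsg.IrrCharacter SL(2, F)) (hχ : χ.1 ≠ St) {x : F} (hx : x ≠ 0) :
    ∃ E : ℂ, Cfsg.MemLocalIdeal M E ∧ Cfsg.centralChar χ.1 (mk 1 x) = (2 : ℂ)⁻¹ * (E - 1) := by
  obtain ⟨E, hE, he⟩ := exists_unipotent_value H hM χ hχ hx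
  refine ⟨E, hE, ?_⟩
  rw [Cfsg.centralChar, div_eq_iff (irr_one_ne_zero χ.2)]
  have hi := index_centralizer_unipotent h2 (Or.inl rfl : (1 : Fˣ) = 1 ∨ (1 : Fˣ) = -1) hx
  linear_combination (2 : ℂ)⁻¹ * χ.1 (mk 1 x) * hi + (2 : ℂ)⁻¹ * he

/-- The sign of the central involution. -/
theorem exists_sign_neg_one (χ : Cfsg.IrrCharacter SL(2, F)) :
    χ.1 (-1) = χ.1 1 ∨ χ.1 (-1) = -χ.1 1 :=
  central_sign χ.2 (SL2Trace.neg_one_mem_center) (by simp)

theorem sameBlock_of_sign {χ ψ : Cfsg.IrrCharacter SL(2, F)} (hχ : χ.1 ≠ St) (hψ : ψ.1 ≠ St)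
    {s : ℂ} (hs : s = 1 ∨ s = -1) (e1 : χ.1 (-1) = s * χ.1 1) (e2 : ψ.1 (-1) = s * ψ.1 1) :
    Cfsg.SameBlock M χ.1 ψ.1 := by
  have hint : ∀ φ : Cfsg.IrrCharacter SL(2, F), φ.1 ≠ St → ∀ g : SL(2, F), tr g ^ 2 ≠ 4 →
      Cfsg.MemLocalIdeal M (Cfsg.centralChar φ.1 g) := by
    intro φ hφ g ht
    rw [Cfsg.centralChar, div_eq_mul_inv]
    exact memLocalIdeal_mul_right (memLocalIdeal_mul_right
      ((memLocalIdeal_natCast_iff hM _).2 (dvd_index_semisimple ht))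
      (memLocalRing_of_isIntegral (character_isIntegral (isCharacter_of_isIrr φ.2) g)))
      (inv_degree_mem H hM φ hφ)
  intro g
  by_cases ht : tr g ^ 2 = 4
  · obtain ⟨m, hm⟩ : ∃ m : F, m ^ 2 + tr g * m + 1 = 0 := by
      by_contra h
      simp only [not_exists] at h
      exact sq_ne_four_of_no_root h ht
    obtain ⟨a, x, hc⟩ := exists_mk g hm
    rw [← centralChar_isConj χ hc, ← centralChar_isConj ψ hc]
    have htr : tr g = tr (mk a x) := by
      obtain ⟨c, rfl⟩ := isConj_iff.1 hc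
      simp only [tr, Matrix.SpecialLinearGroup.coe_mul]
      rw [Matrix.trace_mul_cycle, ← Matrix.SpecialLinearGroup.coe_mul, inv_mul_cancel,
        Matrix.SpecialLinearGroup.coe_one, one_mul]
    have ha : a = 1 ∨ a = -1 := by
      by_contra hne
      have h1 := sub_inv_ne_zero (sq_ne_one_iff.2 hne)
      rw [htr, tr_mk] at ht
      have hai := a.mul_inv
      exact h1 (pow_eq_zero_iff two_ne_zero |>.1 (show ((a : F) - ((a⁻¹ : Fˣ) : F)) ^ 2 = 0 by
        linear_combination ht - 4 * hai))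
    by_cases hx : x = 0
    · subst hx
      have hz : ∀ φ : Cfsg.IrrCharacter SL(2, F), Cfsg.centralChar φ.1 (mk a 0) = φ.1 (mk a 0) / φ.1 1 :=
        fun φ => centralChar_central _ (mk_central_mem ha)
      have heq : χ.1 (mk a 0) / χ.1 1 = ψ.1 (mk a 0) / ψ.1 1 := by
        rcases ha with rfl | rfl
        · rw [mk_one_zero, div_self (irr_one_ne_zero χ.2), div_self (irr_one_ne_zero ψ.2)]
        · rw [mk_neg_one_zero, e1, e2, mul_div_assoc, mul_div_assoc, div_self (irr_one_ne_zero χ.2),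
            div_self (irr_one_ne_zero ψ.2)]
      rw [hz, hz, heq, sub_self]
      exact memLocalIdeal_zero
    · rcases ha with rfl | rfl
      · obtain ⟨E, hE, hχE⟩ := centralChar_unipotent H hM χ hχ hx
        obtain ⟨E', hE', hψE⟩ := centralChar_unipotent H hM ψ hψ hx
        rw [hχE, hψE, ← mul_sub, show E - 1 - (E' - 1) = E - E' by ring]
        exact memLocalIdeal_mul_left (two_inv_mem hM h2) (memLocalIdeal_sub hE hE')
      · have hx' : -x ≠ 0 := neg_ne_zero.2 hx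
        obtain ⟨E, hE, hχE⟩ := centralChar_unipotent H hM χ hχ hx'
        obtain ⟨E', hE', hψE⟩ := centralChar_unipotent H hM ψ hψ hx'
        have key : ∀ (φ : Cfsg.IrrCharacter SL(2, F)), φ.1 (-1) = s * φ.1 1 →
            Cfsg.centralChar φ.1 (mk (-1) x) = s * Cfsg.centralChar φ.1 (mk 1 (-x)) := by
          intro φ hφ1
          have hm : (mk (-1 : Fˣ) x : SL(2, F)) = -1 * mk 1 (-x) := by
            rw [mk_mul_central (Or.inr rfl), mk_neg_one_zero]; simp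
          have hi1 := index_centralizer_unipotent h2 (Or.inr rfl : (-1 : Fˣ) = 1 ∨ (-1 : Fˣ) = -1) hx
          have hi2 := index_centralizer_unipotent h2 (Or.inl rfl : (1 : Fˣ) = 1 ∨ (1 : Fˣ) = -1) hx'
          have hi : ((Subgroup.centralizer ({mk (-1 : Fˣ) x} : Set SL(2, F))).index : ℂ) =
              (Subgroup.centralizer ({mk (1 : Fˣ) (-x)} : Set SL(2, F))).index := by
            linear_combination (1 / 2 : ℂ) * hi1 - (1 / 2 : ℂ) * hi2
          have hv : φ.1 (mk (-1 : Fˣ) x) = s * φ.1 (mk 1 (-x)) := by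
            refine mul_right_cancel₀ (irr_one_ne_zero φ.2) ?_
            rw [hm, central_mul φ.2 SL2Trace.neg_one_mem_center, hφ1]; ring
          rw [Cfsg.centralChar, Cfsg.centralChar, hi, hv]; ring
        rw [key χ e1, key ψ e2, hχE, hψE, ← mul_sub, ← mul_sub, show E - 1 - (E' - 1) = E - E' by ring]
        refine memLocalIdeal_mul_left ?_ (memLocalIdeal_mul_left (two_inv_mem hM h2) (memLocalIdeal_sub hE hE'))
        rcases hs with rfl | rfl
        · exact memLocalRing_of_isIntegral isIntegral_one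
        · exact memLocalRing_of_isIntegral isIntegral_one.neg
  · exact memLocalIdeal_sub (hint χ hχ g ht) (hint ψ hψ g ht)

theorem sign_of_sameBlock {χ ψ : Cfsg.IrrCharacter SL(2, F)} (h : Cfsg.SameBlock M χ.1 ψ.1)
    (e1 : χ.1 (-1) = χ.1 1) : ψ.1 (-1) = ψ.1 1 := by
  refine (exists_sign_neg_one H hM ψ).resolve_right fun e2 => ?_
  have := h (-1)
  rw [centralChar_central _ SL2Trace.neg_one_mem_center, centralChar_central _ SL2Trace.neg_one_mem_center,
    e1, e2, neg_div, div_self (irr_one_ne_zero χ.2), div_self (irr_one_ne_zero ψ.2),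
    sub_neg_eq_add, one_add_one_eq_two] at this
  have h1 := memLocalIdeal_mul_left (two_inv_mem hM h2) this
  rw [inv_mul_cancel₀ two_ne_zero] at h1
  exact not_memLocalIdeal_one h1

theorem steinberg_alone {χ ψ : Cfsg.IrrCharacter SL(2, F)} (h : Cfsg.SameBlock M χ.1 ψ.1)
    (e : χ.1 = St) : ψ.1 = St := by
  by_contra hψ
  obtain ⟨E, hE, hψE⟩ := centralChar_unipotent H hM ψ hψ (one_ne_zero (α := F))
  have h' := h (mk 1 1)
  rw [hψE, Cfsg.centralChar, e, St_unipotent (Or.inl rfl) one_ne_zero, mul_zero, zero_div, zero_sub] at h'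
  have h1 := memLocalIdeal_mul_left (memLocalRing_of_isIntegral (natCast_isIntegral 2)) h'
  rw [Nat.cast_ofNat, mul_neg, ← mul_assoc, mul_inv_cancel₀ two_ne_zero, one_mul] at h1
  have h3 := memLocalIdeal_add h1 hE
  rw [show -(E - 1) + E = 1 by ring] at h3
  exact not_memLocalIdeal_one h3

end Modular

end CfsgLib.SL2CharTable

namespace CfsgLib.SL2CharTable

open Matrix CfsgLib.SL2Borel CfsgLib.SL2Tori CfsgLib.Characters CfsgLib.Blocks
open scoped MatrixGroups ComplexConjugate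

variable {F : Type*} [Field F] [Fintype F] [DecidableEq F]

theorem St_neg_one : (St : SL(2, F) → ℂ) (-1) = (Fintype.card F : ℂ) := by
  rw [← mk_neg_one_zero, St, R_central _ (Or.inr rfl)]
  simp

/-- The sums of squares of the degrees over the two signs. -/
theorem sum_sign_degree_sq (h2 : (2 : F) ≠ 0) :
    ∑ χ : Cfsg.IrrCharacter SL(2, F), (if χ.1 (-1) = -χ.1 1 then χ.1 1 ^ 2 else 0) =
      (Nat.card SL(2, F) : ℂ) / 2 ∧
    ∑ χ : Cfsg.IrrCharacter SL(2, F), (if χ.1 (-1) = χ.1 1 then χ.1 1 ^ 2 else 0) =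
      (Nat.card SL(2, F) : ℂ) / 2 := by
  classical
  have hne : ¬ IsConj (-1 : SL(2, F)) 1 := fun h => h2 (by
    have e := congrArg (fun g : SL(2, F) => g.1 0 0) (isConj_one_left.1 h)
    simp at e
    linear_combination -e)
  have hz := sum_irr_mul_conj_of_not_isConj hne
  have hconj : ∀ χ : Cfsg.IrrCharacter SL(2, F), conj (χ.1 1) = χ.1 1 := fun χ => by
    obtain ⟨n, -, hn⟩ := exists_degree_pos χ.2
    rw [hn, map_natCast]
  simp only [hconj] at hz
  have hsgn : ∀ χ : Cfsg.IrrCharacter SL(2, F), χ.1 (-1) = χ.1 1 ∨ χ.1 (-1) = -χ.1 1 := fun χ =>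
    central_sign χ.2 SL2Trace.neg_one_mem_center (by simp)
  have hno : ∀ χ : Cfsg.IrrCharacter SL(2, F), χ.1 (-1) = χ.1 1 → ¬ χ.1 (-1) = -χ.1 1 := fun χ e e' =>
    irr_one_ne_zero χ.2 (by linear_combination (1 / 2 : ℂ) * e' - (1 / 2 : ℂ) * e)
  have hsum : (∑ χ : Cfsg.IrrCharacter SL(2, F), (if χ.1 (-1) = χ.1 1 then χ.1 1 ^ 2 else 0)) +
      ∑ χ : Cfsg.IrrCharacter SL(2, F), (if χ.1 (-1) = -χ.1 1 then χ.1 1 ^ 2 else 0) =
      (Nat.card SL(2, F) : ℂ) := by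
    rw [← Finset.sum_add_distrib, ← sum_degree_sq (G := SL(2, F))]
    refine Finset.sum_congr rfl fun χ _ => ?_
    rcases hsgn χ with e | e
    · rw [if_pos e, if_neg (hno χ e), add_zero]
    · rw [if_neg (fun e' => hno χ e' e), if_pos e, zero_add]
  have hdif : (∑ χ : Cfsg.IrrCharacter SL(2, F), (if χ.1 (-1) = χ.1 1 then χ.1 1 ^ 2 else 0)) -
      ∑ χ : Cfsg.IrrCharacter SL(2, F), (if χ.1 (-1) = -χ.1 1 then χ.1 1 ^ 2 else 0) = 0 := by
    rw [← Finset.sum_sub_distrib]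
    refine Eq.trans (Finset.sum_congr rfl fun χ _ => ?_) hz
    rcases hsgn χ with e | e
    · rw [if_pos e, if_neg (hno χ e), e]; ring
    · rw [if_neg (fun e' => hno χ e' e), if_pos e, e]; ring
  exact ⟨by linear_combination (1 / 2 : ℂ) * hsum - (1 / 2 : ℂ) * hdif,
    by linear_combination (1 / 2 : ℂ) * hsum + (1 / 2 : ℂ) * hdif⟩

theorem isDefectGroup_sylow {G : Type*} [Group G] {p : ℕ} [Fact p.Prime] {M : Ideal Cfsg.AlgInt}
    {B : Set (Cfsg.IrrCharacter G)} (h : Cfsg.IsDefectClass M B 1) (P : Sylow p G) :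
    Cfsg.IsDefectGroup p M B (P : Subgroup G) := by
  have hle : (P : Subgroup G) ≤ Subgroup.centralizer ({(1 : G)} : Set G) := fun g _ =>
    Subgroup.mem_centralizer_singleton_iff.2 (by simp)
  refine ⟨1, h, P.subtype hle, ?_⟩
  rw [Sylow.coe_subtype, Subgroup.subgroupOf_map_subtype, inf_of_le_left hle]

section Modular

variable {p : ℕ} [hp : Fact p.Prime] [CharP F p] {Tr : NSTorus F} {h2 : (2 : F) ≠ 0} (H : Halves Tr h2)
  {M : Ideal Cfsg.AlgInt} [M.IsPrime] (hM : Cfsg.IsPModular p M)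
include H hM

theorem blockOf_minus {χ : Cfsg.IrrCharacter SL(2, F)} (hχ : χ.1 (-1) = -χ.1 1) :
    Cfsg.blockOf M χ.1 = {ψ : Cfsg.IrrCharacter SL(2, F) | ψ.1 (-1) = -ψ.1 1} := by
  have hns : ∀ ψ : Cfsg.IrrCharacter SL(2, F), ψ.1 (-1) = -ψ.1 1 → ψ.1 ≠ St := fun ψ e e' => by
    rw [e', St_neg_one, St_one] at e
    exact Nat.cast_ne_zero.2 Fintype.card_ne_zero (show (Fintype.card F : ℂ) = 0 by
      linear_combination (1 / 2 : ℂ) * e)
  ext ψ
  constructor
  · intro h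
    refine (exists_sign_neg_one H hM ψ).resolve_left fun e => ?_
    have e' := sign_of_sameBlock H hM (sameBlock_symm h) e
    exact irr_one_ne_zero χ.2 (by linear_combination (1 / 2 : ℂ) * hχ - (1 / 2 : ℂ) * e')
  · intro h
    exact sameBlock_of_sign H hM (hns χ hχ) (hns ψ h) (Or.inr rfl) (by rw [hχ]; ring)
      (by rw [show ψ.1 (-1) = -ψ.1 1 from h]; ring)

theorem ne_St_of_deg {ψ : Cfsg.IrrCharacter SL(2, F)} (h : ψ.1 1 ≠ (Fintype.card F : ℂ)) : ψ.1 ≠ St :=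
  fun e => h (by rw [e, St_one])

theorem blockOf_plus {χ : Cfsg.IrrCharacter SL(2, F)} (hχ : χ.1 (-1) = χ.1 1)
    (hq : χ.1 1 ≠ (Fintype.card F : ℂ)) :
    Cfsg.blockOf M χ.1 = {ψ : Cfsg.IrrCharacter SL(2, F) | ψ.1 (-1) = ψ.1 1 ∧
      ψ.1 1 ≠ (Fintype.card F : ℂ)} := by
  ext ψ
  constructor
  · intro h
    refine ⟨sign_of_sameBlock H hM h hχ, fun e => ?_⟩
    exact ne_St_of_deg H hM hq (steinberg_alone H hM (sameBlock_symm h) (H.deg_q ψ.2 e))
  · rintro ⟨h, hd⟩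
    exact sameBlock_of_sign H hM (ne_St_of_deg H hM hq) (ne_St_of_deg H hM hd) (Or.inl rfl)
      (by rw [hχ, one_mul]) (by rw [h, one_mul])

theorem blockOf_St {χ : Cfsg.IrrCharacter SL(2, F)} (hχ : χ.1 1 = (Fintype.card F : ℂ)) :
    Cfsg.blockOf M χ.1 = {ψ : Cfsg.IrrCharacter SL(2, F) | ψ.1 1 = (Fintype.card F : ℂ)} := by
  ext ψ
  constructor
  · intro h
    rw [Set.mem_ofPred_eq, steinberg_alone H hM h (H.deg_q χ.2 hχ), St_one]
  · intro h
    have : ψ = χ := Subtype.ext ((H.deg_q ψ.2 h).trans (H.deg_q χ.2 hχ).symm)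
    rw [this]
    exact mem_blockOf_self χ

theorem exists_minus : ∃ χ : Cfsg.IrrCharacter SL(2, F), χ.1 (-1) = -χ.1 1 := by
  rcases H.α_neg_one with h | h
  · refine ⟨⟨H.ψ₁, H.ψ₁_irr⟩, ?_⟩
    show H.ψ₁ (-1) = -H.ψ₁ 1
    rw [H.ψ_neg_one.1, H.sign, h]; ring
  · refine ⟨⟨H.χ₁, H.χ₁_irr⟩, ?_⟩
    show H.χ₁ (-1) = -H.χ₁ 1
    rw [H.χ_neg_one.1, h]; ring

theorem isDefectClass_one_minus :
    Cfsg.IsDefectClass M {χ : Cfsg.IrrCharacter SL(2, F) | χ.1 (-1) = -χ.1 1} 1 := by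
  classical
  have hG : (Nat.card SL(2, F) : ℂ) ≠ 0 := Nat.cast_ne_zero.2 Nat.card_pos.ne'
  have e : Cfsg.blockCoeff {χ : Cfsg.IrrCharacter SL(2, F) | χ.1 (-1) = -χ.1 1} (1 : SL(2, F)) =
      (2 : ℂ)⁻¹ := by
    rw [blockCoeff_eq_sum, Finset.sum_congr rfl (g := fun χ : Cfsg.IrrCharacter SL(2, F) =>
      if χ.1 (-1) = -χ.1 1 then χ.1 1 ^ 2 else 0) fun χ _ => ?_, (sum_sign_degree_sq h2).1]
    · field_simp
    · obtain ⟨n, -, hn⟩ := exists_degree_pos χ.2
      simp only [Set.mem_ofPred_eq]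
      split_ifs
      · rw [hn, map_natCast, sq]
      · rfl
  refine ⟨?_, ?_, fun χ _ => ?_⟩
  · rw [e]; exact two_inv_mem hM h2
  · rw [e]
    intro h
    have h1 := memLocalIdeal_mul_left (memLocalRing_of_isIntegral (natCast_isIntegral 2)) h
    rw [Nat.cast_ofNat, mul_inv_cancel₀ two_ne_zero] at h1
    exact not_memLocalIdeal_one h1
  · rw [centralChar_central _ (Subgroup.one_mem _), div_self (irr_one_ne_zero χ.2)]
    exact not_memLocalIdeal_one

theorem isDefectClass_one_plus :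
    Cfsg.IsDefectClass M {χ : Cfsg.IrrCharacter SL(2, F) | χ.1 (-1) = χ.1 1 ∧
      χ.1 1 ≠ (Fintype.card F : ℂ)} 1 := by
  classical
  have hq1 := Fintype.one_lt_card (α := F)
  have hqC : (Fintype.card F : ℂ) ^ 2 - 1 = ((Fintype.card F ^ 2 - 1 : ℕ) : ℂ) := by
    rw [Nat.cast_sub (Nat.one_le_pow _ _ Fintype.card_pos)]; push_cast; rfl
  have hnd : ¬ p ∣ Fintype.card F ^ 2 - 1 := fun h => hp.out.not_dvd_one (by
    have h' := Nat.dvd_sub (dvd_pow (dvd_card (F := F) (p := p)) two_ne_zero) h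
    rwa [Nat.sub_sub_self (Nat.one_le_pow _ _ Fintype.card_pos)] at h')
  have hne : (Fintype.card F : ℂ) ^ 2 - 1 ≠ 0 := by
    rw [hqC]; exact Nat.cast_ne_zero.2 fun h => hnd (h ▸ dvd_zero p)
  have hq0 : (Fintype.card F : ℂ) ≠ 0 := Nat.cast_ne_zero.2 Fintype.card_ne_zero
  have hG : (Nat.card SL(2, F) : ℂ) = Fintype.card F * ((Fintype.card F : ℂ) ^ 2 - 1) := by
    rw [card_SL2, Nat.cast_mul, hqC]
  have hStm : (Halves.irrSt h2 : Cfsg.IrrCharacter SL(2, F)).1 (-1) = (Halves.irrSt h2).1 1 := by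
    show (St : SL(2, F) → ℂ) (-1) = St 1
    rw [St_neg_one, St_one]
  have e : Cfsg.blockCoeff {χ : Cfsg.IrrCharacter SL(2, F) | χ.1 (-1) = χ.1 1 ∧
      χ.1 1 ≠ (Fintype.card F : ℂ)} (1 : SL(2, F)) =
      (2 : ℂ)⁻¹ - (Fintype.card F : ℂ) * ((Fintype.card F : ℂ) ^ 2 - 1)⁻¹ := by
    rw [blockCoeff_eq_sum, Finset.sum_congr rfl (g := fun χ : Cfsg.IrrCharacter SL(2, F) =>
      (if χ.1 (-1) = χ.1 1 then χ.1 1 ^ 2 else 0) - if χ = Halves.irrSt h2 then χ.1 1 ^ 2 else 0) fun χ _ => ?_,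
      Finset.sum_sub_distrib, (sum_sign_degree_sq h2).2, Finset.sum_ite_eq', if_pos (Finset.mem_univ _),
      show (Halves.irrSt h2 : Cfsg.IrrCharacter SL(2, F)).1 1 = (Fintype.card F : ℂ) from St_one, hG]
    · field_simp
    · obtain ⟨n, -, hn⟩ := exists_degree_pos χ.2
      have hc : conj (χ.1 1) = χ.1 1 := by rw [hn, map_natCast]
      simp only [Set.mem_ofPred_eq, hc]
      by_cases hS : χ = Halves.irrSt h2
      · subst hS
        rw [if_pos rfl, if_pos hStm,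
          if_neg (fun h => h.2 (show (St : SL(2, F) → ℂ) 1 = _ from St_one)), sub_self]
      · have hd : χ.1 1 ≠ (Fintype.card F : ℂ) := fun h => hS (Subtype.ext (H.deg_q χ.2 h))
        rw [if_neg hS, sub_zero]
        by_cases hm : χ.1 (-1) = χ.1 1
        · rw [if_pos ⟨hm, hd⟩, if_pos hm, sq]
        · rw [if_neg (fun h => hm h.1), if_neg hm]
  have hX : Cfsg.MemLocalIdeal M ((Fintype.card F : ℂ) * ((Fintype.card F : ℂ) ^ 2 - 1)⁻¹) :=
    memLocalIdeal_mul_right (q_mem hM) (by rw [hqC]; exact memLocalRing_natCast_inv hM hnd)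
  refine ⟨?_, ?_, fun χ _ => ?_⟩
  · rw [e, ← mem_localRing]
    exact Subring.sub_mem _ (mem_localRing.2 (two_inv_mem hM h2))
      (mem_localRing.2 (memLocalRing_of_memLocalIdeal hX))
  · rw [e]
    intro h
    have h1 := memLocalIdeal_mul_left (memLocalRing_of_isIntegral (natCast_isIntegral 2))
      (memLocalIdeal_add h hX)
    rw [sub_add_cancel, Nat.cast_ofNat, mul_inv_cancel₀ two_ne_zero] at h1
    exact not_memLocalIdeal_one h1
  · rw [centralChar_central _ (Subgroup.one_mem _), div_self (irr_one_ne_zero χ.2)]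
    exact not_memLocalIdeal_one

end Modular

end CfsgLib.SL2CharTable
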