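import Cfsg.Agent.SL2CharTable.Torus

/-!
# The irreducible characters of `SL₂(q)`, `q` odd
-/

set_option autoImplicit false
set_option linter.unusedSectionVars false

namespace CfsgLib.SL2CharTable

open Matrix CfsgLib.SL2Borel CfsgLib.SL2Tori CfsgLib.Characters
open scoped MatrixGroups ComplexConjugate

universe u

section General

variable {G : Type u} [Group G] [Fintype G]

/-- A virtual character of norm two. -/
theorem norm_two {θ : G → ℂ} (h : Cfsg.IsGeneralizedCharacter G θ) (h2 : Cfsg.classInner θ θ = 2) :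
    ∃ (χ ψ : G → ℂ) (ε δ : ℤ), Cfsg.IsIrrCharacter G χ ∧ Cfsg.IsIrrCharacter G ψ ∧ χ ≠ ψ ∧
      (ε = 1 ∨ ε = -1) ∧ (δ = 1 ∨ δ = -1) ∧ θ = (ε : ℂ) • χ + (δ : ℂ) • ψ := by
  classical
  obtain ⟨m, hm, hmi⟩ := exists_int_coeff h
  have hsq : ∑ χ, m χ ^ 2 = 2 := by
    have := (classInner_self_eq_sum_sq (isClassFunction_of_isGen h) m hmi).symm.trans h2
    exact_mod_cast this
  set S := Finset.univ.filter fun χ : Cfsg.IrrCharacter G => m χ ≠ 0 with hS
  have hsum : ∑ χ ∈ S, m χ ^ 2 = 2 := by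
    rw [← hsq]
    exact Finset.sum_subset (Finset.subset_univ _) fun χ _ hχ => by simp [hS] at hχ; simp [hχ]
  have h1 : ∀ χ ∈ S, m χ = 1 ∨ m χ = -1 := by
    intro χ hχ
    have hle : m χ ^ 2 ≤ 2 := hsum ▸ Finset.single_le_sum (f := fun χ => m χ ^ 2) (fun _ _ => sq_nonneg _) hχ
    have hne := (Finset.mem_filter.1 hχ).2
    have : -1 ≤ m χ := by nlinarith
    have : m χ ≤ 1 := by nlinarith
    omega
  have hcard : S.card = 2 := by
    have : ∑ χ ∈ S, m χ ^ 2 = ∑ χ ∈ S, 1 :=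
      Finset.sum_congr rfl fun χ hχ => by rcases h1 χ hχ with e | e <;> simp [e]
    rw [this, Finset.sum_const, nsmul_eq_mul, mul_one] at hsum
    exact_mod_cast hsum
  obtain ⟨χ, ψ, hne, hSe⟩ := Finset.card_eq_two.1 hcard
  refine ⟨χ, ψ, m χ, m ψ, χ.2, ψ.2, fun e => hne (Subtype.ext e), h1 χ (by simp [hSe]),
    h1 ψ (by simp [hSe]), ?_⟩
  rw [hm, ← Finset.sum_subset (Finset.subset_univ S) (fun x _ hx => by simp [hS] at hx; simp [hx]), hSe,
    Finset.sum_pair hne]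

/-- Central elements act by a scalar. -/
theorem central_mul {χ : G → ℂ} (hχ : Cfsg.IsIrrCharacter G χ) {z : G} (hz : z ∈ Subgroup.center G)
    (g : G) : χ (z * g) * χ 1 = χ z * χ g := by
  obtain ⟨n, ρ, hρ, rfl⟩ := hχ
  haveI := hρ
  obtain ⟨c, hc⟩ := central_scalar ρ hz
  have e : ∀ y, ρ.character (z * y) = c * ρ.character y := fun y => by
    simp only [Representation.character]
    rw [map_mul, hc, smul_mul_assoc, ← Module.End.one_eq_id, one_mul, map_smul, smul_eq_mul]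
  have e1 := e 1
  rw [mul_one] at e1
  rw [e, e1]; ring

/-- An irreducible character takes a value of absolute value its degree at a central involution. -/
theorem central_sign {χ : G → ℂ} (hχ : Cfsg.IsIrrCharacter G χ) {z : G} (hz : z ∈ Subgroup.center G)
    (hz2 : z * z = 1) : χ z = χ 1 ∨ χ z = -χ 1 := by
  have h := central_mul hχ hz z
  rw [hz2] at h
  exact sq_eq_sq_iff_eq_or_eq_neg.1 (by rw [sq, sq, h])

end General

variable {F : Type*} [Field F] [Fintype F] [DecidableEq F]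

/-- The Steinberg character. -/
noncomputable def St : SL(2, F) → ℂ := fun g => R (1 : Fˣ →* ℂˣ) g - 1

theorem St_eq : (St : SL(2, F) → ℂ) = R 1 - fun _ => 1 := rfl

theorem St_one : (St : SL(2, F) → ℂ) 1 = (Fintype.card F : ℂ) := by simp [St, R_one]

variable (Tr : NSTorus F) (h2 : (2 : F) ≠ 0)

include h2 in
theorem one_ne_neg_one : (1 : Fˣ) ≠ -1 := fun e => h2 (by
  have := congrArg Units.val e
  rw [Units.val_neg, Units.val_one] at this
  linear_combination this)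

include h2 in
theorem classInner_St_self : Cfsg.classInner (St : SL(2, F) → ℂ) St = 1 := by
  have h := classInner_R_const (F := F) h2 1
  rw [if_pos rfl] at h
  rw [St_eq, classInner_sub_left, classInner_sub_right, classInner_sub_right, classInner_R_R h2,
    h, classInner_conj_symm (R (1 : Fˣ →* ℂˣ)) (fun _ => (1 : ℂ)), h, map_one,
    classInner_isIrr_self isIrr_one, if_pos rfl, if_pos]
  · ring
  · exact mul_one (1 : Fˣ →* ℂˣ)

include h2 in
theorem isIrr_St : Cfsg.IsIrrCharacter SL(2, F) St :=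
  isIrr_of_gen_norm_one (St_eq (F := F) ▸ isGen_sub (isGen_of_isCharacter (isCharacter_R _)) isGen_one)
    (classInner_St_self h2) (by rw [St_one, Complex.natCast_re]; positivity)

include h2 in
theorem isIrr_R {β : Fˣ →* ℂˣ} (hβ : β ^ 2 ≠ 1) : Cfsg.IsIrrCharacter SL(2, F) (R β) :=
  isIrr_of_classInner_self (isCharacter_R β) (by rw [classInner_R_R h2, if_pos rfl, if_neg (fun h => hβ ((pow_two β).trans h)), add_zero])

theorem isIrr_D {θ : Tr.T →* ℂˣ} (hθ : θ ^ 2 ≠ 1) : Cfsg.IsIrrCharacter SL(2, F) (D Tr h2 θ) :=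
  isIrr_of_gen_norm_one (isGen_D Tr h2 θ)
    (by rw [classInner_D_D, if_pos rfl, if_neg (fun h => hθ ((pow_two θ).trans h)), add_zero]) (by
    rw [D_one, Complex.sub_re, Complex.natCast_re, Complex.one_re, sub_nonneg]
    exact_mod_cast Fintype.card_pos)

/-- The exceptional characters. -/
structure Halves where
  α : Fˣ →* ℂˣ
  θ : Tr.T →* ℂˣ
  α_ne : α ≠ 1
  α_sq : α ^ 2 = 1
  α_unique : ∀ β : Fˣ →* ℂˣ, β ^ 2 = 1 → β = 1 ∨ β = α
  α_apply : ∀ a : Fˣ, (IsSquare (a : F) → (α a : ℂ) = 1) ∧ (¬ IsSquare (a : F) → (α a : ℂ) = -1)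
  θ_ne : θ ≠ 1
  θ_sq : θ ^ 2 = 1
  θ_unique : ∀ η : Tr.T →* ℂˣ, η ^ 2 = 1 → η = 1 ∨ η = θ
  θ_apply : ∀ t : Tr.T, (t ^ ((Fintype.card F + 1) / 2) = 1 → (θ t : ℂ) = 1) ∧
    (t ^ ((Fintype.card F + 1) / 2) ≠ 1 → (θ t : ℂ) = -1)
  sign : (θ Tr.negT : ℂ) = -(α (-1) : ℂ)
  χ₁ : SL(2, F) → ℂ
  χ₂ : SL(2, F) → ℂ
  ψ₁ : SL(2, F) → ℂ
  ψ₂ : SL(2, F) → ℂ
  χ₁_irr : Cfsg.IsIrrCharacter SL(2, F) χ₁
  χ₂_irr : Cfsg.IsIrrCharacter SL(2, F) χ₂
  ψ₁_irr : Cfsg.IsIrrCharacter SL(2, F) ψ₁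
  ψ₂_irr : Cfsg.IsIrrCharacter SL(2, F) ψ₂
  χ_ne : χ₁ ≠ χ₂
  ψ_ne : ψ₁ ≠ ψ₂
  R_eq : R α = χ₁ + χ₂
  D_eq : D Tr h2 θ = ψ₁ + ψ₂
  χ₁_one : χ₁ 1 = (((Fintype.card F + 1) / 2 : ℕ) : ℂ)
  χ₂_one : χ₂ 1 = (((Fintype.card F + 1) / 2 : ℕ) : ℂ)
  ψ₁_one : ψ₁ 1 = (((Fintype.card F - 1) / 2 : ℕ) : ℂ)
  ψ₂_one : ψ₂ 1 = (((Fintype.card F - 1) / 2 : ℕ) : ℂ)
  exhaustive : ∀ χ : SL(2, F) → ℂ, Cfsg.IsIrrCharacter SL(2, F) χ → χ = (fun _ => 1) ∨ χ = St ∨
    (∃ β : Fˣ →* ℂˣ, β ^ 2 ≠ 1 ∧ χ = R β) ∨ (∃ η : Tr.T →* ℂˣ, η ^ 2 ≠ 1 ∧ χ = D Tr h2 η) ∨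
    χ = χ₁ ∨ χ = χ₂ ∨ χ = ψ₁ ∨ χ = ψ₂

theorem card_image_double {X Y : Type*} [Fintype X] [DecidableEq X] [DecidableEq Y] (f : X → Y)
    (τ : X → X) (hτ : ∀ x, τ x ≠ x) (hf : ∀ x y, f x = f y ↔ y = x ∨ y = τ x) :
    2 * (Finset.univ.image f).card = Fintype.card X := by
  rw [← Finset.card_univ, Finset.card_eq_sum_card_fiberwise (f := f) (t := Finset.univ.image f)
    (s := Finset.univ) fun x hx => Finset.mem_image_of_mem f hx]
  rw [Finset.sum_congr rfl (g := fun _ => 2), Finset.sum_const, smul_eq_mul, mul_comm]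
  intro y hy
  obtain ⟨x, -, rfl⟩ := Finset.mem_image.1 hy
  have e : Finset.univ.filter (fun z => f z = f x) = {x, τ x} := by
    ext z
    simp only [Finset.mem_filter, Finset.mem_univ, true_and, Finset.mem_insert, Finset.mem_singleton]
    rw [eq_comm, hf]
  rw [e, Finset.card_pair (hτ x).symm]

theorem card_sq_ne_one {X : Type*} [CommGroup X] [Fintype X] [DecidableEq X] {x₀ : X} (h0 : x₀ ≠ 1)
    (hs : x₀ ^ 2 = 1) (hu : ∀ x : X, x ^ 2 = 1 → x = 1 ∨ x = x₀) :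
    Fintype.card {x : X // x ^ 2 ≠ 1} = Fintype.card X - 2 := by
  rw [Fintype.card_subtype, show (Finset.univ.filter fun x : X => x ^ 2 ≠ 1) = Finset.univ \ {1, x₀} by
    ext x
    simp only [Finset.mem_filter, Finset.mem_univ, true_and, Finset.mem_sdiff, Finset.mem_insert,
      Finset.mem_singleton]
    constructor
    · rintro h (rfl | rfl)
      · exact h (one_pow 2)
      · exact h hs
    · exact fun h e => h (hu x e),
    Finset.card_sdiff_of_subset (Finset.subset_univ _), Finset.card_pair h0.symm, Finset.card_univ]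

theorem inv_ne_self_of_sq {X : Type*} [Group X] {x : X} (h : x ^ 2 ≠ 1) : x⁻¹ ≠ x := fun e =>
  h (by rw [sq]; exact mul_eq_one_iff_eq_inv.2 e.symm)

theorem inv_sq_ne_one {X : Type*} [CommGroup X] {x : X} (h : x ^ 2 ≠ 1) : x⁻¹ ^ 2 ≠ 1 := by
  rwa [inv_pow, inv_ne_one]

theorem pair_eq_inv {X : Type*} [CommGroup X] (a b : X) (h : a * b = 1) : b = a⁻¹ :=
  eq_inv_of_mul_eq_one_right h

theorem pair_sq {X : Type*} [CommGroup X] {a b : X} (h : a * b = 1) (ha : a ^ 2 = 1) : b ^ 2 = 1 := by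
  rw [pair_eq_inv a b h, inv_pow, ha, inv_one]

theorem one_pow_two {X : Type*} [CommGroup X] {x : X} (h : x = 1) : x ^ 2 = 1 := by rw [h, one_pow]

theorem nonempty_halves : Nonempty (Halves Tr h2) := by
  classical
  haveI : Fintype Tr.T := Fintype.ofFinite _
  haveI := Tr.isCyclic
  set q := Fintype.card F with hq
  have hq1 : 1 < q := Fintype.one_lt_card
  have hodd : q % 2 = 1 := FiniteField.odd_card_of_char_ne_two fun e => h2 (by
    have := ringChar.Nat.cast_ringChar (R := F)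
    rw [e] at this; exact_mod_cast this)
  have hT : Fintype.card Tr.T = q + 1 := by rw [← Nat.card_eq_fintype_card, Tr.card_T]
  obtain ⟨α, αne, αsq, αun, αap⟩ := exists_sign (X := Fˣ) (by
    rw [Fintype.card_units]; exact ⟨(q - 1) / 2, by omega⟩)
  obtain ⟨θ, θne, θsq, θun, θap⟩ := exists_sign (X := Tr.T) (by rw [hT]; exact ⟨(q + 1) / 2, by omega⟩)
  rw [hT] at θap
  have hchar : ringChar F ≠ 2 := fun e => h2 (by
    have := ringChar.Nat.cast_ringChar (R := F)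
    rw [e] at this; exact_mod_cast this)
  have αap' : ∀ a : Fˣ, (IsSquare (a : F) → (α a : ℂ) = 1) ∧ (¬ IsSquare (a : F) → (α a : ℂ) = -1) := by
    intro a
    have key : IsSquare (a : F) ↔ a ^ (Fintype.card Fˣ / 2) = 1 := by
      rw [FiniteField.isSquare_iff hchar a.ne_zero, Units.ext_iff, Units.val_pow_eq_pow_val, Units.val_one,
        Fintype.card_units, show (q - 1) / 2 = q / 2 by omega]
    rw [key]; exact αap a
  have hsign : (θ Tr.negT : ℂ) = -(α (-1) : ℂ) := by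
    obtain ⟨k, hk⟩ : ∃ k, q = 2 * k + 1 := ⟨q / 2, by omega⟩
    have hn : Tr.negT ≠ 1 := (one_ne_negT Tr h2).symm
    have e1 := αap (-1)
    rw [Fintype.card_units, ← hq, show (q - 1) / 2 = k by omega] at e1
    have e2 := θap Tr.negT
    rw [show (q + 1) / 2 = k + 1 by omega] at e2
    rcases Nat.even_or_odd k with he | ho
    · rw [e1.1 he.neg_one_pow, e2.2 ?_]
      obtain ⟨j, rfl⟩ := he
      rw [pow_succ, ← two_mul, pow_mul, sq, Tr.negT_sq, one_pow, one_mul]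
      exact hn
    · rw [e1.2 (by rw [ho.neg_one_pow]; exact (one_ne_neg_one h2).symm), e2.1 ?_, neg_neg]
      obtain ⟨j, rfl⟩ := ho
      rw [show 2 * j + 1 + 1 = 2 * (j + 1) by ring, pow_mul, sq, Tr.negT_sq, one_pow]
  have αα : α * α = 1 := (pow_two α).symm.trans αsq
  have θθ : θ * θ = 1 := (pow_two θ).symm.trans θsq
  -- the two norms
  obtain ⟨χ₁, χ₂, ε₁, ε₂, hχ₁, hχ₂, hχne, hε₁, hε₂, hR⟩ := norm_two (isGen_of_isCharacter (isCharacter_R α))
    (by rw [classInner_R_R h2, if_pos rfl, if_pos αα]; norm_num)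
  obtain ⟨ψ₁, ψ₂, δ₁, δ₂, hψ₁, hψ₂, hψne, hδ₁, hδ₂, hD⟩ := norm_two (isGen_D Tr h2 θ)
    (by rw [classInner_D_D, if_pos rfl, if_pos θθ]; norm_num)
  have co : ∀ {a b : SL(2, F) → ℂ} {s t : ℤ}, Cfsg.IsIrrCharacter SL(2, F) a → Cfsg.IsIrrCharacter SL(2, F) b →
      a ≠ b → Cfsg.classInner ((s : ℂ) • a + (t : ℂ) • b) a = s ∧
        Cfsg.classInner ((s : ℂ) • a + (t : ℂ) • b) b = t := fun ha hb hne => by
    simp [classInner_add_left, classInner_smul_left, classInner_isIrr_self ha, classInner_isIrr_self hb,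
      classInner_isIrr_ne ha hb hne, classInner_isIrr_ne hb ha hne.symm]
  have hpos : ∀ {a : SL(2, F) → ℂ} {s : ℤ}, Cfsg.IsIrrCharacter SL(2, F) a → (s = 1 ∨ s = -1) →
      Cfsg.classInner (R α) a = s → s = 1 := by
    intro a s ha hs e
    obtain ⟨m, hm⟩ := classInner_character_irr (isCharacter_R α) ha
    rw [e] at hm
    have : s = (m : ℤ) := by exact_mod_cast hm
    omega
  obtain rfl : ε₁ = 1 := hpos hχ₁ hε₁ (hR ▸ (co hχ₁ hχ₂ hχne).1)
  obtain rfl : ε₂ = 1 := hpos hχ₂ hε₂ (hR ▸ (co hχ₁ hχ₂ hχne).2)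
  have hR' : R α = χ₁ + χ₂ := by rw [hR]; simp
  -- signs at `-1`
  have hnc : (-1 : SL(2, F)) ∈ Subgroup.center SL(2, F) := (SL2Trace.mem_center_iff_eq _).2 (Or.inr rfl)
  have hsq : (-1 : SL(2, F)) * -1 = 1 := by simp
  have αn : (α (-1) : ℂ) = 1 ∨ (α (-1) : ℂ) = -1 := by
    by_cases h : IsSquare ((-1 : Fˣ) : F)
    · exact Or.inl ((αap' _).1 h)
    · exact Or.inr ((αap' _).2 h)
  obtain ⟨a, ha0, ha⟩ := exists_degree_pos hχ₁
  obtain ⟨b, hb0, hb⟩ := exists_degree_pos hχ₂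
  obtain ⟨c, hc0, hc⟩ := exists_degree_pos hψ₁
  obtain ⟨d, hd0, hd⟩ := exists_degree_pos hψ₂
  have hab : a + b = q + 1 := by
    have := R_one α
    rw [hR', Pi.add_apply, ha, hb] at this
    exact_mod_cast this
  have hcd : δ₁ * c + δ₂ * d = (q : ℤ) - 1 := by
    have := D_one Tr h2 θ
    rw [hD, Pi.add_apply, Pi.smul_apply, Pi.smul_apply, smul_eq_mul, smul_eq_mul, hc, hd] at this
    exact_mod_cast this
  have hRn : χ₁ (-1) + χ₂ (-1) = ((q : ℂ) + 1) * (α (-1) : ℂ) := by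
    rw [← Pi.add_apply, ← hR', ← mk_neg_one_zero, R_central _ (Or.inr rfl)]
  have hDn : (δ₁ : ℂ) * ψ₁ (-1) + (δ₂ : ℂ) * ψ₂ (-1) = -((q : ℂ) - 1) * (α (-1) : ℂ) := by
    have := D_central Tr h2 θ (e := -1) (Or.inr rfl)
    rw [mk_neg_one_zero, hD, beta_neg_one, hsign, Pi.add_apply, Pi.smul_apply, Pi.smul_apply] at this
    simp only [smul_eq_mul] at this
    rw [this]; ring
  have hχn : χ₁ (-1) = (α (-1) : ℂ) * χ₁ 1 ∧ χ₂ (-1) = (α (-1) : ℂ) * χ₂ 1 := by
    have habC : (q : ℂ) + 1 = (a : ℂ) + b := by exact_mod_cast hab.symm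
    obtain ⟨e, he, he'⟩ : ∃ e : ℤ, (e = 1 ∨ e = -1) ∧ (α (-1) : ℂ) = e := by
      rcases αn with h | h
      · exact ⟨1, Or.inl rfl, by rw [h]; simp⟩
      · exact ⟨-1, Or.inr rfl, by rw [h]; simp⟩
    obtain ⟨s, hs, hs'⟩ : ∃ s : ℤ, (s = 1 ∨ s = -1) ∧ χ₁ (-1) = s * χ₁ 1 := by
      rcases central_sign hχ₁ hnc hsq with h | h
      · exact ⟨1, Or.inl rfl, by rw [h]; simp⟩
      · exact ⟨-1, Or.inr rfl, by rw [h]; simp⟩
    obtain ⟨t, ht, ht'⟩ : ∃ t : ℤ, (t = 1 ∨ t = -1) ∧ χ₂ (-1) = t * χ₂ 1 := by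
      rcases central_sign hχ₂ hnc hsq with h | h
      · exact ⟨1, Or.inl rfl, by rw [h]; simp⟩
      · exact ⟨-1, Or.inr rfl, by rw [h]; simp⟩
    rw [hs', ht', he', habC, ha, hb] at hRn
    have hz : s * (a : ℤ) + t * b = ((a : ℤ) + b) * e := by exact_mod_cast hRn
    have hse : s = e ∧ t = e := by
      rcases hs with rfl | rfl <;> rcases ht with rfl | rfl <;> rcases he with rfl | rfl <;> omega
    rw [hs', ht', he', hse.1, hse.2]
    exact ⟨rfl, rfl⟩
  -- the four characters are distinct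
  have hRD : ∀ x, (x = χ₁ ∨ x = χ₂) → ∀ y, (y = ψ₁ ∨ y = ψ₂) → x ≠ y := by
    have h0 : Cfsg.classInner (R α) (D Tr h2 θ) = 0 := classInner_R_D Tr h2 α θ
    rw [hD, classInner_add_right, classInner_smul_right, classInner_smul_right, hR', classInner_add_left,
      classInner_add_left] at h0
    have hm : ∀ y, Cfsg.IsIrrCharacter SL(2, F) y → Cfsg.classInner χ₁ y + Cfsg.classInner χ₂ y =
        if y = χ₁ ∨ y = χ₂ then 1 else 0 := by
      intro y hy
      split_ifs with h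
      · rcases h with rfl | rfl
        · rw [classInner_isIrr_self hy, classInner_isIrr_ne hχ₂ hy hχne.symm, add_zero]
        · rw [classInner_isIrr_self hy, classInner_isIrr_ne hχ₁ hy hχne, zero_add]
      · rw [not_or] at h
        rw [classInner_isIrr_ne hχ₁ hy (Ne.symm h.1), classInner_isIrr_ne hχ₂ hy (Ne.symm h.2), add_zero]
    rw [hm _ hψ₁, hm _ hψ₂, map_intCast, map_intCast] at h0
    intro x hx y hy e
    have hδ₁' : (δ₁ : ℂ) ≠ 0 := by rcases hδ₁ with rfl | rfl <;> norm_num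
    have hδ₂' : (δ₂ : ℂ) ≠ 0 := by rcases hδ₂ with rfl | rfl <;> norm_num
    have hboth : (ψ₁ = χ₁ ∨ ψ₁ = χ₂) ∧ (ψ₂ = χ₁ ∨ ψ₂ = χ₂) := by
      rcases hy with rfl | rfl
      · have h : y = χ₁ ∨ y = χ₂ := e ▸ hx
        refine ⟨h, by_contra fun h' => hδ₁' ?_⟩
        rw [if_pos h, if_neg h'] at h0
        simpa using h0
      · have h : y = χ₁ ∨ y = χ₂ := e ▸ hx
        refine ⟨by_contra fun h' => hδ₂' ?_, h⟩
        rw [if_neg h', if_pos h] at h0
        simpa using h0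
    have hval : ∀ y, (y = χ₁ ∨ y = χ₂) → y (-1) = (α (-1) : ℂ) * y 1 := by
      rintro y (rfl | rfl)
      · exact hχn.1
      · exact hχn.2
    rw [hval _ hboth.1, hval _ hboth.2, hc, hd] at hDn
    have hcdC : (δ₁ : ℂ) * c + (δ₂ : ℂ) * d = (q : ℂ) - 1 := by exact_mod_cast hcd
    have hz : ((q : ℂ) - 1) * (α (-1) : ℂ) = 0 := by
      linear_combination (1 / 2 : ℂ) * hDn - (1 / 2 : ℂ) * (α (-1) : ℂ) * hcdC
    rcases mul_eq_zero.1 hz with h | h
    · rw [sub_eq_zero, Nat.cast_eq_one] at h; omega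
    · exact (α (-1)).ne_zero h
  -- the known characters
  let one' : Cfsg.IrrCharacter SL(2, F) := ⟨fun _ => 1, isIrr_one⟩
  let St' : Cfsg.IrrCharacter SL(2, F) := ⟨St, isIrr_St h2⟩
  let fR : {β : Fˣ →* ℂˣ // β ^ 2 ≠ 1} → Cfsg.IrrCharacter SL(2, F) := fun β => ⟨R β.1, isIrr_R h2 β.2⟩
  let fD : {η : Tr.T →* ℂˣ // η ^ 2 ≠ 1} → Cfsg.IrrCharacter SL(2, F) := fun η => ⟨D Tr h2 η.1, isIrr_D Tr h2 η.2⟩
  haveI : Fintype (Fˣ →* ℂˣ) := Fintype.ofFinite _
  haveI : Fintype (Tr.T →* ℂˣ) := Fintype.ofFinite _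
  set IR := Finset.univ.image fR with hIR
  set ID := Finset.univ.image fD with hID
  have hcR : 2 * IR.card = q - 3 := by
    rw [hIR, card_image_double fR (fun β => ⟨β.1⁻¹, inv_sq_ne_one β.2⟩)
      (fun β e => inv_ne_self_of_sq β.2 (congrArg Subtype.val e)) ?_, card_sq_ne_one αne αsq αun,
      ← Nat.card_eq_fintype_card, CommGroup.card_monoidHom_of_hasEnoughRootsOfUnity, Nat.card_units,
      Nat.card_eq_fintype_card, Nat.sub_sub]
    intro x y
    constructor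
    · intro e
      have h := classInner_R_R h2 x.1 y.1
      rw [show R x.1 = R y.1 from congrArg Subtype.val e, classInner_isIrr_self (isIrr_R h2 y.2)] at h
      by_contra hne
      rw [not_or] at hne
      rw [if_neg (fun h' => hne.1 (Subtype.ext h'.symm)),
        if_neg (fun h' => hne.2 (Subtype.ext (show y.1 = x.1⁻¹ from pair_eq_inv x.1 y.1 h')))] at h
      norm_num at h
    · rintro (rfl | rfl)
      · rfl
      · refine Subtype.ext (show R x.1 = R x.1⁻¹ from ?_)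
        have e1 : Cfsg.classInner (R x.1) (R x.1⁻¹) = 1 := by
          rw [classInner_R_R h2, if_neg (fun h => inv_ne_self_of_sq x.2 h.symm), if_pos (mul_inv_cancel x.1), zero_add]
        by_contra hne
        rw [classInner_isIrr_ne (isIrr_R h2 x.2) (isIrr_R h2 (inv_sq_ne_one x.2)) hne] at e1
        exact zero_ne_one e1
  have hcD : 2 * ID.card = q - 1 := by
    rw [hID, card_image_double fD (fun β => ⟨β.1⁻¹, inv_sq_ne_one β.2⟩)
      (fun β e => inv_ne_self_of_sq β.2 (congrArg Subtype.val e)) ?_, card_sq_ne_one θne θsq θun,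
      ← Nat.card_eq_fintype_card, CommGroup.card_monoidHom_of_hasEnoughRootsOfUnity, Tr.card_T]
    · omega
    intro x y
    constructor
    · intro e
      have h := classInner_D_D Tr h2 x.1 y.1
      rw [show D Tr h2 x.1 = D Tr h2 y.1 from congrArg Subtype.val e, classInner_isIrr_self (isIrr_D Tr h2 y.2)] at h
      by_contra hne
      rw [not_or] at hne
      rw [if_neg (fun h' => hne.1 (Subtype.ext h'.symm)),
        if_neg (fun h' => hne.2 (Subtype.ext (show y.1 = x.1⁻¹ from pair_eq_inv x.1 y.1 h')))] at h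
      norm_num at h
    · rintro (rfl | rfl)
      · rfl
      · refine Subtype.ext (show D Tr h2 x.1 = D Tr h2 x.1⁻¹ from ?_)
        have e1 : Cfsg.classInner (D Tr h2 x.1) (D Tr h2 x.1⁻¹) = 1 := by
          rw [classInner_D_D, if_neg (fun h => inv_ne_self_of_sq x.2 h.symm), if_pos (mul_inv_cancel x.1), zero_add]
        by_contra hne
        rw [classInner_isIrr_ne (isIrr_D Tr h2 x.2) (isIrr_D Tr h2 (inv_sq_ne_one x.2)) hne] at e1
        exact zero_ne_one e1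
  -- orthogonality to the exceptional pairs
  have orth : ∀ k ∈ ({one', St'} : Finset _) ∪ (IR ∪ ID),
      Cfsg.classInner (R α) k.1 = 0 ∧ Cfsg.classInner (D Tr h2 θ) k.1 = 0 := by
    intro k hk
    simp only [Finset.mem_union, Finset.mem_insert, Finset.mem_singleton, hIR, hID, Finset.mem_image,
      Finset.mem_univ, true_and] at hk
    have o1 : Cfsg.classInner (R α) (fun _ => 1) = 0 := by rw [classInner_R_const h2, if_neg αne]
    have o2 : Cfsg.classInner (D Tr h2 θ) (fun _ => 1) = 0 := by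
      rw [classInner_D_const, if_neg θne, neg_zero]
    have o3 : ∀ β η, Cfsg.classInner (D Tr h2 η) (R β) = 0 := fun β η => by
      rw [classInner_conj_symm, classInner_R_D, map_zero]
    rcases hk with (rfl | rfl) | ⟨β, rfl⟩ | ⟨η, rfl⟩
    · exact ⟨o1, o2⟩
    · constructor
      · show Cfsg.classInner (R α) St = 0
        rw [St_eq, classInner_sub_right, o1, classInner_R_R h2, if_neg αne, if_neg (fun h => αne ((mul_one α).symm.trans h))]; simp
      · show Cfsg.classInner (D Tr h2 θ) St = 0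
        rw [St_eq, classInner_sub_right, o2, o3, sub_zero]
    · refine ⟨?_, o3 _ _⟩
      show Cfsg.classInner (R α) (R β.1) = 0
      rw [classInner_R_R h2, if_neg (fun h => β.2 (by rw [← h]; exact αsq)),
        if_neg (fun h => β.2 (pair_sq (a := α) h αsq)), add_zero]
    · refine ⟨classInner_R_D Tr h2 _ _, ?_⟩
      show Cfsg.classInner (D Tr h2 θ) (D Tr h2 η.1) = 0
      rw [classInner_D_D, if_neg (fun h => η.2 (by rw [← h]; exact θsq)),
        if_neg (fun h => η.2 (pair_sq (a := θ) h θsq)), add_zero]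
  set P : Finset (Cfsg.IrrCharacter SL(2, F)) := {⟨χ₁, hχ₁⟩, ⟨χ₂, hχ₂⟩, ⟨ψ₁, hψ₁⟩, ⟨ψ₂, hψ₂⟩} with hP
  have hdisj : Disjoint P (({one', St'} : Finset _) ∪ (IR ∪ ID)) := by
    rw [Finset.disjoint_left]
    intro k hk hk'
    obtain ⟨e1, e2⟩ := orth k hk'
    simp only [hP, Finset.mem_insert, Finset.mem_singleton] at hk
    have d1 : (δ₁ : ℂ) ≠ 0 := by rcases hδ₁ with rfl | rfl <;> norm_num
    have d2 : (δ₂ : ℂ) ≠ 0 := by rcases hδ₂ with rfl | rfl <;> norm_num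
    rcases hk with rfl | rfl | rfl | rfl
    · rw [hR, (co hχ₁ hχ₂ hχne).1] at e1; norm_num at e1
    · rw [hR, (co hχ₁ hχ₂ hχne).2] at e1; norm_num at e1
    · rw [hD, (co hψ₁ hψ₂ hψne).1] at e2; exact d1 e2
    · rw [hD, (co hψ₁ hψ₂ hψne).2] at e2; exact d2 e2
  have degIR : ∀ k ∈ IR, k.1 1 = ((q + 1 : ℕ) : ℂ) := by
    intro k hk
    obtain ⟨β, -, rfl⟩ := Finset.mem_image.1 hk
    show R β.1 1 = _
    rw [R_one]; push_cast; rfl
  have degID : ∀ k ∈ ID, k.1 1 = ((q - 1 : ℕ) : ℂ) := by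
    intro k hk
    obtain ⟨β, -, rfl⟩ := Finset.mem_image.1 hk
    show D Tr h2 β.1 1 = _
    rw [D_one, Nat.cast_sub hq1.le, Nat.cast_one]
  have d12 : Disjoint IR ID := by
    rw [Finset.disjoint_left]
    intro k h1 h2'
    have := (degIR k h1).symm.trans (degID k h2')
    rw [Nat.cast_inj] at this; omega
  have d34 : Disjoint ({one', St'} : Finset _) (IR ∪ ID) := by
    rw [Finset.disjoint_left]
    intro k hk hk'
    simp only [Finset.mem_insert, Finset.mem_singleton] at hk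
    rcases Finset.mem_union.1 hk' with h | h
    · have h' := degIR k h
      rcases hk with rfl | rfl
      · exact absurd h' (by simp [one']; omega)
      · rw [show St'.1 1 = (q : ℂ) from St_one, Nat.cast_inj] at h'; omega
    · rcases hk with rfl | rfl
      · obtain ⟨η, -, hη⟩ := Finset.mem_image.1 h
        have := classInner_D_const Tr h2 η.1
        rw [show D Tr h2 η.1 = fun _ => (1 : ℂ) from congrArg Subtype.val hη,
          classInner_isIrr_self isIrr_one, if_neg (fun e => η.2 (one_pow_two (x := η.1) e))] at this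
        norm_num at this
      · have h' := degID _ h
        rw [show St'.1 1 = (q : ℂ) from St_one, Nat.cast_inj] at h'; omega
  have hne1 : one' ≠ St' := fun e => by
    have := congrArg (fun k : Cfsg.IrrCharacter SL(2, F) => k.1 1) e
    simp only [one', St', St_one] at this
    rw [eq_comm, Nat.cast_eq_one] at this; omega
  set A := P ∪ (({one', St'} : Finset _) ∪ (IR ∪ ID)) with hA
  -- the degrees
  choose deg hdeg0 hdeg using fun k : Cfsg.IrrCharacter SL(2, F) => exists_degree_pos k.2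
  have htot : ∑ k, deg k ^ 2 = q * (q ^ 2 - 1) := by
    have := sum_degree_sq (G := SL(2, F))
    simp only [hdeg, card_SL2] at this
    exact_mod_cast this
  have hsumA : ∑ k ∈ A, deg k ^ 2 = a ^ 2 + b ^ 2 + c ^ 2 + d ^ 2 +
      (1 + q ^ 2 + (IR.card * (q + 1) ^ 2 + ID.card * (q - 1) ^ 2)) := by
    have val : ∀ (k : Cfsg.IrrCharacter SL(2, F)) (n : ℕ), k.1 1 = n → deg k = n := fun k n h => by
      rw [hdeg] at h; exact_mod_cast h
    have n12 : (⟨χ₁, hχ₁⟩ : Cfsg.IrrCharacter SL(2, F)) ≠ ⟨χ₂, hχ₂⟩ := fun e => hχne (congrArg Subtype.val e)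
    have n34 : (⟨ψ₁, hψ₁⟩ : Cfsg.IrrCharacter SL(2, F)) ≠ ⟨ψ₂, hψ₂⟩ := fun e => hψne (congrArg Subtype.val e)
    rw [hA, Finset.sum_union hdisj, Finset.sum_union d34, Finset.sum_union d12, Finset.sum_pair hne1, hP,
      Finset.sum_insert, Finset.sum_insert, Finset.sum_pair n34,
      Finset.sum_congr rfl (fun k hk => by rw [val k _ (degIR k hk)]) (s₁ := IR),
      Finset.sum_congr rfl (fun k hk => by rw [val k _ (degID k hk)]) (s₁ := ID), Finset.sum_const,
      Finset.sum_const, val one' 1 (by simp [one']), val St' q St_one, val ⟨χ₁, hχ₁⟩ a ha,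
      val ⟨χ₂, hχ₂⟩ b hb, val ⟨ψ₁, hψ₁⟩ c hc, val ⟨ψ₂, hψ₂⟩ d hd]
    · simp only [smul_eq_mul]; ring
    · simp only [Finset.mem_insert, Finset.mem_singleton, Subtype.ext_iff, not_or]
      exact ⟨hRD _ (Or.inr rfl) _ (Or.inl rfl), hRD _ (Or.inr rfl) _ (Or.inr rfl)⟩
    · simp only [Finset.mem_insert, Finset.mem_singleton, Subtype.ext_iff, not_or]
      exact ⟨hχne, hRD _ (Or.inl rfl) _ (Or.inl rfl), hRD _ (Or.inl rfl) _ (Or.inr rfl)⟩
  -- the budget
  obtain ⟨k, hk⟩ : ∃ k, q = 2 * k + 1 := ⟨q / 2, by omega⟩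
  have hbudget : 2 * (1 + q ^ 2 + (IR.card * (q + 1) ^ 2 + ID.card * (q - 1) ^ 2)) + ((q + 1) ^ 2 + (q - 1) ^ 2) =
      2 * (q * (q ^ 2 - 1)) := by
    obtain ⟨k', rfl⟩ : ∃ k', k = k' + 1 := ⟨k - 1, by omega⟩
    have e1 : IR.card = k' := by omega
    have e2 : ID.card = k' + 1 := by omega
    rw [e1, e2, hk, show 2 * (k' + 1) + 1 - 1 = 2 * (k' + 1) by omega,
      show (2 * (k' + 1) + 1) ^ 2 - 1 = (2 * (k' + 1)) * (2 * (k' + 1) + 2) from
        Nat.sub_eq_of_eq_add (by ring)]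
    ring
  have hle : ∑ k ∈ A, deg k ^ 2 ≤ ∑ k, deg k ^ 2 := Finset.sum_le_sum_of_subset (Finset.subset_univ _)
  have hX : 2 * (a ^ 2 + b ^ 2 + c ^ 2 + d ^ 2) ≤ (q + 1) ^ 2 + (q - 1) ^ 2 := by omega
  have habcd : a = b ∧ c = d ∧ δ₁ = 1 ∧ δ₂ = 1 := by
    have hX' : 2 * ((a : ℤ) ^ 2 + b ^ 2 + c ^ 2 + d ^ 2) ≤ ((q : ℤ) + 1) ^ 2 + ((q : ℤ) - 1) ^ 2 := by
      have := (Int.ofNat_le.2 hX)
      push_cast [Nat.cast_sub hq1.le] at this
      exact this
    have hab' : (a : ℤ) + b = q + 1 := by exact_mod_cast hab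
    have hc' : (0 : ℤ) < c := by exact_mod_cast hc0
    have hd' : (0 : ℤ) < d := by exact_mod_cast hd0
    have hq' : (1 : ℤ) < q := by exact_mod_cast hq1
    rcases hδ₁ with rfl | rfl <;> rcases hδ₂ with rfl | rfl
    · refine ⟨?_, ?_, rfl, rfl⟩
      · have : ((a : ℤ) - b) ^ 2 ≤ 0 := by nlinarith [sq_nonneg ((c : ℤ) - d)]
        have := pow_eq_zero_iff two_ne_zero |>.1 (le_antisymm this (sq_nonneg _))
        omega
      · have : ((c : ℤ) - d) ^ 2 ≤ 0 := by nlinarith [sq_nonneg ((a : ℤ) - b)]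
        have := pow_eq_zero_iff two_ne_zero |>.1 (le_antisymm this (sq_nonneg _))
        omega
    · exfalso; nlinarith [sq_nonneg ((a : ℤ) - b)]
    · exfalso; nlinarith [sq_nonneg ((a : ℤ) - b)]
    · exfalso; linarith
  obtain ⟨rfl, rfl, rfl, rfl⟩ := habcd
  have hcq : c = k := by omega
  have haq : a = k + 1 := by omega
  have hAuniv : A = Finset.univ := by
    by_contra hne
    obtain ⟨x, hx⟩ : ∃ x, x ∉ A := by
      by_contra hcon
      exact hne (Finset.eq_univ_of_forall fun x => not_not.1 fun h => hcon ⟨x, h⟩)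
    have hlt : ∑ k ∈ A, deg k ^ 2 < ∑ k, deg k ^ 2 :=
      Finset.sum_lt_sum_of_subset (Finset.subset_univ _) (Finset.mem_univ x) hx
        (pow_pos (hdeg0 x) 2) fun _ _ _ => Nat.zero_le _
    rw [hsumA, htot] at hlt
    have : (q + 1) ^ 2 + (q - 1) ^ 2 = 2 * (a ^ 2 + a ^ 2 + c ^ 2 + c ^ 2) := by
      rw [hcq, haq, hk, show 2 * k + 1 - 1 = 2 * k by omega]; ring
    omega
  exact ⟨{
    α := α, θ := θ, α_ne := αne, α_sq := αsq, α_unique := αun, α_apply := αap', θ_ne := θne, θ_sq := θsq,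
    θ_unique := θun, θ_apply := θap, sign := hsign, χ₁ := χ₁, χ₂ := χ₂, ψ₁ := ψ₁, ψ₂ := ψ₂,
    χ₁_irr := hχ₁, χ₂_irr := hχ₂, ψ₁_irr := hψ₁, ψ₂_irr := hψ₂, χ_ne := hχne, ψ_ne := hψne,
    R_eq := hR', D_eq := by rw [hD]; simp
    χ₁_one := by rw [ha, ← hq, show (q + 1) / 2 = a by omega]
    χ₂_one := by rw [hb, ← hq, show (q + 1) / 2 = a by omega]
    ψ₁_one := by rw [hc, ← hq, show (q - 1) / 2 = c by omega]
    ψ₂_one := by rw [hd, ← hq, show (q - 1) / 2 = c by omega]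
    exhaustive := fun χ hχ => by
      have hm : (⟨χ, hχ⟩ : Cfsg.IrrCharacter SL(2, F)) ∈ A := hAuniv ▸ Finset.mem_univ _
      simp only [hA, hP, hIR, hID, Finset.mem_union, Finset.mem_insert, Finset.mem_singleton,
        Finset.mem_image, Finset.mem_univ, true_and] at hm
      rcases hm with (h | h | h | h) | (h | h) | ⟨β, h⟩ | ⟨η, h⟩
      all_goals have e : _ = _ := congrArg Subtype.val h
      · exact Or.inr (Or.inr (Or.inr (Or.inr (Or.inl e))))
      · exact Or.inr (Or.inr (Or.inr (Or.inr (Or.inr (Or.inl e)))))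
      · exact Or.inr (Or.inr (Or.inr (Or.inr (Or.inr (Or.inr (Or.inl e))))))
      · exact Or.inr (Or.inr (Or.inr (Or.inr (Or.inr (Or.inr (Or.inr e))))))
      · exact Or.inl e
      · exact Or.inr (Or.inl e)
      · exact Or.inr (Or.inr (Or.inl ⟨β.1, β.2, e.symm⟩))
      · exact Or.inr (Or.inr (Or.inr (Or.inl ⟨η.1, η.2, e.symm⟩))) }⟩

end CfsgLib.SL2CharTable
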