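import Cfsg.Agent.SL2CharTable.Final
import Cfsg.Agent.Characters.Classes

/-!
# Numbers of irreducible characters of each type of `SL₂(q)`, `q` odd
-/

set_option autoImplicit false
set_option linter.unusedSectionVars false

namespace CfsgLib.SL2CharTable

open Matrix CfsgLib.SL2Borel CfsgLib.SL2Tori CfsgLib.Characters
open scoped MatrixGroups

variable {F : Type*} [Field F] [Fintype F] [DecidableEq F]

theorem irr_eq_iff {G : Type*} [Group G] [Fintype G] {χ ψ : G → ℂ} (hχ : Cfsg.IsIrrCharacter G χ)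
    (hψ : Cfsg.IsIrrCharacter G ψ) : χ = ψ ↔ Cfsg.classInner χ ψ ≠ 0 := by
  refine ⟨?_, fun h => by_contra fun hne => h (classInner_isIrr_ne hχ hψ hne)⟩
  rintro rfl
  rw [classInner_isIrr_self hχ]
  exact one_ne_zero

theorem sum_ite_ne_zero {p q : Prop} {_ : Decidable p} {_ : Decidable q} :
    ((if p then (1 : ℂ) else 0) + if q then 1 else 0) ≠ 0 ↔ p ∨ q := by
  by_cases hp : p <;> by_cases hq : q <;> simp [hp, hq] <;> norm_num

variable (Tr : NSTorus F) (h2 : (2 : F) ≠ 0)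

include h2 in
theorem R_eq_iff {β γ : Fˣ →* ℂˣ} (hβ : β ^ 2 ≠ 1) (hγ : γ ^ 2 ≠ 1) : R β = R γ ↔ γ = β ∨ γ = β⁻¹ := by
  rw [irr_eq_iff (isIrr_R h2 hβ) (isIrr_R h2 hγ), classInner_R_R h2, sum_ite_ne_zero]
  exact or_congr eq_comm ⟨fun h => pair_eq_inv β γ h, fun h => by rw [h]; exact mul_inv_cancel β⟩

theorem D_eq_iff {β γ : Tr.T →* ℂˣ} (hβ : β ^ 2 ≠ 1) (hγ : γ ^ 2 ≠ 1) :
    D Tr h2 β = D Tr h2 γ ↔ γ = β ∨ γ = β⁻¹ := by
  rw [irr_eq_iff (isIrr_D Tr h2 hβ) (isIrr_D Tr h2 hγ), classInner_D_D, sum_ite_ne_zero]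
  exact or_congr eq_comm ⟨fun h => pair_eq_inv β γ h, fun h => by rw [h]; exact mul_inv_cancel β⟩

/-- The principal series characters as a family. -/
noncomputable def fR (β : {β : Fˣ →* ℂˣ // β ^ 2 ≠ 1}) : Cfsg.IrrCharacter SL(2, F) := ⟨R β.1, isIrr_R h2 β.2⟩

/-- The discrete series characters as a family. -/
noncomputable def fD (η : {η : Tr.T →* ℂˣ // η ^ 2 ≠ 1}) : Cfsg.IrrCharacter SL(2, F) :=
  ⟨D Tr h2 η.1, isIrr_D Tr h2 η.2⟩

variable {Tr} {h2}

theorem Halves.card_range_R (H : Halves Tr h2) :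
    2 * (Set.range (fR h2)).ncard = Fintype.card F - 3 := by
  classical
  haveI : Fintype (Fˣ →* ℂˣ) := Fintype.ofFinite _
  rw [show Set.range (fR h2) = ↑(Finset.univ.image (fR h2)) by simp, Set.ncard_coe_finset,
    card_image_double (fR h2) (fun β => ⟨β.1⁻¹, inv_sq_ne_one β.2⟩)
      (fun β e => inv_ne_self_of_sq β.2 (congrArg Subtype.val e))
      (fun x y => by rw [fR, fR, Subtype.ext_iff, R_eq_iff h2 x.2 y.2]; simp [Subtype.ext_iff]),
    card_sq_ne_one H.α_ne H.α_sq H.α_unique, ← Nat.card_eq_fintype_card,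
    CommGroup.card_monoidHom_of_hasEnoughRootsOfUnity, Nat.card_units, Nat.card_eq_fintype_card, Nat.sub_sub]

theorem Halves.card_range_D (H : Halves Tr h2) :
    2 * (Set.range (fD Tr h2)).ncard = Fintype.card F - 1 := by
  classical
  haveI : Fintype Tr.T := Fintype.ofFinite _
  haveI : Fintype (Tr.T →* ℂˣ) := Fintype.ofFinite _
  rw [show Set.range (fD Tr h2) = ↑(Finset.univ.image (fD Tr h2)) by simp, Set.ncard_coe_finset,
    card_image_double (fD Tr h2) (fun β => ⟨β.1⁻¹, inv_sq_ne_one β.2⟩)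
      (fun β e => inv_ne_self_of_sq β.2 (congrArg Subtype.val e))
      (fun x y => by rw [fD, fD, Subtype.ext_iff, D_eq_iff Tr h2 x.2 y.2]; simp [Subtype.ext_iff]),
    card_sq_ne_one H.θ_ne H.θ_sq H.θ_unique, ← Nat.card_eq_fintype_card,
    CommGroup.card_monoidHom_of_hasEnoughRootsOfUnity, Tr.card_T]
  have := Fintype.one_lt_card (α := F)
  omega

namespace Halves

variable (H : Halves Tr h2)

/-- The trivial character. -/
def irrOne : Cfsg.IrrCharacter SL(2, F) := ⟨fun _ => 1, isIrr_one⟩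

/-- The Steinberg character. -/
noncomputable def irrSt (h2 : (2 : F) ≠ 0) : Cfsg.IrrCharacter SL(2, F) := ⟨St, isIrr_St h2⟩

/-- The two halves of degree `(q + 1)/2`. -/
def pairχ : Set (Cfsg.IrrCharacter SL(2, F)) := {⟨H.χ₁, H.χ₁_irr⟩, ⟨H.χ₂, H.χ₂_irr⟩}

/-- The two halves of degree `(q - 1)/2`. -/
def pairψ : Set (Cfsg.IrrCharacter SL(2, F)) := {⟨H.ψ₁, H.ψ₁_irr⟩, ⟨H.ψ₂, H.ψ₂_irr⟩}

theorem card_pairs : H.pairχ.ncard = 2 ∧ H.pairψ.ncard = 2 :=
  ⟨Set.ncard_pair fun e => H.χ_ne (congrArg Subtype.val e),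
    Set.ncard_pair fun e => H.ψ_ne (congrArg Subtype.val e)⟩

theorem univ_eq : (Set.univ : Set (Cfsg.IrrCharacter SL(2, F))) =
    {irrOne, irrSt h2} ∪ Set.range (fR h2) ∪ Set.range (fD Tr h2) ∪ H.pairχ ∪ H.pairψ := by
  refine (Set.eq_univ_of_forall fun χ => ?_).symm
  simp only [Set.mem_union, Set.mem_insert_iff, Set.mem_singleton_iff, Set.mem_range, pairχ, pairψ,
    Subtype.ext_iff, irrOne, irrSt, fR, fD, Subtype.exists]
  rcases H.exhaustive χ.1 χ.2 with h | h | ⟨β, hb, h⟩ | ⟨η, he, h⟩ | h | h | h | h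
  · simp [h]
  · simp [h]
  · exact Or.inl (Or.inl (Or.inl (Or.inr ⟨β, hb, h.symm⟩)))
  · exact Or.inl (Or.inl (Or.inr ⟨η, he, h.symm⟩))
  all_goals simp [h]

include H in
theorem card_irr : Nat.card (Cfsg.IrrCharacter SL(2, F)) = Fintype.card F + 4 := by
  have hodd := odd_card (F := F) h2
  have hq1 := Fintype.one_lt_card (α := F)
  -- inner products with the two reducible characters
  have o1 : Cfsg.classInner (R H.α) (fun _ => 1) = 0 := by rw [classInner_R_const h2, if_neg H.α_ne]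
  have o2 : Cfsg.classInner (D Tr h2 H.θ) (fun _ => 1) = 0 := by
    rw [classInner_D_const, if_neg H.θ_ne, neg_zero]
  have o3 : ∀ β η, Cfsg.classInner (D Tr h2 η) (R β) = 0 := fun β η => by
    rw [classInner_conj_symm, classInner_R_D, map_zero]
  have o4 : Cfsg.classInner (R H.α) St = 0 := by
    rw [St_eq, classInner_sub_right, o1, classInner_R_R h2, if_neg H.α_ne,
      if_neg (fun h => H.α_ne ((mul_one H.α).symm.trans h))]
    simp
  have o5 : Cfsg.classInner (D Tr h2 H.θ) St = 0 := by rw [St_eq, classInner_sub_right, o2, o3, sub_zero]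
  obtain ⟨i1, i2, j1, j2⟩ := H.inner_parts
  have orth : ∀ k ∈ ({irrOne, irrSt h2} : Set _) ∪ Set.range (fR h2) ∪ Set.range (fD Tr h2),
      Cfsg.classInner (R H.α) k.1 = 0 ∧ Cfsg.classInner (D Tr h2 H.θ) k.1 = 0 := by
    intro k hk
    rcases hk with (hk | ⟨β, rfl⟩) | ⟨η, rfl⟩
    · rcases hk with rfl | hk
      · exact ⟨o1, o2⟩
      · rw [Set.mem_singleton_iff.1 hk]; exact ⟨o4, o5⟩
    · refine ⟨?_, o3 _ _⟩
      show Cfsg.classInner (R H.α) (R β.1) = 0
      rw [classInner_R_R h2, if_neg (fun h => β.2 (by rw [← h]; exact H.α_sq)),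
        if_neg (fun h => β.2 (pair_sq (a := H.α) h H.α_sq)), add_zero]
    · refine ⟨classInner_R_D Tr h2 _ _, ?_⟩
      show Cfsg.classInner (D Tr h2 H.θ) (D Tr h2 η.1) = 0
      rw [classInner_D_D, if_neg (fun h => η.2 (by rw [← h]; exact H.θ_sq)),
        if_neg (fun h => η.2 (pair_sq (a := H.θ) h H.θ_sq)), add_zero]
  have d0 : Disjoint ({irrOne, irrSt h2} : Set (Cfsg.IrrCharacter SL(2, F))) (Set.range (fR h2)) := by
    rw [Set.disjoint_right]
    rintro _ ⟨β, rfl⟩ hk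
    rcases hk with h | h
    · have := congrFun (congrArg Subtype.val h) 1
      simp only [fR, irrOne, R_one] at this
      rw [← Nat.cast_succ, Nat.cast_eq_one] at this; omega
    · have := congrFun (congrArg Subtype.val (Set.mem_singleton_iff.1 h)) 1
      simp [fR, irrSt, R_one, St_one] at this
  have d1 : Disjoint ({irrOne, irrSt h2} ∪ Set.range (fR h2) : Set (Cfsg.IrrCharacter SL(2, F)))
      (Set.range (fD Tr h2)) := by
    rw [Set.disjoint_right]
    rintro _ ⟨η, rfl⟩ hk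
    rcases hk with (h | h) | ⟨β, hβ⟩
    · have := classInner_D_const Tr h2 η.1
      rw [show D Tr h2 η.1 = fun _ => (1 : ℂ) from congrArg Subtype.val h, classInner_isIrr_self isIrr_one,
        if_neg (fun e => η.2 (one_pow_two (x := η.1) e))] at this
      norm_num at this
    · have := congrFun (congrArg Subtype.val (Set.mem_singleton_iff.1 h)) 1
      simp only [fD, irrSt, D_one, St_one] at this
      exact one_ne_zero (α := ℂ) (by linear_combination -this)
    · have := congrFun (congrArg Subtype.val hβ) 1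
      simp only [fD, fR, D_one, R_one] at this
      exact two_ne_zero (α := ℂ) (by linear_combination this)
  have d2 : Disjoint ({irrOne, irrSt h2} ∪ Set.range (fR h2) ∪ Set.range (fD Tr h2) : Set _) H.pairχ := by
    rw [Set.disjoint_left]
    intro k hk hk'
    have h0 := (orth k hk).1
    rcases hk' with rfl | h
    · rw [i1] at h0; exact one_ne_zero h0
    · rw [Set.mem_singleton_iff.1 h, i2] at h0; exact one_ne_zero h0
  have d3 : Disjoint ({irrOne, irrSt h2} ∪ Set.range (fR h2) ∪ Set.range (fD Tr h2) ∪ H.pairχ : Set _)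
      H.pairψ := by
    rw [Set.disjoint_left]
    rintro k (hk | hk) hk'
    · have h0 := (orth k hk).2
      rcases hk' with rfl | h
      · rw [j1] at h0; exact one_ne_zero h0
      · rw [Set.mem_singleton_iff.1 h, j2] at h0; exact one_ne_zero h0
    · have e : k.1 1 = H.χ₁ 1 ∧ k.1 1 = H.ψ₁ 1 := by
        constructor
        · rcases hk with rfl | h
          · rfl
          · rw [Set.mem_singleton_iff.1 h]; exact H.χ₂_one.trans H.χ₁_one.symm
        · rcases hk' with rfl | h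
          · rfl
          · rw [Set.mem_singleton_iff.1 h]; exact H.ψ₂_one.trans H.ψ₁_one.symm
      exact H.deg_facts.2.2.2.2.2.2 (e.1.symm.trans e.2)
  have hne : irrOne ≠ irrSt h2 := fun e => by
    have := congrFun (congrArg Subtype.val e) 1
    simp only [irrOne, irrSt, St_one] at this
    rw [eq_comm, Nat.cast_eq_one] at this; omega
  haveI : Finite (Cfsg.IrrCharacter SL(2, F)) := inferInstance
  rw [← Set.ncard_univ, H.univ_eq, Set.ncard_union_eq d3, Set.ncard_union_eq d2, Set.ncard_union_eq d1,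
    Set.ncard_union_eq d0, Set.ncard_pair hne, H.card_pairs.1, H.card_pairs.2]
  have := H.card_range_R
  have := H.card_range_D
  omega

end Halves

end CfsgLib.SL2CharTable

namespace CfsgLib.SL2CharTable.Halves

open Matrix CfsgLib.SL2Borel CfsgLib.SL2Tori CfsgLib.Characters
open scoped MatrixGroups

variable {F : Type*} [Field F] [Fintype F] [DecidableEq F] {Tr : NSTorus F} {h2 : (2 : F) ≠ 0}
  (H : Halves Tr h2) (hq : 5 ≤ Fintype.card F)
include H hq

/-- The numbers of irreducible characters of each degree. -/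
theorem degree_counts :
    {χ : Cfsg.IrrCharacter SL(2, F) | χ.1 1 = 1}.ncard = 1 ∧
    {χ : Cfsg.IrrCharacter SL(2, F) | χ.1 1 = (Fintype.card F : ℂ)}.ncard = 1 ∧
    {χ : Cfsg.IrrCharacter SL(2, F) | χ.1 1 = (Fintype.card F : ℂ) + 1}.ncard = (Fintype.card F - 3) / 2 ∧
    {χ : Cfsg.IrrCharacter SL(2, F) | χ.1 1 = (Fintype.card F : ℂ) - 1}.ncard = (Fintype.card F - 1) / 2 ∧
    {χ : Cfsg.IrrCharacter SL(2, F) | χ.1 1 = (((Fintype.card F + 1) / 2 : ℕ) : ℂ)}.ncard = 2 ∧
    {χ : Cfsg.IrrCharacter SL(2, F) | χ.1 1 = (((Fintype.card F - 1) / 2 : ℕ) : ℂ)}.ncard = 2 := by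
  have hodd := odd_card (F := F) h2
  refine ⟨?_, ?_, ?_, ?_, ?_, ?_⟩
  · refine Set.ncard_eq_one.2 ⟨irrOne, Set.eq_singleton_iff_unique_mem.2 ⟨rfl, fun χ h => ?_⟩⟩
    have h' : χ.1 1 = ((1 : ℕ) : ℂ) := by rw [Nat.cast_one]; exact h
    rcases H.cases χ.2 with ⟨e, -⟩ | ⟨_, e⟩ | ⟨_, _, _, e⟩ | ⟨_, _, _, e⟩ | ⟨_, e⟩ | ⟨_, e⟩
    · exact Subtype.ext e
    all_goals exfalso; rw [h', Nat.cast_inj] at e; omega
  · exact Set.ncard_eq_one.2 ⟨irrSt h2, Set.eq_singleton_iff_unique_mem.2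
      ⟨St_one, fun χ h => Subtype.ext (H.deg_q χ.2 h)⟩⟩
  · rw [show {χ : Cfsg.IrrCharacter SL(2, F) | χ.1 1 = (Fintype.card F : ℂ) + 1} = Set.range (fR h2) by
      ext χ
      refine ⟨fun h => ?_, ?_⟩
      · obtain ⟨β, hb, e⟩ := H.deg_plus χ.2 h
        exact ⟨⟨β, hb⟩, Subtype.ext e.symm⟩
      · rintro ⟨β, rfl⟩
        exact R_one β.1]
    have := H.card_range_R
    omega
  · rw [show {χ : Cfsg.IrrCharacter SL(2, F) | χ.1 1 = (Fintype.card F : ℂ) - 1} = Set.range (fD Tr h2) by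
      ext χ
      refine ⟨fun h => ?_, ?_⟩
      · rcases H.deg_minus χ.2 h with ⟨η, he, e⟩ | ⟨h3, -⟩
        · exact ⟨⟨η, he⟩, Subtype.ext e.symm⟩
        · omega
      · rintro ⟨η, rfl⟩
        exact D_one Tr h2 η.1]
    have := H.card_range_D
    omega
  · rw [show {χ : Cfsg.IrrCharacter SL(2, F) | χ.1 1 = (((Fintype.card F + 1) / 2 : ℕ) : ℂ)} = H.pairχ by
      ext χ
      refine ⟨fun h => ?_, ?_⟩
      · rcases H.deg_half_plus hq χ.2 h with e | e
        exacts [Or.inl (Subtype.ext e), Or.inr (Subtype.ext e)]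
      · rintro (rfl | h)
        · exact H.χ₁_one
        · rw [Set.mem_singleton_iff.1 h]; exact H.χ₂_one]
    exact H.card_pairs.1
  · rw [show {χ : Cfsg.IrrCharacter SL(2, F) | χ.1 1 = (((Fintype.card F - 1) / 2 : ℕ) : ℂ)} = H.pairψ by
      ext χ
      refine ⟨fun h => ?_, ?_⟩
      · rcases H.deg_half_minus hq χ.2 h with e | e
        exacts [Or.inl (Subtype.ext e), Or.inr (Subtype.ext e)]
      · rintro (rfl | h)
        · exact H.ψ₁_one
        · rw [Set.mem_singleton_iff.1 h]; exact H.ψ₂_one]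
    exact H.card_pairs.2

end CfsgLib.SL2CharTable.Halves
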