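import Cfsg.Agent.SL2CharTable.Table

/-!
# The principal series of `SL₂(q)` in any characteristic
-/

set_option autoImplicit false
set_option linter.unusedSectionVars false

namespace CfsgLib.SL2CharTable

open Matrix CfsgLib.SL2Borel CfsgLib.SL2Tori CfsgLib.Characters
open scoped MatrixGroups ComplexConjugate

variable {F : Type*} [Field F] [Fintype F] [DecidableEq F]

/-- Inner product with a function of given row sums on the Borel subgroup. -/
theorem classInner_R_of_sum (β : Fˣ →* ℂˣ) {f : SL(2, F) → ℂ} (hf : Cfsg.IsClassFunction SL(2, F) f)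
    (S : Fˣ → ℂ) (hS : ∀ a : Fˣ, ∑ x, f (mk a x) = Fintype.card F * S a) :
    Cfsg.classInner (R β) f = ((Fintype.card F - 1 : ℕ) : ℂ)⁻¹ * ∑ a, (β a : ℂ) * conj (S a) := by
  rw [classInner_R β hf, Finset.sum_congr rfl fun a _ => (Finset.mul_sum _ _ _).symm]
  simp only [← map_sum, hS, map_mul, map_natCast]
  rw [Finset.sum_congr rfl fun a _ => mul_left_comm (β a : ℂ) (Fintype.card F : ℂ) (conj (S a)),
    ← Finset.mul_sum, mul_inv, mul_assoc, inv_mul_cancel_left₀ (Nat.cast_ne_zero.2 Fintype.card_ne_zero)]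

/-- The row sums of the induced characters. -/
theorem sum_R_mk (γ : Fˣ →* ℂˣ) (a : Fˣ) :
    ∑ x, R γ (mk a x) = Fintype.card F * ((γ a : ℂ) + (γ a⁻¹ : ℂ)) := by
  by_cases ha : a ^ 2 = 1
  · have he : a = 1 ∨ a = -1 := by_contra fun h => sq_ne_one_iff.2 h ha
    rw [sum_central _ _ fun x hx => R_unipotent γ he hx, R_central γ he,
      show a⁻¹ = a by rcases he with rfl | rfl <;> simp]
    ring
  · rw [Finset.sum_congr rfl fun x _ => R_mk_regular γ ha x]
    simp; ring

theorem card_units_cast_ne_zero : ((Fintype.card F - 1 : ℕ) : ℂ) ≠ 0 :=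
  Nat.cast_ne_zero.2 (by have := Fintype.one_lt_card (α := F); omega)

open scoped Classical in
theorem classInner_R_R' (β γ : Fˣ →* ℂˣ) :
    Cfsg.classInner (R β) (R γ) = (if β = γ then 1 else 0) + (if β * γ = 1 then 1 else 0) := by
  rw [classInner_R_of_sum β (isClassFunction_R γ) _ (sum_R_mk γ)]
  have e : ∀ a, (β a : ℂ) * conj ((γ a : ℂ) + (γ a⁻¹ : ℂ)) =
      (β a : ℂ) * conj (γ a : ℂ) + (β a : ℂ) * (γ a : ℂ) := fun a => by
    rw [map_add, conj_char γ a⁻¹, inv_inv]; ring
  rw [Finset.sum_congr rfl fun a _ => e a, Finset.sum_add_distrib, sum_char_mul_conj, sum_char_mul,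
    Fintype.card_units]
  have := card_units_cast_ne_zero (F := F)
  split_ifs <;> field_simp <;> ring

open scoped Classical in
theorem classInner_R_const' (β : Fˣ →* ℂˣ) :
    Cfsg.classInner (R β) (fun _ => 1) = if β = 1 then 1 else 0 := by
  rw [classInner_R_of_sum β (fun _ _ => rfl) (fun _ => 1) fun a => by simp]
  have := card_units_cast_ne_zero (F := F)
  simp only [map_one, mul_one, sum_char, Fintype.card_units]
  split_ifs <;> field_simp <;> simp

theorem isIrr_R' {β : Fˣ →* ℂˣ} (hβ : β ^ 2 ≠ 1) : Cfsg.IsIrrCharacter SL(2, F) (R β) :=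
  isIrr_of_classInner_self (isCharacter_R β)
    (by rw [classInner_R_R', if_pos rfl, if_neg (fun h => hβ ((pow_two β).trans h)), add_zero])

theorem isIrr_R_iff (β : Fˣ →* ℂˣ) : Cfsg.IsIrrCharacter SL(2, F) (R β) ↔ β ^ 2 ≠ 1 := by
  refine ⟨fun h hb => ?_, isIrr_R'⟩
  have := classInner_R_R' β β
  rw [classInner_isIrr_self h, if_pos rfl, if_pos ((pow_two β).symm.trans hb)] at this
  norm_num at this

theorem isIrr_St' : Cfsg.IsIrrCharacter SL(2, F) St := by
  refine isIrr_of_gen_norm_one (St_eq (F := F) ▸ isGen_sub (isGen_of_isCharacter (isCharacter_R _)) isGen_one)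
    ?_ (by rw [St_one, Complex.natCast_re]; positivity)
  have h : Cfsg.classInner (R (1 : Fˣ →* ℂˣ)) (fun _ => 1) = 1 := by rw [classInner_R_const', if_pos rfl]
  rw [St_eq, classInner_sub_left, classInner_sub_right, classInner_sub_right, classInner_R_R',
    h, classInner_conj_symm (R (1 : Fˣ →* ℂˣ)) (fun _ => (1 : ℂ)), h, map_one,
    classInner_isIrr_self isIrr_one, if_pos rfl, if_pos (mul_one (1 : Fˣ →* ℂˣ))]
  ring

theorem upperTriangular_comap :
    (Cfsg.upperTriangularGL 2 F).comap Matrix.SpecialLinearGroup.toGL = borel F := rfl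

theorem indFun_mulChar (α : MulChar F ℂ) :
    Cfsg.indFun (borel F) (fun b => α ((b : SL(2, F)) 0 0)) = R (MulChar.toUnitHom α) := by
  rw [R_eq_indFun, MulChar.toUnitHom_eq, MulChar.ofUnitHom_eq, Equiv.symm_apply_apply]

theorem toUnitHom_sq_eq_one_iff (α : MulChar F ℂ) : MulChar.toUnitHom α ^ 2 = 1 ↔ α ^ 2 = 1 := by
  constructor <;> intro h
  · refine MulChar.ext fun a => ?_
    have := congrArg Units.val (DFunLike.congr_fun h a)
    simpa [MulChar.pow_apply_coe, MulChar.one_apply_coe, MulChar.coe_toUnitHom] using this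
  · refine MonoidHom.ext fun a => Units.ext ?_
    have := DFunLike.congr_fun h (a : F)
    simpa [MulChar.pow_apply_coe, MulChar.one_apply_coe, MulChar.coe_toUnitHom] using this

end CfsgLib.SL2CharTable
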