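import Cfsg.Prelude.Def_Blocks
import Cfsg.Agent.Characters.Linear
import Cfsg.Agent.Characters.Classes
import Cfsg.Agent.GaloisAverage.Ito
import Cfsg.Agent.Linear.SL2Sylow
import Cfsg.Agent.SL2Tori.SylowTwo

/-!
# Counting irreducible characters of degree prime to `ℓ` in the local subgroups of `SL₂(q)`
-/

set_option autoImplicit false
set_option linter.unusedSectionVars false
set_option linter.style.haveILetI false

namespace CfsgLib.SL2CharTable

open CfsgLib.Characters
open scoped MatrixGroups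

universe u

/-- The number of irreducible characters of degree prime to `ℓ`. -/
noncomputable def cardPrimeTo (G : Type*) [Group G] (ℓ : ℕ) : ℕ :=
  Nat.card {χ : Cfsg.IrrCharacter G // ¬ ℓ ∣ Cfsg.charDegree (χ : G → ℂ)}

theorem charDegree_eq {G : Type u} [Group G] {χ : G → ℂ} {n : ℕ} (h : χ 1 = n) :
    Cfsg.charDegree χ = n := by
  simp [Cfsg.charDegree, h]

theorem cardPrimeTo_congr {G H : Type*} [Group G] [Group H] (e : G ≃* H) (ℓ : ℕ) :
    cardPrimeTo G ℓ = cardPrimeTo H ℓ := by
  have hdeg : ∀ χ : H → ℂ, Cfsg.charDegree (fun g : G => χ (e g)) = Cfsg.charDegree χ := fun χ => by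
    simp [Cfsg.charDegree, map_one]
  refine (Nat.card_congr (Equiv.subtypeEquiv
    ⟨fun χ : Cfsg.IrrCharacter H => (⟨fun g => χ.1 (e g), isIrr_comp e.toMonoidHom e.surjective χ.2⟩ :
        Cfsg.IrrCharacter G),
      fun χ => ⟨fun h => χ.1 (e.symm h), isIrr_comp e.symm.toMonoidHom e.symm.surjective χ.2⟩,
      fun χ => Subtype.ext (funext fun k => congrArg χ.1 (e.apply_symm_apply k)),
      fun χ => Subtype.ext (funext fun k => congrArg χ.1 (e.symm_apply_apply k))⟩ fun χ => ?_)).symm
  show _ ↔ ¬ ℓ ∣ Cfsg.charDegree (fun g : G => χ.1 (e g))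
  rw [hdeg]

theorem cardPrimeTo_normalizer_sylow {G : Type*} [Group G] [Finite G] {ℓ : ℕ} [Fact ℓ.Prime]
    (S S₀ : Sylow ℓ G) :
    cardPrimeTo (Subgroup.normalizer ((S : Subgroup G) : Set G)) ℓ =
      cardPrimeTo (Subgroup.normalizer ((S₀ : Subgroup G) : Set G)) ℓ := by
  obtain ⟨k, hk⟩ := MulAction.exists_smul_eq G S₀ S
  have hS : (S : Subgroup G) = (S₀ : Subgroup G).map (MulAut.conj k).toMonoidHom := by
    rw [← hk, Sylow.coe_subgroup_smul]
    rfl
  have hN : (Subgroup.normalizer ((S₀ : Subgroup G) : Set G)).map (MulAut.conj k).toMonoidHom =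
      Subgroup.normalizer ((S : Subgroup G) : Set G) := by
    rw [hS]
    exact Subgroup.map_equiv_normalizer_eq (S₀ : Subgroup G) (MulAut.conj k)
  exact (cardPrimeTo_congr ((Subgroup.equivMapOfInjective _ _ (MulAut.conj k).injective).trans
    (MulEquiv.subgroupCongr hN)) ℓ).symm

/-- All characters count when the index of an abelian normal subgroup is prime to `ℓ`. -/
theorem cardPrimeTo_of_abelian_normal {G : Type u} [Group G] [Finite G] (A : Subgroup G) [A.Normal]
    (hA : ∀ a ∈ A, ∀ b ∈ A, a * b = b * a) (ℓ : ℕ) (hℓ : ¬ ℓ ∣ A.index) :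
    cardPrimeTo G ℓ = Nat.card (ConjClasses G) := by
  rw [← card_irrCharacter]
  refine Nat.card_congr (Equiv.subtypeUnivEquiv fun χ hdvd => hℓ ?_)
  obtain ⟨d, hd, hdA⟩ := CfsgLib.GaloisAverage.exists_degree_dvd_index χ.2 A hA
  rw [charDegree_eq hd] at hdvd
  exact hdvd.trans hdA

/-- An irreducible character of odd degree does not change sign at a central commutator. -/
theorem apply_eq_one_of_commutator {G : Type u} [Group G] [Finite G] {χ : G → ℂ}
    (hχ : Cfsg.IsIrrCharacter G χ) (hodd : ¬ 2 ∣ Cfsg.charDegree χ) {s t z : G}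
    (hz : z ∈ Subgroup.center G) (hz2 : z * z = 1) (hst : s * t * s⁻¹ * t⁻¹ = z) : χ z = χ 1 := by
  obtain ⟨n, ρ, hρ, rfl⟩ := hχ
  haveI := hρ
  have h1 : ρ.character 1 = (n : ℂ) := by rw [Representation.char_one, Module.finrank_fin_fun]
  rw [charDegree_eq h1] at hodd
  obtain ⟨c, hc⟩ := central_scalar ρ hz
  have e : ρ.character z = c * ρ.character 1 := by
    rw [Representation.character, hc, map_smul, smul_eq_mul, Representation.character, map_one,
      Module.End.one_eq_id]
  let f : G →* ℂ := LinearMap.det.comp ρ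
  have hdet : f z = 1 := by
    rw [← hst, map_mul, map_mul, map_mul]
    have hs : f s * f s⁻¹ = 1 := by rw [← map_mul, mul_inv_cancel, map_one]
    have ht : f t * f t⁻¹ = 1 := by rw [← map_mul, mul_inv_cancel, map_one]
    linear_combination (f t * f t⁻¹) * hs + ht
  have hcn : c ^ n = 1 := by
    have : f z = c ^ n := by
      show LinearMap.det (ρ z) = _
      rw [hc, LinearMap.det_smul, LinearMap.det_id, mul_one, Module.finrank_fin_fun]
    rw [← this, hdet]
  have hn0 : (n : ℂ) ≠ 0 := Nat.cast_ne_zero.2 (fun h => hodd (h ▸ dvd_zero 2))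
  have hc2 : c ^ 2 = 1 := by
    have h2 : ρ z * ρ z = ρ 1 := by rw [← map_mul, hz2]
    rw [hc, map_one] at h2
    have h3 := congrArg LinearMap.det h2
    have h4 := congrArg (LinearMap.trace ℂ (Fin n → ℂ)) h2
    simp [← Module.End.one_eq_id, Module.finrank_fin_fun] at h4
    have : (c ^ 2) * (n : ℂ) = 1 * (n : ℂ) := by linear_combination h4
    exact mul_right_cancel₀ hn0 this
  obtain ⟨m, rfl⟩ : Odd n := Nat.not_even_iff_odd.1 fun h => hodd h.two_dvd
  rw [pow_succ, pow_mul, hc2, one_pow, one_mul] at hcn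
  rw [e, hcn, one_mul]

open QuaternionGroup in
/-- A generalised quaternion group has four linear characters. -/
theorem commutator_index_quaternion (n : ℕ) [NeZero n] (hn : 2 ∣ n) :
    (commutator (QuaternionGroup n)).index = 4 := by
  classical
  let π : ZMod (2 * n) →+* ZMod 2 := ZMod.castHom (dvd_mul_right 2 n) (ZMod 2)
  have hπn : π (n : ZMod (2 * n)) = 0 := by
    rw [map_natCast, ZMod.natCast_eq_zero_iff]; exact hn
  have hneg : ∀ x : ZMod 2, -x = x := by decide
  let g : QuaternionGroup n → Multiplicative (ZMod 2 × ZMod 2) := fun x => match x with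
    | .a i => Multiplicative.ofAdd (π i, 0)
    | .xa i => Multiplicative.ofAdd (π i, 1)
  have h11 : (1 : ZMod 2) + 1 = 0 := by decide
  let φ : QuaternionGroup n →* Multiplicative (ZMod 2 × ZMod 2) :=
    { toFun := g
      map_one' := by
        show g (.a 0) = 1
        simp [g, -a_zero]
      map_mul' := by
        rintro (i | i) (j | j) <;>
          simp only [a_mul_a, a_mul_xa, xa_mul_a, xa_mul_xa, g, ← ofAdd_add, Prod.mk_add_mk, map_add,
            map_sub, hπn, zero_add, add_zero, h11, sub_eq_add_neg, hneg, map_neg]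
        all_goals rw [add_comm (π j) (π i)] }
  have hsurj : Function.Surjective φ := by
    intro y
    obtain ⟨⟨u, v⟩, rfl⟩ := Multiplicative.ofAdd.surjective y
    obtain ⟨i, rfl⟩ := ZMod.castHom_surjective (dvd_mul_right 2 n) u
    rcases (show ∀ v : ZMod 2, v = 0 ∨ v = 1 by decide) v with rfl | rfl
    exacts [⟨.a i, rfl⟩, ⟨.xa i, rfl⟩]
  have hker : φ.ker = commutator (QuaternionGroup n) := by
    refine le_antisymm ?_ (Abelianization.commutator_subset_ker φ)
    have e2 : (a (-1) : QuaternionGroup n)⁻¹ = a 1 := inv_eq_of_mul_eq_one_right (by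
      rw [a_mul_a, neg_add_cancel, one_def])
    have e1 : (a (-1) : QuaternionGroup n) * xa 0 = xa 0 * a 1 := by
      rw [a_mul_xa, xa_mul_a]
      congr 1
      ring
    have h2 : (a 2 : QuaternionGroup n) ∈ commutator _ := by
      have hc : (xa 0 : QuaternionGroup n)⁻¹ * a (-1) * xa 0 * (a (-1))⁻¹ = a 2 := by
        rw [mul_assoc _ (a (-1)) (xa 0), e1, inv_mul_cancel_left, e2, a_mul_a, one_add_one_eq_two]
      rw [← hc, commutator_def]
      have := Subgroup.commutator_mem_commutator (Subgroup.mem_top (xa 0 : QuaternionGroup n)⁻¹)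
        (Subgroup.mem_top (a (-1) : QuaternionGroup n))
      simpa [commutatorElement_def] using this
    have key : ∀ k : ℕ, (a 2 : QuaternionGroup n) ^ k = a ((k : ZMod (2 * n)) * 2) := by
      intro k
      induction k with
      | zero => rw [pow_zero, Nat.cast_zero, zero_mul]; rfl
      | succ k ih => rw [pow_succ, ih, a_mul_a]; congr 1; push_cast; ring
    rintro (i | i) hx
    · have h0 : (π i, (0 : ZMod 2)) = 0 := Multiplicative.ofAdd.injective (MonoidHom.mem_ker.1 hx)
      have hi : π i = 0 := (Prod.mk_eq_zero.1 h0).1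
      haveI : NeZero (2 * n) := ⟨by simp [NeZero.ne n]⟩
      rw [← ZMod.natCast_zmod_val i, map_natCast, ZMod.natCast_eq_zero_iff] at hi
      obtain ⟨k, hk⟩ := hi
      have : (a 2 : QuaternionGroup n) ^ k = a i := by
        rw [key]
        congr 1
        conv_rhs => rw [← ZMod.natCast_zmod_val i, hk]
        push_cast; ring
      rw [← this]
      exact pow_mem h2 k
    · exfalso
      have h0 : (π i, (1 : ZMod 2)) = 0 := Multiplicative.ofAdd.injective (MonoidHom.mem_ker.1 hx)
      exact one_ne_zero (Prod.mk_eq_zero.1 h0).2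
  rw [← hker, Subgroup.index_ker, MonoidHom.range_eq_top.2 hsurj, Subgroup.card_top]
  simp

theorem cardPrimeTo_two_quaternion (k : ℕ) (hk : 1 ≤ k) :
    cardPrimeTo (QuaternionGroup (2 ^ k)) 2 = 4 := by
  haveI : NeZero (2 ^ k) := ⟨(Nat.two_pow_pos k).ne'⟩
  rw [← commutator_index_quaternion (2 ^ k) (dvd_pow_self 2 (by omega)), ← card_linear_char]
  refine Nat.card_congr (Equiv.subtypeEquivRight fun χ => ?_)
  haveI : (⊥ : Subgroup (QuaternionGroup (2 ^ k))).Normal := inferInstance
  obtain ⟨d, hd, hdvd⟩ := CfsgLib.GaloisAverage.exists_degree_dvd_index χ.2 (⊥ : Subgroup (QuaternionGroup (2 ^ k)))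
    (fun a ha b hb => by rw [Subgroup.mem_bot.1 ha, Subgroup.mem_bot.1 hb])
  rw [charDegree_eq hd, hd, Nat.cast_eq_one]
  rw [Subgroup.index_bot, Nat.card_eq_fintype_card, QuaternionGroup.card,
    show 4 * 2 ^ k = 2 ^ (k + 2) by ring] at hdvd
  obtain ⟨j, -, rfl⟩ := (Nat.dvd_prime_pow Nat.prime_two).1 hdvd
  rcases Nat.eq_zero_or_pos j with rfl | hj
  · simp
  · simp [dvd_pow_self 2 hj.ne']; omega

variable {F : Type*} [Field F] [Fintype F]

/-- A normaliser of order 24 of a quaternion group has four characters of odd degree. -/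
theorem cardPrimeTo_two_of_card (h2 : (2 : F) ≠ 0) (S : Sylow 2 SL(2, F)) (h8 : Nat.card S = 8)
    (hC : Subgroup.centralizer ((S : Subgroup SL(2, F)) : Set SL(2, F)) = Subgroup.center SL(2, F))
    (h24 : Nat.card (Subgroup.normalizer ((S : Subgroup SL(2, F)) : Set SL(2, F))) = 3 * Nat.card S) :
    cardPrimeTo (Subgroup.normalizer ((S : Subgroup SL(2, F)) : Set SL(2, F))) 2 = 4 := by
  classical
  set N := Subgroup.normalizer ((S : Subgroup SL(2, F)) : Set SL(2, F)) with hN
  have hSN : (S : Subgroup SL(2, F)) ≤ N := Subgroup.le_normalizer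
  have hneg : (-1 : SL(2, F)) ≠ 1 := fun e => h2 (by
    have := congrArg (fun g : SL(2, F) => g.1 0 0) e
    simp at this
    linear_combination -this)
  have hcen : ∀ z : SL(2, F), z ∈ Subgroup.center SL(2, F) ↔ z = 1 ∨ z = -1 := SL2Trace.mem_center_iff_eq
  have hnegN : (-1 : SL(2, F)) ∈ N := (Subgroup.center_le_normalizer _) ((hcen _).2 (Or.inr rfl))
  set ν : N := ⟨-1, hnegN⟩ with hν
  have hνc : ν ∈ Subgroup.center N := Subgroup.mem_center_iff.2 fun g =>
    Subtype.ext (Subgroup.mem_center_iff.1 ((hcen _).2 (Or.inr rfl)) g)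
  have hνν : ν * ν = 1 := Subtype.ext (by simp [hν])
  set Z : Subgroup N := Subgroup.zpowers ν with hZ
  haveI : Z.Normal := ⟨fun z hz g => by
    have hzc : z ∈ Subgroup.center N := (Subgroup.zpowers_le.2 hνc) hz
    rw [Subgroup.mem_center_iff.1 hzc g, mul_inv_cancel_right]; exact hz⟩
  have hZmem : ∀ z ∈ Z, z = 1 ∨ z = ν := by
    intro z hz
    obtain ⟨i, rfl⟩ := Subgroup.mem_zpowers_iff.1 hz
    rcases Int.even_or_odd' i with ⟨j, rfl | rfl⟩
    · left; rw [zpow_mul, zpow_two, hνν, one_zpow]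
    · right; rw [zpow_add_one, zpow_mul, zpow_two, hνν, one_zpow, one_mul]
  have hZcard : Nat.card Z = 2 := by
    rw [Nat.card_zpowers]
    exact orderOf_eq_prime (by rw [sq, hνν]) fun e => hneg (congrArg Subtype.val e)
  have hνS : (-1 : SL(2, F)) ∈ (S : Subgroup SL(2, F)) := by
    have hp : IsPGroup 2 (Subgroup.center SL(2, F)) := by
      intro z
      exact ⟨1, Subtype.ext (by rcases (hcen _).1 z.2 with e | e <;> simp [e, sq])⟩
    obtain ⟨R, hR⟩ := hp.exists_le_sylow
    obtain ⟨k, hk⟩ := MulAction.exists_smul_eq SL(2, F) R S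
    rw [← hk, Sylow.coe_subgroup_smul]
    refine ⟨-1, hR ((hcen _).2 (Or.inr rfl)), ?_⟩
    show k * -1 * k⁻¹ = -1
    simp
  set π : N →* N ⧸ Z := QuotientGroup.mk' Z with hπ
  set V : Subgroup (N ⧸ Z) := ((S : Subgroup SL(2, F)).subgroupOf N).map π with hV
  haveI : ((S : Subgroup SL(2, F)).subgroupOf N).Normal := Subgroup.normal_in_normalizer
  haveI : V.Normal := Subgroup.Normal.map inferInstance π (QuotientGroup.mk'_surjective Z)
  have hMcard : Nat.card (N ⧸ Z) = 12 := by
    have := Subgroup.card_eq_card_quotient_mul_card_subgroup Z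
    rw [h24, h8, hZcard] at this
    omega
  have hVindex : V.index = 3 := by
    rw [hV, Subgroup.index_map_eq _ (QuotientGroup.mk'_surjective Z)
      (by rw [QuotientGroup.ker_mk', hZ, Subgroup.zpowers_le]; exact hνS)]
    have := Subgroup.card_mul_index ((S : Subgroup SL(2, F)).subgroupOf N)
    rw [Nat.card_congr (Subgroup.subgroupOfEquivOfLe hSN).toEquiv, h24, h8] at this
    omega
  have hVab : ∀ a ∈ V, ∀ b ∈ V, a * b = b * a := by
    have hVc : Nat.card V = 2 ^ 2 := by
      have := Subgroup.card_mul_index V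
      rw [hVindex, hMcard] at this
      omega
    intro a ha b hb
    exact congrArg Subtype.val ((IsPGroup.isMulCommutative_of_card_eq_prime_sq hVc).is_comm.comm ⟨a, ha⟩ ⟨b, hb⟩)
  -- `-1` is a commutator
  obtain ⟨s, t, hst⟩ : ∃ s t : N, s * t * s⁻¹ * t⁻¹ = ν := by
    have hna : ∃ s t : SL(2, F), s ∈ (S : Subgroup SL(2, F)) ∧ t ∈ (S : Subgroup SL(2, F)) ∧ s * t ≠ t * s := by
      by_contra hc
      push Not at hc
      have hle : (S : Subgroup SL(2, F)) ≤ Subgroup.center SL(2, F) := fun s hs =>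
        hC ▸ fun t ht => hc t s ht hs
      have h2c : Nat.card (Subgroup.center SL(2, F)) ≤ 2 := by
        have : ((Subgroup.center SL(2, F) : Subgroup SL(2, F)) : Set SL(2, F)) ⊆ {1, -1} :=
          fun z hz => (hcen z).1 hz
        exact (Set.ncard_le_ncard this (Set.toFinite _)).trans (Set.ncard_pair hneg.symm).le
      have := Subgroup.card_le_of_le hle
      omega
    obtain ⟨s, t, hs, ht, hne⟩ := hna
    refine ⟨⟨s, hSN hs⟩, ⟨t, hSN ht⟩, ?_⟩
    set c : N := ⟨s, hSN hs⟩ * ⟨t, hSN ht⟩ * (⟨s, hSN hs⟩ : N)⁻¹ * (⟨t, hSN ht⟩ : N)⁻¹ with hc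
    have hcZ : c ∈ Z := by
      rw [← QuotientGroup.eq_one_iff]
      show π c = 1
      rw [hc, map_mul, map_mul, map_mul, hVab (π ⟨s, hSN hs⟩) ⟨⟨s, hSN hs⟩, hs, rfl⟩ (π ⟨t, hSN ht⟩)
        ⟨⟨t, hSN ht⟩, ht, rfl⟩, map_inv, map_inv]
      group
    refine (hZmem c hcZ).resolve_left fun e => hne ?_
    have := congrArg Subtype.val e
    simpa [hc, mul_inv_eq_one, mul_inv_eq_iff_eq_mul] using this
  -- the quotient is not abelian
  have hnab : ¬ ∀ a b : N ⧸ Z, a * b = b * a := by
    intro hab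
    haveI : Fact (Nat.Prime 3) := ⟨Nat.prime_three⟩
    obtain ⟨x, hx⟩ := exists_prime_orderOf_dvd_card' (G := N) 3 (h24 ▸ dvd_mul_right 3 _)
    have hx3 : (x : SL(2, F)) ^ 3 = 1 := by
      rw [← SubgroupClass.coe_pow, ← hx, pow_orderOf_eq_one]; rfl
    have hxc : (x : SL(2, F)) ∈ Subgroup.center SL(2, F) := by
      rw [← hC]
      intro y hy
      have hcZ : x * ⟨y, hSN hy⟩ * x⁻¹ * (⟨y, hSN hy⟩ : N)⁻¹ ∈ Z := by
        rw [← QuotientGroup.eq_one_iff]
        show π _ = 1
        rw [map_mul, map_mul, map_mul, hab (π x) (π ⟨y, hSN hy⟩), map_inv, map_inv]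
        group
      rcases hZmem _ hcZ with e | e
      · have := congrArg Subtype.val e
        simp [mul_inv_eq_one, mul_inv_eq_iff_eq_mul] at this
        exact this.symm
      · exfalso
        have h' : (x : SL(2, F)) * y * (x : SL(2, F))⁻¹ * y⁻¹ = -1 := congrArg Subtype.val e
        have e1 : (x : SL(2, F)) * y * (x : SL(2, F))⁻¹ = -1 * y := by rw [← h']; group
        have key : ∀ m : ℕ, (x : SL(2, F)) ^ m * y * ((x : SL(2, F)) ^ m)⁻¹ = (-1) ^ m * y := by
          intro m
          induction m with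
          | zero => simp
          | succ m ih =>
            calc (x : SL(2, F)) ^ (m + 1) * y * ((x : SL(2, F)) ^ (m + 1))⁻¹
                = (x : SL(2, F)) * ((x : SL(2, F)) ^ m * y * ((x : SL(2, F)) ^ m)⁻¹) * (x : SL(2, F))⁻¹ := by
                  rw [pow_succ']; group
              _ = (-1) ^ m * ((x : SL(2, F)) * y * (x : SL(2, F))⁻¹) := by
                  rw [ih]
                  have hcm := Subgroup.mem_center_iff.1
                    (pow_mem ((hcen (-1)).2 (Or.inr rfl)) m) (x : SL(2, F))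
                  simp only [← mul_assoc, hcm]
              _ = (-1) ^ (m + 1) * y := by rw [e1, pow_succ, mul_assoc]
        have := key 3
        rw [hx3, inv_one, one_mul, mul_one] at this
        apply hneg
        have e2 : (-1 : SL(2, F)) ^ 3 = 1 := mul_eq_right.1 this.symm
        simpa [pow_succ] using e2
    have hx1 : (x : SL(2, F)) = 1 := by
      rcases (hcen _).1 hxc with e | e
      · exact e
      · rw [e] at hx3; exact absurd (by simpa [pow_succ] using hx3) hneg
    rw [show x = 1 from Subtype.ext hx1, orderOf_one] at hx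
    omega
  -- count in the quotient
  haveI : Finite (N ⧸ Z) := inferInstance
  haveI : Fintype (N ⧸ Z) := Fintype.ofFinite _
  have hdeg : ∀ ψ : Cfsg.IrrCharacter (N ⧸ Z), ψ.1 1 = ((1 : ℕ) : ℂ) ∨ ψ.1 1 = ((3 : ℕ) : ℂ) := fun ψ => by
    obtain ⟨d, hd, hdA⟩ := CfsgLib.GaloisAverage.exists_degree_dvd_index ψ.2 V hVab
    rw [hVindex, Nat.dvd_prime Nat.prime_three] at hdA
    rcases hdA with rfl | rfl
    exacts [Or.inl hd, Or.inr hd]
  have hcount : Nat.card (Cfsg.IrrCharacter (N ⧸ Z)) = 4 := by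
    have hex : ∃ ψ : Cfsg.IrrCharacter (N ⧸ Z), ψ.1 1 ≠ 1 := by
      by_contra hc
      push Not at hc
      have := sum_degree_sq (G := N ⧸ Z)
      simp only [hc, one_pow, Finset.sum_const, Finset.card_univ, nsmul_eq_mul, mul_one, Nat.cast_inj] at this
      rw [← Nat.card_eq_fintype_card, card_irrCharacter] at this
      apply hnab
      have hb : Function.Bijective (ConjClasses.mk : (N ⧸ Z) → ConjClasses (N ⧸ Z)) :=
        ConjClasses.mk_surjective.bijective_of_nat_card_le this.ge
      intro a b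
      have : ConjClasses.mk (a * b) = ConjClasses.mk (b * a) :=
        ConjClasses.mk_eq_mk_iff_isConj.2 (isConj_iff.2 ⟨b, by group⟩)
      exact hb.1 this
    obtain ⟨ψ, hψ⟩ := hex
    have hψ3 : ψ.1 1 = ((3 : ℕ) : ℂ) := (hdeg ψ).resolve_left (by rw [Nat.cast_one]; exact hψ)
    have hs := sum_degree_sq (G := N ⧸ Z)
    rw [hMcard, ← Finset.add_sum_erase _ _ (Finset.mem_univ ψ), hψ3] at hs
    have hones : ∀ χ ∈ Finset.univ.erase ψ, χ.1 1 ^ 2 = (1 : ℂ) := by
      intro χ hχ
      rcases hdeg χ with e | e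
      · rw [e, Nat.cast_one, one_pow]
      · exfalso
        choose d _ hd using fun k : Cfsg.IrrCharacter (N ⧸ Z) => exists_degree_pos k.2
        rw [← Finset.add_sum_erase _ _ hχ, e] at hs
        simp only [hd] at hs
        have : 3 ^ 2 + (3 ^ 2 + ∑ k ∈ (Finset.univ.erase ψ).erase χ, d k ^ 2) = 12 := by exact_mod_cast hs
        omega
    rw [Finset.sum_congr rfl hones, Finset.sum_const, Finset.card_erase_of_mem (Finset.mem_univ _),
      Finset.card_univ, nsmul_eq_mul, mul_one, ← Nat.card_eq_fintype_card] at hs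
    have : 3 ^ 2 + (Nat.card (Cfsg.IrrCharacter (N ⧸ Z)) - 1) = 12 := by exact_mod_cast hs
    omega
  rw [← hcount]
  let infl : Cfsg.IrrCharacter (N ⧸ Z) → {χ : Cfsg.IrrCharacter N // ¬ 2 ∣ Cfsg.charDegree (χ : N → ℂ)} :=
    fun ψ => ⟨⟨fun g => ψ.1 (π g), isIrr_comp π (QuotientGroup.mk'_surjective Z) ψ.2⟩, by
      show ¬ 2 ∣ Cfsg.charDegree (fun g => ψ.1 (π g))
      rcases hdeg ψ with e | e <;> rw [charDegree_eq (by rw [map_one]; exact e)] <;> omega⟩
  refine (Nat.card_congr (Equiv.ofBijective infl ⟨fun a b h => ?_, fun χ => ?_⟩)).symm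
  · refine Subtype.ext (funext fun y => ?_)
    obtain ⟨g, rfl⟩ := QuotientGroup.mk'_surjective Z y
    exact congrFun (congrArg (fun k => k.1.1) h) g
  · obtain ⟨ψ, hψ, he⟩ := exists_irr_quotient Z χ.1.2 fun z hz => by
      rcases hZmem z hz with rfl | rfl
      · rfl
      · exact apply_eq_one_of_commutator χ.1.2 χ.2 hνc hνν hst
    exact ⟨⟨ψ, hψ⟩, Subtype.ext (Subtype.ext (funext fun g => (he g).symm))⟩

end CfsgLib.SL2CharTable
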