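import Cfsg.Agent.SL2CharTable.Counts
import Cfsg.Agent.SL2CharTable.Apply
import Cfsg.Agent.SL2CharTable.OddDegree
import Cfsg.Agent.S2430
import Cfsg.Agent.S2431
import Cfsg.Agent.S2437

/-!
# The McKay count for `SL₂(q)`, `q` odd
-/

set_option autoImplicit false
set_option linter.unusedSectionVars false
set_option linter.style.haveILetI false

namespace CfsgLib.SL2CharTable

open Matrix CfsgLib.SL2Borel CfsgLib.SL2Tori CfsgLib.Characters
open scoped MatrixGroups

variable {F : Type*} [Field F] [Fintype F] [DecidableEq F]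

theorem cardPrimeTo_eq_ncard (G : Type*) [Group G] (ℓ : ℕ) :
    cardPrimeTo G ℓ = {χ : Cfsg.IrrCharacter G | ¬ ℓ ∣ Cfsg.charDegree (χ : G → ℂ)}.ncard := rfl

namespace Halves

variable {Tr : NSTorus F} {h2 : (2 : F) ≠ 0} (H : Halves Tr h2)
include H

theorem cardPrimeTo_char {p : ℕ} (hp : p.Prime) (hp2 : p ≠ 2) (hpq : p ∣ Fintype.card F) :
    cardPrimeTo SL(2, F) p = Fintype.card F + 3 := by
  have hq1 := Fintype.one_lt_card (α := F)
  have hodd := odd_card (F := F) h2
  have hp3 : 3 ≤ p := by have := hp.two_le; omega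
  have e : {χ : Cfsg.IrrCharacter SL(2, F) | ¬ p ∣ Cfsg.charDegree (χ : SL(2, F) → ℂ)} =
      ({irrSt h2} : Set (Cfsg.IrrCharacter SL(2, F)))ᶜ := by
    ext χ
    simp only [Set.mem_ofPred_eq, Set.mem_compl_iff, Set.mem_singleton_iff]
    constructor
    · rintro h rfl
      apply h
      rw [charDegree_eq (show (St : SL(2, F) → ℂ) 1 = _ from St_one) (χ := (irrSt h2).1)]
      exact hpq
    · intro h hd
      apply h
      have key : ∀ n : ℕ, χ.1 1 = (n : ℂ) → (n = 1 ∨ n + 1 = Fintype.card F ∨ n = Fintype.card F + 1 ∨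
          2 * n = Fintype.card F + 1 ∨ 2 * n + 1 = Fintype.card F) → False := by
        intro n hn hc
        rw [charDegree_eq hn] at hd
        have h1 : ¬ p ∣ 1 := fun h => by have := Nat.le_of_dvd one_pos h; omega
        rcases hc with c | c | c | c | c
        · exact h1 (c ▸ hd)
        · exact h1 ((Nat.dvd_add_right hd).1 (c ▸ hpq))
        · exact h1 ((Nat.dvd_add_right hpq).1 (c ▸ hd))
        · exact h1 ((Nat.dvd_add_right hpq).1 (c ▸ Dvd.dvd.mul_left hd 2))
        · exact h1 ((Nat.dvd_add_right (Dvd.dvd.mul_left hd 2)).1 (c ▸ hpq))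
      rcases H.cases χ.2 with ⟨_, e⟩ | ⟨e, -⟩ | ⟨_, _, _, e⟩ | ⟨_, _, _, e⟩ | ⟨_, e⟩ | ⟨_, e⟩
      case inr.inl => exact Subtype.ext e
      all_goals exact (key _ e (by omega)).elim
  rw [cardPrimeTo_eq_ncard, e, Set.ncard_compl, Set.ncard_singleton, H.card_irr]
  omega

theorem cardPrimeTo_minus {ℓ : ℕ} (hℓ : ℓ.Prime) (hℓ2 : ℓ ≠ 2) (hd : ℓ ∣ Fintype.card F - 1) :
    cardPrimeTo SL(2, F) ℓ = (Fintype.card F + 5) / 2 := by
  have hq1 := Fintype.one_lt_card (α := F)
  have hodd := odd_card (F := F) h2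
  have hℓ3 : 3 ≤ ℓ := by have := hℓ.two_le; omega
  have hle := Nat.le_of_dvd (by omega) hd
  have hq : 5 ≤ Fintype.card F := by omega
  obtain ⟨-, -, -, c1, -, c2⟩ := H.degree_counts hq
  have hhalf : ℓ ∣ (Fintype.card F - 1) / 2 :=
    (((Nat.coprime_primes hℓ Nat.prime_two).2 hℓ2).dvd_of_dvd_mul_left
      (m := 2) (n := (Fintype.card F - 1) / 2)
      (by rwa [show 2 * ((Fintype.card F - 1) / 2) = Fintype.card F - 1 by omega]))
  have e : {χ : Cfsg.IrrCharacter SL(2, F) | ¬ ℓ ∣ Cfsg.charDegree (χ : SL(2, F) → ℂ)} =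
      ({χ | χ.1 1 = (Fintype.card F : ℂ) - 1} ∪
        {χ | χ.1 1 = (((Fintype.card F - 1) / 2 : ℕ) : ℂ)} : Set (Cfsg.IrrCharacter SL(2, F)))ᶜ := by
    ext χ
    simp only [Set.mem_ofPred_eq, Set.mem_compl_iff, Set.mem_union, ← Nat.cast_one (R := ℂ),
      ← Nat.cast_sub (R := ℂ) hq1.le]
    obtain ⟨n, hn⟩ := exists_degree (isCharacter_of_isIrr χ.2)
    rw [charDegree_eq hn, hn, Nat.cast_inj, Nat.cast_inj]
    refine ⟨fun h hc => h ?_, fun hc hdn => hc ?_⟩
    · rcases hc with rfl | rfl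
      exacts [hd, hhalf]
    have h1 : ¬ ℓ ∣ 1 := fun h => by have := Nat.le_of_dvd one_pos h; omega
    have h12 : ¬ ℓ ∣ 2 := fun h => by have := Nat.le_of_dvd two_pos h; omega
    rcases H.cases χ.2 with ⟨_, e⟩ | ⟨_, e⟩ | ⟨_, _, _, e⟩ | ⟨_, _, _, e⟩ | ⟨_, e⟩ | ⟨_, e⟩ <;>
      [skip; rw [← Nat.cast_inj (R := ℂ)] ; skip; skip; skip; skip]
    · rw [hn, Nat.cast_inj] at e; subst e; exact absurd hdn h1
    · exfalso
      rw [hn, Nat.cast_inj] at e; subst e
      exact h1 ((Nat.dvd_add_right hd).1 (by rwa [Nat.sub_add_cancel hq1.le]))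
    · exfalso
      rw [hn, Nat.cast_inj] at e; subst e
      exact h12 ((Nat.dvd_add_right hd).1 (by rwa [show Fintype.card F - 1 + 2 = Fintype.card F + 1 by omega]))
    · rw [hn, Nat.cast_inj] at e; exact Or.inl e
    · exfalso
      rw [hn, Nat.cast_inj] at e; subst e
      exact h12 ((Nat.dvd_add_right hd).1 (by
        rw [show Fintype.card F - 1 + 2 = 2 * ((Fintype.card F + 1) / 2) by omega]
        exact hdn.mul_left 2))
    · rw [hn, Nat.cast_inj] at e; exact Or.inr e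
  rw [cardPrimeTo_eq_ncard, e, Set.ncard_compl, Set.ncard_union_eq ?_, c1, c2, H.card_irr]
  · omega
  · rw [Set.disjoint_left]
    intro χ h h'
    simp only [Set.mem_ofPred_eq, ← Nat.cast_one (R := ℂ), ← Nat.cast_sub (R := ℂ) hq1.le] at h h'
    rw [h, Nat.cast_inj] at h'; omega

theorem cardPrimeTo_plus {ℓ : ℕ} (hℓ : ℓ.Prime) (hℓ2 : ℓ ≠ 2) (hd : ℓ ∣ Fintype.card F + 1) :
    cardPrimeTo SL(2, F) ℓ = (Fintype.card F + 7) / 2 := by
  have hq1 := Fintype.one_lt_card (α := F)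
  have hodd := odd_card (F := F) h2
  have hℓ3 : 3 ≤ ℓ := by have := hℓ.two_le; omega
  have hhalf : ℓ ∣ (Fintype.card F + 1) / 2 :=
    (((Nat.coprime_primes hℓ Nat.prime_two).2 hℓ2).dvd_of_dvd_mul_left
      (m := 2) (n := (Fintype.card F + 1) / 2)
      (by rwa [show 2 * ((Fintype.card F + 1) / 2) = Fintype.card F + 1 by omega]))
  have hle := Nat.le_of_dvd (by omega) hhalf
  have hq : 5 ≤ Fintype.card F := by omega
  obtain ⟨-, -, c1, -, c2, -⟩ := H.degree_counts hq
  have e : {χ : Cfsg.IrrCharacter SL(2, F) | ¬ ℓ ∣ Cfsg.charDegree (χ : SL(2, F) → ℂ)} =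
      ({χ | χ.1 1 = (Fintype.card F : ℂ) + 1} ∪
        {χ | χ.1 1 = (((Fintype.card F + 1) / 2 : ℕ) : ℂ)} : Set (Cfsg.IrrCharacter SL(2, F)))ᶜ := by
    ext χ
    simp only [Set.mem_ofPred_eq, Set.mem_compl_iff, Set.mem_union, ← Nat.cast_succ]
    obtain ⟨n, hn⟩ := exists_degree (isCharacter_of_isIrr χ.2)
    rw [charDegree_eq hn, hn, Nat.cast_inj, Nat.cast_inj]
    refine ⟨fun h hc => h ?_, fun hc hdn => hc ?_⟩
    · rcases hc with rfl | rfl
      exacts [hd, hhalf]
    have h1 : ¬ ℓ ∣ 1 := fun h => by have := Nat.le_of_dvd one_pos h; omega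
    have h12 : ¬ ℓ ∣ 2 := fun h => by have := Nat.le_of_dvd two_pos h; omega
    rcases H.cases χ.2 with ⟨_, e⟩ | ⟨_, e⟩ | ⟨_, _, _, e⟩ | ⟨_, _, _, e⟩ | ⟨_, e⟩ | ⟨_, e⟩ <;>
      rw [hn, Nat.cast_inj] at e
    · subst e; exact absurd hdn h1
    · exfalso; subst e; exact h1 ((Nat.dvd_add_right hdn).1 hd)
    · exact Or.inl e
    · exfalso; subst e
      exact h12 ((Nat.dvd_add_right hdn).1 (by rwa [show Fintype.card F - 1 + 2 = Fintype.card F + 1 by omega]))
    · exact Or.inr e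
    · exfalso; subst e
      exact h12 ((Nat.dvd_add_right (hdn.mul_left 2)).1 (by
        rwa [show 2 * ((Fintype.card F - 1) / 2) + 2 = Fintype.card F + 1 by omega]))
  rw [cardPrimeTo_eq_ncard, e, Set.ncard_compl, Set.ncard_union_eq ?_, c1, c2, H.card_irr]
  · omega
  · rw [Set.disjoint_left]
    intro χ h h'
    simp only [Set.mem_ofPred_eq, ← Nat.cast_succ] at h h'
    rw [h, Nat.cast_inj] at h'; omega

theorem cardPrimeTo_two : cardPrimeTo SL(2, F) 2 = 4 := by
  classical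
  have hq1 := Fintype.one_lt_card (α := F)
  have hodd := odd_card (F := F) h2
  obtain ⟨i1, i2, j1, j2⟩ := H.inner_parts
  have hone : Cfsg.classInner (D Tr h2 H.θ) (fun _ => 1) = 0 := by
    rw [classInner_D_const, if_neg H.θ_ne, neg_zero]
  set P : Set (Cfsg.IrrCharacter SL(2, F)) := if Fintype.card F % 4 = 1 then H.pairχ else H.pairψ with hP
  have hPdeg : ∀ χ ∈ P, (χ.1 1 = (((Fintype.card F + 1) / 2 : ℕ) : ℂ) ∧ Fintype.card F % 4 = 1) ∨
      (χ.1 1 = (((Fintype.card F - 1) / 2 : ℕ) : ℂ) ∧ Fintype.card F % 4 = 3 ∧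
        Cfsg.classInner (D Tr h2 H.θ) χ.1 = 1) := by
    intro χ hχ
    rw [hP] at hχ
    split_ifs at hχ with h4
    · rcases hχ with rfl | h
      · exact Or.inl ⟨H.χ₁_one, h4⟩
      · rw [Set.mem_singleton_iff.1 h]; exact Or.inl ⟨H.χ₂_one, h4⟩
    · rcases hχ with rfl | h
      · exact Or.inr ⟨H.ψ₁_one, by omega, j1⟩
      · rw [Set.mem_singleton_iff.1 h]; exact Or.inr ⟨H.ψ₂_one, by omega, j2⟩
  have e : {χ : Cfsg.IrrCharacter SL(2, F) | ¬ 2 ∣ Cfsg.charDegree (χ : SL(2, F) → ℂ)} =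
      {irrOne, irrSt h2} ∪ P := by
    ext χ
    simp only [Set.mem_ofPred_eq]
    constructor
    · intro h
      rcases H.cases χ.2 with ⟨e', e⟩ | ⟨e', e⟩ | ⟨_, _, _, e⟩ | ⟨_, _, _, e⟩ | ⟨hh, e⟩ | ⟨hh, e⟩
      · exact Or.inl (Or.inl (Subtype.ext e'))
      · exact Or.inl (Or.inr (Set.mem_singleton_iff.2 (Subtype.ext e')))
      · exfalso; rw [charDegree_eq e] at h; omega
      · exfalso; rw [charDegree_eq e] at h; omega
      · rw [charDegree_eq e] at h
        refine Or.inr ?_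
        rw [hP, if_pos (by omega)]
        exact hh.imp (fun h => Subtype.ext h) (fun h => Set.mem_singleton_iff.2 (Subtype.ext h))
      · rw [charDegree_eq e] at h
        refine Or.inr ?_
        rw [hP, if_neg (by omega)]
        exact hh.imp (fun h => Subtype.ext h) (fun h => Set.mem_singleton_iff.2 (Subtype.ext h))
    · rintro ((rfl | h) | h)
      · rw [charDegree_eq (show (irrOne : Cfsg.IrrCharacter SL(2, F)).1 1 = ((1 : ℕ) : ℂ) from
          Nat.cast_one.symm)]
        omega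
      · rw [Set.mem_singleton_iff.1 h, charDegree_eq (show (irrSt h2).1 1 = _ from St_one)]
        omega
      · rcases hPdeg χ h with ⟨e, h4⟩ | ⟨e, h4, -⟩ <;> rw [charDegree_eq e] <;> omega
  have hne : irrOne ≠ irrSt h2 := fun e => by
    have := congrFun (congrArg Subtype.val e) 1
    simp only [irrOne, irrSt, St_one] at this
    rw [eq_comm, Nat.cast_eq_one] at this; omega
  have hd : Disjoint ({irrOne, irrSt h2} : Set (Cfsg.IrrCharacter SL(2, F))) P := by
    rw [Set.disjoint_left]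
    rintro k (rfl | hk) hk'
    · rcases hPdeg _ hk' with ⟨e, h4⟩ | ⟨-, -, h1⟩
      · have e' : ((1 : ℕ) : ℂ) = _ := Nat.cast_one.trans e
        rw [Nat.cast_inj] at e'; omega
      · exact zero_ne_one (hone.symm.trans h1)
    · rw [Set.mem_singleton_iff.1 hk] at hk'
      rcases hPdeg _ hk' with ⟨e, h4⟩ | ⟨e, h4, -⟩ <;>
      · have e' : (Fintype.card F : ℂ) = _ := St_one.symm.trans e
        rw [Nat.cast_inj] at e'; omega
  rw [cardPrimeTo_eq_ncard, e, Set.ncard_union_eq hd, Set.ncard_pair hne]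
  rw [hP]
  split_ifs
  · rw [H.card_pairs.1]
  · rw [H.card_pairs.2]

end Halves

/-- The local count in the characteristic. -/
theorem cardPrimeTo_normalizer_char (hodd : Odd (Fintype.card F)) {p : ℕ} [hp : Fact p.Prime] [CharP F p]
    (S : Sylow p SL(2, F)) :
    cardPrimeTo (Subgroup.normalizer ((S : Subgroup SL(2, F)) : Set SL(2, F))) p = Fintype.card F + 3 := by
  classical
  have hq1 := Fintype.one_lt_card (α := F)
  obtain ⟨f, -, hf⟩ := FiniteField.card F p
  have hpq : p ∣ Fintype.card F := hf ▸ dvd_pow_self p f.ne_zero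
  let u : Multiplicative F →* SL(2, F) :=
    { toFun := fun x => mk 1 x.toAdd
      map_one' := mk_one_zero
      map_mul' := fun x y => by rw [mk_mul]; simp [add_comm] }
  set U := u.range with hU
  have hmem : ∀ g, g ∈ U ↔ ∃ x : F, mk 1 x = g := fun g =>
    ⟨fun ⟨x, hx⟩ => ⟨x.toAdd, hx⟩, fun ⟨x, hx⟩ => ⟨Multiplicative.ofAdd x, hx⟩⟩
  have hUcard : Nat.card U = Fintype.card F := by
    rw [hU, ← Nat.card_congr (MonoidHom.ofInjective (f := u) fun x y h => by
      have h1 : (mk (1 : Fˣ) x.toAdd).1 0 1 = (mk (1 : Fˣ) y.toAdd).1 0 1 :=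
        congrArg (fun g : SL(2, F) => g.1 0 1) h
      exact Multiplicative.toAdd.injective (by simpa [mk] using h1)).toEquiv,
      Nat.card_congr Multiplicative.toAdd, Nat.card_eq_fintype_card]
  have hfac : (Nat.card SL(2, F)).factorization p = f := by
    have hc : ¬ p ∣ Fintype.card F ^ 2 - 1 := fun h => hp.out.not_dvd_one (by
      have h' := Nat.dvd_sub (dvd_pow hpq two_ne_zero) h
      rwa [Nat.sub_sub_self (Nat.one_le_pow _ _ (by omega))] at h')
    rw [card_SL2, Nat.factorization_mul Fintype.card_ne_zero (fun h => hc (by rw [h]; exact dvd_zero p)), hf]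
    have hnd : (p ^ (f : ℕ) ^ 1).factorization p = f := by simp [hp.out.factorization_self]
    simp [Nat.factorization_eq_zero_of_not_dvd (hf ▸ hc), hp.out.factorization_self]
  have hN : Subgroup.normalizer (U : Set SL(2, F)) = borel F := by
    have hmaps : ∀ g ∈ borel F, ∀ v ∈ U, g * v * g⁻¹ ∈ U := by
      intro g hg v hv
      obtain ⟨⟨a, x⟩, e⟩ := (borelEquiv F).surjective ⟨g, hg⟩
      obtain rfl : mk a x = g := congrArg Subtype.val e
      obtain ⟨y, rfl⟩ := (hmem v).1 hv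
      refine (hmem _).2 ⟨(a : F) ^ 2 * y, ?_⟩
      rw [eq_mul_inv_iff_mul_eq, mk_mul, mk_mul]
      simp only [one_mul, mul_one]
      congr 1
      simp
      field_simp
      ring
    ext g
    constructor
    · intro hg
      obtain ⟨y, hy⟩ := (hmem _).1 ((Subgroup.mem_normalizer_iff.1 hg (mk 1 1)).1 ((hmem _).2 ⟨1, rfl⟩))
      have h := congrArg (fun m : SL(2, F) => (m.1 * g.1) 1 0) hy
      simp only [Matrix.SpecialLinearGroup.coe_mul] at h
      rw [mul_assoc (g.1 * (mk 1 1).1), ← Matrix.SpecialLinearGroup.coe_mul g⁻¹ g, inv_mul_cancel,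
        Matrix.SpecialLinearGroup.coe_one, mul_one] at h
      simp [coe_mk, Matrix.mul_apply, Fin.sum_univ_two] at h
      have h' := congrArg (fun m : SL(2, F) => (m.1 * g.1) 1 1) hy
      simp only [Matrix.SpecialLinearGroup.coe_mul] at h'
      rw [mul_assoc (g.1 * (mk 1 1).1), ← Matrix.SpecialLinearGroup.coe_mul g⁻¹ g, inv_mul_cancel,
        Matrix.SpecialLinearGroup.coe_one, mul_one] at h'
      simp [coe_mk, Matrix.mul_apply, Fin.sum_univ_two] at h'
      exact mem_borel.2 h'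
    · intro hg
      rw [Subgroup.mem_normalizer_iff]
      refine fun v => ⟨hmaps g hg v, fun h => ?_⟩
      have := hmaps g⁻¹ ((borel F).inv_mem hg) _ h
      simpa [mul_assoc] using this
  rw [cardPrimeTo_normalizer_sylow S (Sylow.ofCard U (by rw [hUcard, hfac, hf]))]
  show cardPrimeTo (Subgroup.normalizer (U : Set SL(2, F))) p = _
  rw [cardPrimeTo_congr (MulEquiv.subgroupCongr hN)]
  haveI hUn : (U.subgroupOf (borel F)).Normal := hN ▸ Subgroup.normal_in_normalizer
  have hUB : U ≤ borel F := hN ▸ Subgroup.le_normalizer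
  rw [cardPrimeTo_of_abelian_normal (U.subgroupOf (borel F)) ?_ p ?_]
  · exact Cfsg.Agent.S2437.result hodd
  · intro a ha b hb
    obtain ⟨x, hx⟩ := (hmem _).1 (Subgroup.mem_subgroupOf.1 ha)
    obtain ⟨y, hy⟩ := (hmem _).1 (Subgroup.mem_subgroupOf.1 hb)
    apply Subtype.ext
    rw [Subgroup.coe_mul, Subgroup.coe_mul, ← hx, ← hy, mk_mul, mk_mul]
    simp [add_comm]
  · have h := Subgroup.card_mul_index (U.subgroupOf (borel F))
    rw [Nat.card_congr (Subgroup.subgroupOfEquivOfLe hUB).toEquiv, hUcard, card_borel] at h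
    intro hdvd
    rw [mul_comm (Fintype.card F - 1)] at h
    rw [Nat.eq_of_mul_eq_mul_left (by omega) h] at hdvd
    exact hp.out.not_dvd_one (by
      have h' := Nat.dvd_sub hpq hdvd
      rwa [Nat.sub_sub_self (by omega)] at h')

/-- The local count at a torus. -/
theorem cardPrimeTo_normalizer_torus (h2 : (2 : F) ≠ 0) {ℓ : ℕ} [hℓ : Fact ℓ.Prime] (hℓ2 : ℓ ≠ 2)
    {g : SL(2, F)} (ht : tr g ^ 2 ≠ 4)
    (hdvd : ℓ ∣ Nat.card (Subgroup.centralizer ({g} : Set SL(2, F)))) (c : ℕ)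
    (hc : Nat.card SL(2, F) = Nat.card (Subgroup.centralizer ({g} : Set SL(2, F))) * c)
    (hℓc : ¬ ℓ ∣ c) (S : Sylow ℓ SL(2, F)) :
    cardPrimeTo (Subgroup.normalizer ((S : Subgroup SL(2, F)) : Set SL(2, F))) ℓ =
      (Nat.card (Subgroup.centralizer ({g} : Set SL(2, F))) + 6) / 2 := by
  classical
  set T := Subgroup.centralizer ({g} : Set SL(2, F)) with hT
  obtain ⟨Q₀⟩ : Nonempty (Sylow ℓ T) := inferInstance
  set Q : Subgroup SL(2, F) := (Q₀ : Subgroup T).map T.subtype with hQdef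
  have hQT : Q ≤ T := Subgroup.map_subtype_le _
  have hQcard : Nat.card Q = ℓ ^ (Nat.card SL(2, F)).factorization ℓ := by
    rw [hQdef, Subgroup.card_map_of_injective T.subtype_injective, Q₀.card_eq_multiplicity, hc,
      Nat.factorization_mul Nat.card_pos.ne' (by rintro rfl; exact hℓc (dvd_zero _))]
    simp [Nat.factorization_eq_zero_of_not_dvd hℓc]
  let P := Sylow.ofCard Q hQcard
  obtain ⟨hC, -, hNc⟩ := sylow_torus ht h2 ℓ hℓ2 hdvd c hc hℓc P
  have hcT : T ≤ Subgroup.centralizer (Q : Set SL(2, F)) := fun t htT q hq =>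
    centralizer_comm (nonScalar_of_sq_ne_four ht) (hQT hq) htT
  have hCQ : Subgroup.centralizer (Q : Set SL(2, F)) = T :=
    (Subgroup.eq_of_le_of_card_ge hcT hC.le).symm
  have hle : Subgroup.normalizer (Q : Set SL(2, F)) ≤ Subgroup.normalizer (T : Set SL(2, F)) := by
    intro n hn
    rw [Subgroup.mem_normalizer_iff, ← hCQ]
    intro M
    simp only [Subgroup.mem_centralizer_iff, SetLike.mem_coe]
    constructor
    · intro hM q hq
      have h := hM (n⁻¹ * q * n) (((Subgroup.mem_normalizer_iff.1 hn) _).2 (by simpa [mul_assoc] using hq))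
      calc q * (n * M * n⁻¹) = n * (n⁻¹ * q * n * M) * n⁻¹ := by group
        _ = n * (M * (n⁻¹ * q * n)) * n⁻¹ := by rw [h]
        _ = n * M * n⁻¹ * q := by group
    · intro hM q hq
      have h := hM (n * q * n⁻¹) ((Subgroup.mem_normalizer_iff.1 hn q).1 hq)
      calc q * M = n⁻¹ * (n * q * n⁻¹ * (n * M * n⁻¹)) * n := by group
        _ = n⁻¹ * (n * M * n⁻¹ * (n * q * n⁻¹)) * n := by rw [h]
        _ = M * q := by group
  have hN : Subgroup.normalizer (Q : Set SL(2, F)) = Subgroup.normalizer (T : Set SL(2, F)) :=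
    Subgroup.eq_of_le_of_card_ge hle (by
      have h' : Nat.card (Subgroup.normalizer (Q : Set SL(2, F))) = 2 * Nat.card T := hNc
      rw [h', ← card_normalizer ht])
  rw [cardPrimeTo_normalizer_sylow S P]
  show cardPrimeTo (Subgroup.normalizer (Q : Set SL(2, F))) ℓ = _
  rw [cardPrimeTo_congr (MulEquiv.subgroupCongr hN)]
  haveI : (T.subgroupOf (Subgroup.normalizer (T : Set SL(2, F)))).Normal := Subgroup.normal_in_normalizer
  rw [cardPrimeTo_of_abelian_normal (T.subgroupOf (Subgroup.normalizer (T : Set SL(2, F))))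
      (fun a ha b hb => Subtype.ext (centralizer_comm (nonScalar_of_sq_ne_four ht) ha hb)) ℓ ?_,
    card_conjClasses_normalizer ht h2]
  have h := Subgroup.card_mul_index (T.subgroupOf (Subgroup.normalizer (T : Set SL(2, F))))
  rw [Nat.card_congr (Subgroup.subgroupOfEquivOfLe Subgroup.le_normalizer).toEquiv,
    card_normalizer ht, mul_comm 2] at h
  rw [Nat.eq_of_mul_eq_mul_left Nat.card_pos h]
  intro h'
  have := Nat.le_of_dvd two_pos h'
  have := hℓ.out.two_le
  omega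

/-- The local count at the prime 2. -/
theorem cardPrimeTo_normalizer_two (hodd : Odd (Fintype.card F)) (S : Sylow 2 SL(2, F)) :
    cardPrimeTo (Subgroup.normalizer ((S : Subgroup SL(2, F)) : Set SL(2, F))) 2 = 4 := by
  obtain ⟨c1, c2, c3⟩ := Cfsg.Agent.S2431.result hodd S
  have h2 := two_ne_zero_of_odd hodd
  have hodd' : Fintype.card F % 2 = 1 := Nat.odd_iff.1 hodd
  by_cases h8 : Fintype.card F % 8 = 1 ∨ Fintype.card F % 8 = 7
  · obtain ⟨m, hm, ⟨e⟩⟩ := CfsgLib.Linear.sylow_two_quaternion hodd S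
    rw [cardPrimeTo_congr ((MulEquiv.subgroupCongr (c2 h8)).trans e)]
    exact cardPrimeTo_two_quaternion m hm
  · have h35 : Fintype.card F % 8 = 3 ∨ Fintype.card F % 8 = 5 := by omega
    refine cardPrimeTo_two_of_card h2 S ?_ c1 (c3 h35)
    rw [S.card_eq_multiplicity, card_SL2]
    obtain ⟨k, r, hr, hq⟩ : ∃ k r, (r = 3 ∨ r = 5) ∧ Fintype.card F = 8 * k + r :=
      ⟨Fintype.card F / 8, Fintype.card F % 8, h35, (Nat.div_add_mod _ 8).symm⟩
    obtain ⟨c, hc, hce⟩ : ∃ c, c % 2 = 1 ∧ Fintype.card F ^ 2 - 1 = 8 * c := by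
      rcases hr with rfl | rfl
      · exact ⟨8 * k ^ 2 + 6 * k + 1, by omega, Nat.sub_eq_of_eq_add (by rw [hq]; ring)⟩
      · exact ⟨8 * k ^ 2 + 10 * k + 3, by omega, Nat.sub_eq_of_eq_add (by rw [hq]; ring)⟩
    rw [hce, Nat.factorization_mul (by omega) (by omega), Nat.factorization_mul (by omega) (by omega)]
    rw [show (8 : ℕ) = 2 ^ 3 from rfl, Nat.factorization_pow]
    simp [Nat.factorization_eq_zero_of_not_dvd (show ¬ 2 ∣ Fintype.card F by omega),
      Nat.factorization_eq_zero_of_not_dvd (show ¬ 2 ∣ c by omega), Nat.prime_two.factorization_self]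

end CfsgLib.SL2CharTable
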