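import Cfsg.Agent.SL2CharTable.Dual
import Cfsg.Agent.SL2Borel.Basic
import Cfsg.Agent.SL2Tori.Basic
import Cfsg.Agent.Characters.Generalized

/-!
# Elements of `SL₂(q)` up to conjugacy, and the induced characters from the Borel subgroup
-/

set_option autoImplicit false
set_option linter.unusedSectionVars false

namespace CfsgLib.SL2CharTable

open Matrix CfsgLib.SL2Borel CfsgLib.SL2Tori CfsgLib.Characters
open scoped MatrixGroups ComplexConjugate

variable {F : Type*} [Field F]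

theorem mk_apply (a : Fˣ) (x : F) :
    mk a x 0 0 = (a : F) ∧ mk a x 0 1 = x ∧ mk a x 1 0 = 0 ∧ mk a x 1 1 = ((a⁻¹ : Fˣ) : F) := by
  simp [mk]

theorem mk_mul (a b : Fˣ) (x y : F) :
    mk a x * mk b y = mk (a * b) ((a : F) * y + x * ((b⁻¹ : Fˣ) : F)) := by
  apply Subtype.ext
  rw [Matrix.SpecialLinearGroup.coe_mul, coe_mk, coe_mk, coe_mk, Matrix.mul_fin_two]
  simp [mul_comm]

theorem mk_one_zero : mk (1 : Fˣ) (0 : F) = 1 := by
  apply Subtype.ext
  rw [coe_mk, Matrix.SpecialLinearGroup.coe_one, Matrix.one_fin_two]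
  simp

theorem mk_neg_one_zero : mk (-1 : Fˣ) (0 : F) = -1 := by
  apply Subtype.ext
  rw [coe_mk, Matrix.SpecialLinearGroup.coe_neg, Matrix.SpecialLinearGroup.coe_one, Matrix.one_fin_two,
    Units.val_inv_eq_inv_val, Units.val_neg, Units.val_one, inv_neg, inv_one]
  ext i j
  fin_cases i <;> fin_cases j <;> first | rfl | exact neg_zero.symm

theorem mk_central_mem {e : Fˣ} (he : e = 1 ∨ e = -1) :
    mk e (0 : F) ∈ Subgroup.center SL(2, F) := by
  rw [SL2Trace.mem_center_iff_eq]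
  rcases he with rfl | rfl
  · exact Or.inl mk_one_zero
  · exact Or.inr mk_neg_one_zero

theorem sq_ne_one_iff {a : Fˣ} : a ^ 2 ≠ 1 ↔ ¬ (a = 1 ∨ a = -1) := by
  rw [not_iff_not, Units.ext_iff, Units.val_pow_eq_pow_val, Units.val_one, sq_eq_one_iff,
    Units.ext_iff, Units.ext_iff, Units.val_neg, Units.val_one]

theorem sub_inv_ne_zero {a : Fˣ} (ha : a ^ 2 ≠ 1) : (a : F) - ((a⁻¹ : Fˣ) : F) ≠ 0 := by
  intro h
  apply ha
  rw [sub_eq_zero, Units.val_inj] at h
  calc a ^ 2 = a * a := sq a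
    _ = a * a⁻¹ := by rw [← h]
    _ = 1 := mul_inv_cancel a

/-- A regular diagonalisable element of the Borel subgroup is conjugate to a diagonal one. -/
theorem isConj_mk_zero {a : Fˣ} (ha : a ^ 2 ≠ 1) (x : F) : IsConj (mk a 0) (mk a x) := by
  set s := x / (((a⁻¹ : Fˣ) : F) - (a : F)) with hs
  have h0 : ((a⁻¹ : Fˣ) : F) - (a : F) ≠ 0 := by
    rw [← neg_sub]; exact neg_ne_zero.2 (sub_inv_ne_zero ha)
  refine isConj_iff.2 ⟨mk 1 s, ?_⟩
  rw [mul_inv_eq_iff_eq_mul, mk_mul, mk_mul]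
  simp only [Units.val_one, inv_one, mul_one, one_mul]
  congr 1
  rw [hs]; field_simp; ring

/-- Scaling by squares. -/
theorem isConj_mk_sq (c a : Fˣ) (x : F) : IsConj (mk a x) (mk a ((c : F) ^ 2 * x)) := by
  refine isConj_iff.2 ⟨mk c 0, ?_⟩
  rw [mul_inv_eq_iff_eq_mul, mk_mul, mk_mul]
  rw [mul_comm c a]
  congr 1
  rw [mul_zero, zero_mul, zero_add, add_zero]
  simp only [Units.val_inv_eq_inv_val]
  field_simp

theorem tr_mk (a : Fˣ) (x : F) : tr (mk a x) = (a : F) + ((a⁻¹ : Fˣ) : F) := by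
  simp [tr, mk, Matrix.trace_fin_two]

theorem mk_mul_central {e : Fˣ} (he : e = 1 ∨ e = -1) (x : F) :
    mk e x = mk e 0 * mk 1 ((e : F) * x) := by
  rw [mk_mul, mul_one, zero_mul, add_zero, ← mul_assoc]
  rcases he with rfl | rfl <;> simp

theorem root_of_mem (a : Fˣ) (x : F) :
    (-(a : F)) ^ 2 + tr (mk a x) * (-(a : F)) + 1 = 0 := by
  rw [tr_mk]
  have := a.mul_inv
  linear_combination -this

/-- An element with an eigenvalue in the field is conjugate into the Borel subgroup. -/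
theorem exists_mk (g : SL(2, F)) {m : F} (hm : m ^ 2 + tr g * m + 1 = 0) :
    ∃ (a : Fˣ) (x : F), IsConj (mk a x) g := by
  have key : ∀ h : SL(2, F), h 1 0 = 0 → ∃ (a : Fˣ) (x : F), mk a x = h := fun h h10 =>
    ⟨_, _, congrArg Subtype.val ((borelEquiv F).apply_symm_apply ⟨h, mem_borel.2 h10⟩)⟩
  by_cases h10 : g 1 0 = 0
  · obtain ⟨a, x, e⟩ := key g h10
    exact ⟨a, x, e ▸ IsConj.refl _⟩
  set c := (-m - g 1 1) / g 1 0 with hc
  have hd : g 0 0 * g 1 1 - g 0 1 * g 1 0 = 1 := by rw [← Matrix.det_fin_two]; exact g.2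
  have ht : tr g = g 0 0 + g 1 1 := Matrix.trace_fin_two _
  obtain ⟨a, x, e⟩ := key ((cosetRep F (some c))⁻¹ * g * cosetRep F (some c)) (by
    show ((cosetRep F (some c))⁻¹ * g * cosetRep F (some c) : SL(2, F)).1 1 0 = 0
    rw [Matrix.SpecialLinearGroup.coe_mul, cosetRep_inv_mul_apply]
    simp [cosetRep, Matrix.mul_apply, Fin.sum_univ_two]
    rw [hc]
    field_simp
    rw [ht] at hm
    linear_combination hm + hd)
  refine ⟨a, x, isConj_iff.2 ⟨cosetRep F (some c), ?_⟩⟩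
  rw [e]; group

variable [Fintype F] [DecidableEq F]

/-- The sum over the Borel subgroup in coordinates, for functions constant off the centre. -/
theorem sum_borel (h : Fˣ → F → ℂ) (h1 : (1 : Fˣ) ≠ -1) (S : Fˣ → ℂ)
    (hS : ∀ a : Fˣ, a ^ 2 ≠ 1 → ∀ x, h a x = S a) :
    ∑ a : Fˣ, ∑ x : F, h a x = (Fintype.card F : ℂ) * ∑ a, S a +
      (((∑ x : F, h 1 x) - Fintype.card F * S 1) + ((∑ x : F, h (-1) x) - Fintype.card F * S (-1))) := by
  classical
  have e : ∀ a : Fˣ, (∑ x : F, h a x) = (Fintype.card F : ℂ) * S a +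
      ((if a = 1 then (∑ x : F, h 1 x) - Fintype.card F * S 1 else 0) +
       (if a = -1 then (∑ x : F, h (-1) x) - Fintype.card F * S (-1) else 0)) := by
    intro a
    by_cases ha : a = 1
    · subst ha; rw [if_pos rfl, if_neg h1]; ring
    by_cases ha' : a = -1
    · subst ha'; rw [if_neg h1.symm, if_pos rfl]; ring
    rw [if_neg ha, if_neg ha', Finset.sum_congr rfl fun x _ => hS a (sq_ne_one_iff.2 (by tauto)) x]
    simp
  rw [Finset.sum_congr rfl fun a _ => e a, Finset.sum_add_distrib, Finset.sum_add_distrib,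
    ← Finset.mul_sum, Finset.sum_ite_eq', Finset.sum_ite_eq', if_pos (Finset.mem_univ _),
    if_pos (Finset.mem_univ _)]

theorem sum_borel_subgroup (f : SL(2, F) → ℂ) [Fintype (borel F)] :
    ∑ b : borel F, f b = ∑ a : Fˣ, ∑ x : F, f (mk a x) := by
  rw [← Fintype.sum_prod_type']
  exact (Fintype.sum_equiv (borelEquiv F) (fun p => f (mk p.1 p.2)) (fun b => f b) fun _ => rfl).symm

/-- The induced character. -/
noncomputable def R (β : Fˣ →* ℂˣ) : SL(2, F) → ℂ :=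
  Cfsg.indFun (borel F) (chi (MulChar.ofUnitHom β))

theorem chi_mk (β : Fˣ →* ℂˣ) (a : Fˣ) (x : F) (h : mk a x ∈ borel F) :
    chi (MulChar.ofUnitHom β) ⟨mk a x, h⟩ = (β a : ℂ) := by
  simp [chi, mk]

theorem R_eq_indFun (β : Fˣ →* ℂˣ) :
    R β = Cfsg.indFun (borel F) (fun b => MulChar.ofUnitHom β ((b : SL(2, F)) 0 0)) := rfl

theorem isClassFunction_R (β : Fˣ →* ℂˣ) : Cfsg.IsClassFunction SL(2, F) (R β) :=
  isClassFunction_indFun _ _

/-- The linear character of the Borel subgroup. -/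
noncomputable def chiHom (β : Fˣ →* ℂˣ) : borel F →* ℂˣ where
  toFun b := β ((borelEquiv F).symm b).1
  map_one' := by
    rw [show (borelEquiv F).symm 1 = (1, 0) from (Equiv.symm_apply_eq _).2 (Subtype.ext mk_one_zero.symm)]
    exact map_one β
  map_mul' b c := by
    rw [← map_mul β]
    congr 1
    ext
    simp [borelEquiv, Matrix.mul_apply, Fin.sum_univ_two, mem_borel.1 c.2]

theorem isCharacter_R (β : Fˣ →* ℂˣ) : Cfsg.IsCharacter SL(2, F) (R β) := by
  refine isCharacter_indFun _ ?_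
  have e : chi (MulChar.ofUnitHom β) = fun b : borel F => (chiHom β b : ℂ) := by
    funext b
    obtain ⟨⟨a, x⟩, rfl⟩ := (borelEquiv F).surjective b
    show chi _ (⟨mk a x, _⟩ : borel F) = (β ((borelEquiv F).symm (borelEquiv F (a, x))).1 : ℂ)
    rw [chi_mk, Equiv.symm_apply_apply]
  rw [e]
  exact isCharacter_of_isIrr (isIrr_linChar (chiHom β))

theorem R_mk_regular (β : Fˣ →* ℂˣ) {a : Fˣ} (ha : a ^ 2 ≠ 1) (x : F) :
    R β (mk a x) = (β a : ℂ) + (β a⁻¹ : ℂ) := by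
  obtain ⟨e0, e1, e2, e3⟩ := mk_apply a x
  rw [R, indFun_borel, e0, e1, e2, e3, if_pos rfl, Finset.sum_eq_single (x / (((a⁻¹ : Fˣ) : F) - (a : F)))]
  · have h0 : ((a⁻¹ : Fˣ) : F) - (a : F) ≠ 0 := by
      rw [← neg_sub]; exact neg_ne_zero.2 (sub_inv_ne_zero ha)
    rw [if_pos (by field_simp; ring), zero_mul, zero_add, MulChar.ofUnitHom_coe, MulChar.ofUnitHom_coe]
  · intro c _ hc
    rw [if_neg]
    intro h
    apply hc
    have h0 : ((a⁻¹ : Fˣ) : F) - (a : F) ≠ 0 := by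
      rw [← neg_sub]; exact neg_ne_zero.2 (sub_inv_ne_zero ha)
    rw [eq_div_iff h0]
    linear_combination h
  · simp

theorem R_central (β : Fˣ →* ℂˣ) {e : Fˣ} (he : e = 1 ∨ e = -1) :
    R β (mk e 0) = ((Fintype.card F : ℂ) + 1) * (β e : ℂ) := by
  obtain ⟨e0, e1, e2, e3⟩ := mk_apply e (0 : F)
  have h : e⁻¹ = e := by rcases he with rfl | rfl <;> simp
  rw [R, indFun_borel, e0, e1, e2, e3, if_pos rfl, h,
    Finset.sum_congr rfl fun c _ => if_pos (show (0 : F) * c ^ 2 + ((e : F) - e) * c - 0 = 0 by ring)]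
  simp [MulChar.ofUnitHom_coe]; ring

theorem R_unipotent (β : Fˣ →* ℂˣ) {e : Fˣ} (he : e = 1 ∨ e = -1) {x : F} (hx : x ≠ 0) :
    R β (mk e x) = (β e : ℂ) := by
  obtain ⟨e0, e1, e2, e3⟩ := mk_apply e x
  have h : e⁻¹ = e := by rcases he with rfl | rfl <;> simp
  rw [R, indFun_borel, e0, e1, e2, e3, if_pos rfl, h, Finset.sum_eq_zero fun c _ => if_neg fun hh => hx (by
    linear_combination -hh)]
  simp [MulChar.ofUnitHom_coe]

theorem R_nonsplit (β : Fˣ →* ℂˣ) {g : SL(2, F)} (hg : ∀ m : F, m ^ 2 + tr g * m + 1 ≠ 0) :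
    R β g = 0 := by
  have hd : g 0 0 * g 1 1 - g 0 1 * g 1 0 = 1 := by rw [← Matrix.det_fin_two]; exact g.2
  have ht : tr g = g 0 0 + g 1 1 := Matrix.trace_fin_two _
  have h10 : g 1 0 ≠ 0 := fun h => hg (-(g 0 0)) (by rw [ht]; rw [h] at hd; linear_combination -hd)
  rw [R, indFun_borel, if_neg h10, zero_add]
  refine Finset.sum_eq_zero fun c _ => if_neg fun h => hg (-(g 1 0 * c + g 1 1)) ?_
  rw [ht]
  linear_combination g 1 0 * h - hd

theorem R_one (β : Fˣ →* ℂˣ) : R β 1 = (Fintype.card F : ℂ) + 1 := by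
  rw [← mk_one_zero, R_central β (Or.inl rfl), map_one, Units.val_one, mul_one]

/-- Frobenius reciprocity in coordinates. -/
theorem classInner_R (β : Fˣ →* ℂˣ) {f : SL(2, F) → ℂ} (hf : Cfsg.IsClassFunction SL(2, F) f) :
    Cfsg.classInner (R β) f = (((Fintype.card F - 1 : ℕ) : ℂ) * Fintype.card F)⁻¹ *
      ∑ a : Fˣ, ∑ x : F, (β a : ℂ) * conj (f (mk a x)) := by
  classical
  haveI : Fintype (borel F) := Fintype.ofFinite _
  rw [R, classInner_indFun _ _ hf, Cfsg.classInner, card_borel, Nat.cast_mul]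
  congr 1
  rw [← Fintype.sum_prod_type']
  exact (Fintype.sum_equiv (borelEquiv F) _ _ fun p => by
    show (β p.1 : ℂ) * conj (f (mk p.1 p.2)) = chi _ (⟨mk p.1 p.2, _⟩ : borel F) * conj (f (mk p.1 p.2))
    rw [chi_mk]).symm

theorem sum_central (f : F → ℂ) (c : ℂ) (h : ∀ x, x ≠ 0 → f x = c) :
    ∑ x, f x = f 0 + ((Fintype.card F : ℂ) - 1) * c := by
  classical
  rw [← Finset.add_sum_erase _ _ (Finset.mem_univ (0 : F)),
    Finset.sum_congr rfl fun x hx => h x (Finset.ne_of_mem_erase hx), Finset.sum_const,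
    Finset.card_erase_of_mem (Finset.mem_univ _), Finset.card_univ, nsmul_eq_mul,
    Nat.cast_sub Fintype.card_pos, Nat.cast_one]

/-- Inner product with a function of given shape on the Borel subgroup. -/
theorem classInner_R_of_shape (h2 : (2 : F) ≠ 0) (β : Fˣ →* ℂˣ) {f : SL(2, F) → ℂ}
    (hf : Cfsg.IsClassFunction SL(2, F) f) (S : Fˣ → ℂ)
    (hS : ∀ a : Fˣ, a ^ 2 ≠ 1 → ∀ x, f (mk a x) = S a) (K : ℂ) (γ : Fˣ →* ℂˣ)
    (hK : ∀ e : Fˣ, (e = 1 ∨ e = -1) → ∑ x, f (mk e x) = Fintype.card F * (S e + K * γ e)) :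
    Cfsg.classInner (R β) f = ((Fintype.card F - 1 : ℕ) : ℂ)⁻¹ *
      (∑ a, (β a : ℂ) * conj (S a) + conj K * (1 + (β (-1) : ℂ) * conj (γ (-1) : ℂ))) := by
  have h1 : (1 : Fˣ) ≠ -1 := fun e => h2 (by
    have := congrArg Units.val e
    rw [Units.val_neg, Units.val_one] at this
    linear_combination this)
  rw [classInner_R β hf, sum_borel _ h1 (fun a => (β a : ℂ) * conj (S a)) fun a ha x => by rw [hS a ha x]]
  simp only [← Finset.mul_sum, ← map_sum, hK 1 (Or.inl rfl), hK (-1) (Or.inr rfl)]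
  simp only [map_mul, map_add, map_natCast, map_one, Units.val_one]
  have hq : (Fintype.card F : ℂ) ≠ 0 := Nat.cast_ne_zero.2 Fintype.card_ne_zero
  rw [mul_inv, mul_comm ((Fintype.card F - 1 : ℕ) : ℂ)⁻¹ (Fintype.card F : ℂ)⁻¹, mul_assoc]
  field_simp
  ring

end CfsgLib.SL2CharTable
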