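import Mathlib

/-!
# Linear characters of a finite abelian or cyclic group
-/

set_option autoImplicit false
set_option linter.unusedSectionVars false

namespace CfsgLib.SL2CharTable

open scoped ComplexConjugate

variable {X : Type*} [CommGroup X] [Fintype X]

theorem conj_char (θ : X →* ℂˣ) (x : X) : conj (θ x : ℂ) = (θ x⁻¹ : ℂ) := by
  have h : (θ x : ℂ) ^ Fintype.card X = 1 := by
    rw [← Units.val_pow_eq_pow_val, ← map_pow, pow_card_eq_one, map_one, Units.val_one]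
  have hn := Complex.norm_eq_one_of_pow_eq_one h Fintype.card_ne_zero
  rw [map_inv, Units.val_inv_eq_inv_val, Complex.inv_eq_conj hn]

open scoped Classical in
theorem sum_char (θ : X →* ℂˣ) :
    ∑ x, (θ x : ℂ) = if θ = 1 then (Fintype.card X : ℂ) else 0 := by
  split_ifs with h
  · subst h; simp
  · obtain ⟨y, hy⟩ : ∃ y, θ y ≠ 1 := by
      by_contra hc
      exact h (MonoidHom.ext fun y => not_not.1 fun e => hc ⟨y, e⟩)
    have e : (θ y : ℂ) * ∑ x, (θ x : ℂ) = ∑ x, (θ x : ℂ) := by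
      rw [Finset.mul_sum]
      exact Fintype.sum_equiv (Equiv.mulLeft y) _ _ fun x => by simp
    by_contra hs
    exact hy (Units.ext (by rw [Units.val_one]; exact (mul_eq_right₀ hs).1 e))

open scoped Classical in
theorem sum_char_mul (θ η : X →* ℂˣ) :
    ∑ x, (θ x : ℂ) * (η x : ℂ) = if θ * η = 1 then (Fintype.card X : ℂ) else 0 := by
  rw [← sum_char]; simp

open scoped Classical in
theorem sum_char_mul_conj (θ η : X →* ℂˣ) :
    ∑ x, (θ x : ℂ) * conj (η x : ℂ) = if θ = η then (Fintype.card X : ℂ) else 0 := by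
  have e : ∀ x, (θ x : ℂ) * conj (η x : ℂ) = (θ x : ℂ) * (η⁻¹ x : ℂ) := fun x => by
    rw [conj_char]; simp
  rw [Finset.sum_congr rfl fun x _ => e x, sum_char_mul]
  exact if_congr (@mul_inv_eq_one (X →* ℂˣ) _ θ η) rfl rfl

/-- A function orthogonal to every character vanishes. -/
theorem eq_zero_of_orthogonal (h : X → ℂ) (H : ∀ θ : X →* ℂˣ, ∑ x, (θ x : ℂ) * h x = 0) (y : X) :
    h y = 0 := by
  classical
  haveI : Fintype (X →* ℂˣ) := Fintype.ofFinite _
  have hsum : ∀ x : X, ∑ θ : X →* ℂˣ, (θ x : ℂ) = if x = 1 then (Fintype.card (X →* ℂˣ) : ℂ) else 0 := by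
    intro x
    split_ifs with hx
    · subst hx; simp
    · obtain ⟨φ, hφ⟩ := CommGroup.exists_apply_ne_one_of_hasEnoughRootsOfUnity X ℂ hx
      have e : (φ x : ℂ) * ∑ θ : X →* ℂˣ, (θ x : ℂ) = ∑ θ : X →* ℂˣ, (θ x : ℂ) := by
        rw [Finset.mul_sum]
        exact Fintype.sum_equiv (Equiv.mulLeft φ) _ _ fun θ => by simp
      by_contra hs
      exact hφ (Units.ext (by rw [Units.val_one]; exact (mul_eq_right₀ hs).1 e))
  have key : ∑ θ : X →* ℂˣ, (θ y⁻¹ : ℂ) * ∑ x, (θ x : ℂ) * h x = 0 :=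
    Finset.sum_eq_zero fun θ _ => by rw [H, mul_zero]
  have e : ∑ θ : X →* ℂˣ, (θ y⁻¹ : ℂ) * ∑ x, (θ x : ℂ) * h x =
      ∑ x, (∑ θ : X →* ℂˣ, (θ (y⁻¹ * x) : ℂ)) * h x := by
    simp only [Finset.mul_sum, Finset.sum_mul]
    rw [Finset.sum_comm]
    refine Finset.sum_congr rfl fun x _ => Finset.sum_congr rfl fun θ _ => ?_
    rw [map_mul, Units.val_mul, mul_assoc]
  rw [e, Finset.sum_eq_single y (fun x _ hx => by rw [hsum, if_neg (by rwa [inv_mul_eq_one, eq_comm]), zero_mul])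
    (by simp), hsum, inv_mul_cancel, if_pos rfl] at key
  refine (mul_eq_zero.1 key).resolve_left (Nat.cast_ne_zero.2 Fintype.card_ne_zero)

/-- The character of order two of a cyclic group of even order. -/
theorem exists_sign [IsCyclic X] (hev : Even (Fintype.card X)) :
    ∃ θ₀ : X →* ℂˣ, θ₀ ≠ 1 ∧ θ₀ ^ 2 = 1 ∧ (∀ θ : X →* ℂˣ, θ ^ 2 = 1 → θ = 1 ∨ θ = θ₀) ∧
      ∀ x, (x ^ (Fintype.card X / 2) = 1 → (θ₀ x : ℂ) = 1) ∧
        (x ^ (Fintype.card X / 2) ≠ 1 → (θ₀ x : ℂ) = -1) := by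
  obtain ⟨g, hg⟩ := IsCyclic.exists_generator (α := X)
  have hord : orderOf g = Fintype.card X := by
    rw [← Nat.card_eq_fintype_card]
    exact orderOf_eq_card_of_forall_mem_zpowers hg
  obtain ⟨k, hk⟩ := hev
  have hdvd : orderOf (-1 : ℂˣ) ∣ orderOf g := by
    rw [hord]
    exact orderOf_dvd_of_pow_eq_one (by rw [hk, ← two_mul, pow_mul, neg_one_sq, one_pow])
  let θ₀ : X →* ℂˣ := monoidHomOfForallMemZpowers hg hdvd
  have hθ₀ : θ₀ g = -1 := monoidHomOfForallMemZpowers_apply_gen hg hdvd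
  have hne : θ₀ ≠ 1 := fun e => by
    have h2 := congrArg (Units.val) (hθ₀.symm.trans (by rw [e]; rfl : θ₀ g = 1))
    rw [Units.val_neg, Units.val_one] at h2
    norm_num at h2
  have hext : ∀ θ η : X →* ℂˣ, θ g = η g → θ = η := fun θ η e => MonoidHom.ext fun x => by
    obtain ⟨z, rfl⟩ := Subgroup.mem_zpowers_iff.1 (hg x)
    rw [map_zpow, map_zpow, e]
  refine ⟨θ₀, hne, hext _ _ (by rw [MonoidHom.pow_apply, hθ₀, neg_one_sq]; rfl), fun θ hθ => ?_, fun x => ?_⟩
  · have e : (θ g : ℂ) ^ 2 = 1 := by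
      have := congrArg Units.val (DFunLike.congr_fun hθ g)
      simpa using this
    rcases sq_eq_one_iff.1 e with h | h
    · exact Or.inl (hext _ _ (Units.ext (by rw [h]; rfl)))
    · exact Or.inr (hext _ _ (Units.ext (by rw [h, hθ₀]; simp)))
  · obtain ⟨m, rfl⟩ : ∃ m : ℕ, g ^ m = x := mem_powers_iff_mem_zpowers.2 (hg x)
    rw [← pow_mul, map_pow, hθ₀, Units.val_pow_eq_pow_val, Units.val_neg, Units.val_one, ne_eq,
      ← orderOf_dvd_iff_pow_eq_one, hord]
    have hk0 : 0 < k := by have := Fintype.card_pos (α := X); omega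
    have hhalf : Fintype.card X / 2 = k := by omega
    rw [hhalf, hk, ← two_mul, Nat.mul_dvd_mul_iff_right hk0]
    exact ⟨fun h => (even_iff_two_dvd.2 h).neg_one_pow,
      fun h => (Nat.odd_iff.2 (Nat.two_dvd_ne_zero.1 h)).neg_one_pow⟩

end CfsgLib.SL2CharTable
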