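import Cfsg.Agent.SL2CharTable.Borel
import Cfsg.Agent.Linear.Basic

/-!
# Cuspidal virtual characters from a non-split torus, inner products
-/

set_option autoImplicit false
set_option linter.unusedSectionVars false

namespace CfsgLib.SL2CharTable

open Matrix CfsgLib.SL2Borel CfsgLib.SL2Tori CfsgLib.Characters
open scoped MatrixGroups ComplexConjugate

/-- A non-split torus, given by an element without eigenvalue. -/
structure NSTorus (F : Type*) [Field F] where
  gen : SL(2, F)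
  noRoot : ∀ m : F, m ^ 2 + tr gen * m + 1 ≠ 0

variable {F : Type*} [Field F]

/-- The torus. -/
def NSTorus.T (Tr : NSTorus F) : Subgroup SL(2, F) := Subgroup.centralizer ({Tr.gen} : Set SL(2, F))

variable [Fintype F] [DecidableEq F] (Tr : NSTorus F)

theorem NSTorus.sq_ne_four : tr Tr.gen ^ 2 ≠ 4 := sq_ne_four_of_no_root Tr.noRoot

noncomputable instance instCommGroupNSTorus : CommGroup Tr.T :=
  { (inferInstance : Group Tr.T) with
    mul_comm := fun M N => Subtype.ext (centralizer_comm (nonScalar_of_sq_ne_four Tr.sq_ne_four) M.2 N.2) }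

theorem NSTorus.isCyclic : IsCyclic Tr.T := isCyclic_centralizer Tr.sq_ne_four

theorem NSTorus.card_T : Nat.card Tr.T = Fintype.card F + 1 :=
  card_centralizer_nonsplit Tr.sq_ne_four Tr.noRoot

theorem NSTorus.neg_mem : (-1 : SL(2, F)) ∈ Tr.T :=
  Subgroup.center_le_centralizer _ ((SL2Trace.mem_center_iff_eq _).2 (Or.inr rfl))

/-- `-1` in the torus. -/
def NSTorus.negT : Tr.T := ⟨-1, Tr.neg_mem⟩

theorem NSTorus.negT_sq : Tr.negT * Tr.negT = 1 := Subtype.ext (by simp [NSTorus.negT])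

theorem NSTorus.regular {M : SL(2, F)} (hM : M ∈ Tr.T) (h1 : M ≠ 1) (h2 : M ≠ -1) :
    Subgroup.centralizer ({M} : Set SL(2, F)) = Tr.T ∧ tr M ^ 2 ≠ 4 ∧
      ∀ m : F, m ^ 2 + tr M * m + 1 ≠ 0 := by
  have hM1 : M.1 ≠ 1 := fun e => h1 (Subtype.ext e)
  have hM2 : M.1 ≠ -1 := fun e => h2 (Subtype.ext (by simpa using e))
  have hc : Subgroup.centralizer ({M} : Set SL(2, F)) = Tr.T :=
    centralizer_eq_of_mem Tr.sq_ne_four hM hM1 hM2
  have h4 : tr M ^ 2 ≠ 4 := by
    obtain ⟨x, y, h⟩ := (mem_centralizer_iff (nonScalar_of_sq_ne_four Tr.sq_ne_four) M).1 hM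
    have hd : M.1.det = 1 := M.2
    rw [h, det_combination] at hd
    have hy : y ≠ 0 := by
      rintro rfl
      rw [zero_smul, add_zero] at h
      rcases sq_eq_one_iff.1 (show x ^ 2 = 1 by linear_combination hd) with rfl | rfl
      · exact hM1 (by rw [h, one_smul])
      · exact hM2 (by rw [h, neg_one_smul])
    have e : tr M = 2 * x + tr Tr.gen * y := by
      simp only [tr, h, Matrix.trace_add, Matrix.trace_smul, Matrix.trace_one, Fintype.card_fin,
        smul_eq_mul]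
      push_cast; ring
    intro hh
    rw [e] at hh
    have : y ^ 2 * (tr Tr.gen ^ 2 - 4) = 0 := by linear_combination hh - 4 * hd
    exact Tr.sq_ne_four (sub_eq_zero.1 ((mul_eq_zero.1 this).resolve_left (pow_ne_zero 2 hy)))
  refine ⟨hc, h4, fun m hm => ?_⟩
  have := card_centralizer_split h4 (l := m) hm
  rw [hc, Tr.card_T] at this
  omega

/-- A non-central element of the Borel subgroup meets no conjugate of the torus. -/
theorem NSTorus.conj_notMem {a : Fˣ} {x : F} (h : ¬ ((a = 1 ∨ a = -1) ∧ x = 0)) (k : SL(2, F)) :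
    k⁻¹ * SL2Borel.mk a x * k ∉ Tr.T := by
  intro hk
  have key : ∀ z : SL(2, F), z = 1 ∨ z = -1 → k⁻¹ * SL2Borel.mk a x * k ≠ z := by
    intro z hz e
    have hzc : z ∈ Subgroup.center SL(2, F) := (SL2Trace.mem_center_iff_eq z).2 hz
    have : SL2Borel.mk a x = z := by
      calc SL2Borel.mk a x = k * (k⁻¹ * SL2Borel.mk a x * k) * k⁻¹ := by group
        _ = z := by rw [e, Subgroup.mem_center_iff.1 hzc k, mul_inv_cancel_right]
    apply h
    have hm : ∀ e : Fˣ, SL2Borel.mk a x = SL2Borel.mk e 0 → a = e ∧ x = 0 := fun e he =>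
      ⟨Units.ext (congrArg (fun g : SL(2, F) => g 0 0) he), congrArg (fun g : SL(2, F) => g 0 1) he⟩
    rcases hz with rfl | rfl
    · exact ⟨Or.inl (hm 1 (this.trans mk_one_zero.symm)).1, (hm 1 (this.trans mk_one_zero.symm)).2⟩
    · exact ⟨Or.inr (hm (-1) (this.trans mk_neg_one_zero.symm)).1,
        (hm (-1) (this.trans mk_neg_one_zero.symm)).2⟩
  obtain ⟨-, -, hno⟩ := Tr.regular hk (key 1 (Or.inl rfl)) (key (-1) (Or.inr rfl))
  apply hno (-(a : F))
  have e : tr (k⁻¹ * SL2Borel.mk a x * k) = tr (SL2Borel.mk a x) := by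
    simp only [tr, Matrix.SpecialLinearGroup.coe_mul]
    rw [Matrix.trace_mul_cycle, ← Matrix.SpecialLinearGroup.coe_mul, mul_inv_cancel,
      Matrix.SpecialLinearGroup.coe_one, one_mul]
  rw [e]
  exact root_of_mem a x

/-- The function induced from the torus. -/
noncomputable def I (θ : Tr.T →* ℂˣ) : SL(2, F) → ℂ := Cfsg.indFun Tr.T fun t => (θ t : ℂ)

theorem I_borel (θ : Tr.T →* ℂˣ) {a : Fˣ} {x : F} (h : ¬ ((a = 1 ∨ a = -1) ∧ x = 0)) :
    I Tr θ (mk a x) = 0 :=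
  indFun_eq_zero_of_forall _ _ _ (Tr.conj_notMem h)

theorem card_SL2 : Nat.card SL(2, F) = Fintype.card F * (Fintype.card F ^ 2 - 1) :=
  CfsgLib.Linear.card_SL_two

theorem I_central (θ : Tr.T →* ℂˣ) (t : Tr.T) (ht : (t : SL(2, F)) ∈ Subgroup.center SL(2, F)) :
    I Tr θ t = ((Fintype.card F * (Fintype.card F - 1) : ℕ) : ℂ) * (θ t : ℂ) := by
  have e : ∀ x : SL(2, F), x⁻¹ * (t : SL(2, F)) * x = t := fun x => by
    rw [mul_assoc, ← Subgroup.mem_center_iff.1 ht x, inv_mul_cancel_left]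
  rw [I, Cfsg.indFun]
  simp only [e, extendByZero_coe, Finset.sum_const, Finset.card_univ, nsmul_eq_mul]
  rw [← Nat.card_eq_fintype_card, card_SL2, Tr.card_T, ← mul_assoc]
  congr 1
  have h1 : ((Fintype.card F + 1 : ℕ) : ℂ) ≠ 0 := Nat.cast_ne_zero.2 (by omega)
  rw [inv_mul_eq_iff_eq_mul₀ h1, ← Nat.cast_mul]
  congr 1
  rw [show Fintype.card F ^ 2 - 1 = (Fintype.card F + 1) * (Fintype.card F - 1) by
    rw [← Nat.sq_sub_sq, one_pow]]
  ring

theorem I_torus (θ : Tr.T →* ℂˣ) (t : Tr.T) (h1 : (t : SL(2, F)) ≠ 1) (h2 : (t : SL(2, F)) ≠ -1) :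
    I Tr θ t = (θ t : ℂ) + (θ t⁻¹ : ℂ) := by
  classical
  obtain ⟨hc, h4, -⟩ := Tr.regular t.2 h1 h2
  obtain ⟨w, hw⟩ := exists_inverting h4
  set M : SL(2, F) := (t : SL(2, F)) with hM
  have hne : M⁻¹ ≠ M := inv_ne_self h4
  have hcases : ∀ x : SL(2, F), Cfsg.extendByZero Tr.T (fun s => (θ s : ℂ)) (x⁻¹ * M * x) =
      (if x⁻¹ * M * x = M then (θ t : ℂ) else 0) + (if x⁻¹ * M * x = M⁻¹ then (θ t⁻¹ : ℂ) else 0) := by
    intro x
    by_cases hx : x⁻¹ * M * x ∈ Tr.T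
    · have htr : tr (x⁻¹ * M * x) = tr M := by
        simp only [tr, Matrix.SpecialLinearGroup.coe_mul]
        rw [Matrix.trace_mul_cycle, ← Matrix.SpecialLinearGroup.coe_mul, mul_inv_cancel,
          Matrix.SpecialLinearGroup.coe_one, one_mul]
      rw [extendByZero_of_mem _ _ hx]
      rcases eq_or_eq_inv_of_tr_eq h4 (hc.symm ▸ hx) htr with e | e
      · rw [if_pos e, if_neg (fun e' => hne (e'.symm.trans e)), add_zero,
          show (⟨_, hx⟩ : Tr.T) = t from Subtype.ext e]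
      · rw [if_neg (fun e' => hne (e.symm.trans e')), if_pos e, zero_add,
          show (⟨_, hx⟩ : Tr.T) = t⁻¹ from Subtype.ext e]
    · rw [extendByZero_of_not_mem _ _ hx, if_neg (fun e => hx (by rw [e]; exact t.2)),
        if_neg (fun e => hx (by rw [e]; exact Tr.T.inv_mem t.2)), add_zero]
  have hfix : (Finset.univ.filter fun x : SL(2, F) => x⁻¹ * M * x = M).card = Nat.card Tr.T := by
    rw [← Nat.card_eq_finsetCard]
    refine Nat.card_congr (Equiv.subtypeEquivRight fun x => ?_)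
    rw [Finset.mem_filter, ← hc, Subgroup.mem_centralizer_singleton_iff, mul_assoc, inv_mul_eq_iff_eq_mul]
    exact ⟨fun h => h.2.symm, fun h => ⟨Finset.mem_univ _, h.symm⟩⟩
  have hinv : (Finset.univ.filter fun x : SL(2, F) => x⁻¹ * M * x = M⁻¹).card = Nat.card Tr.T := by
    rw [← hfix]
    refine Finset.card_bij' (fun x _ => w * x) (fun x _ => w⁻¹ * x) ?_ ?_ (by simp) (by simp)
    · intro x hx
      simp only [Finset.mem_filter, Finset.mem_univ, true_and] at hx ⊢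
      have hw' : w⁻¹ * M * w = M⁻¹ := by
        calc w⁻¹ * M * w = (w⁻¹ * M⁻¹ * w)⁻¹ := by group
          _ = (w⁻¹ * (w * M * w⁻¹) * w)⁻¹ := by rw [hw]
          _ = M⁻¹ := by group
      calc (w * x)⁻¹ * M * (w * x) = x⁻¹ * (w⁻¹ * M * w) * x := by group
        _ = (x⁻¹ * M * x)⁻¹ := by rw [hw']; group
        _ = M := by rw [hx, inv_inv]
    · intro x hx
      simp only [Finset.mem_filter, Finset.mem_univ, true_and] at hx ⊢
      calc (w⁻¹ * x)⁻¹ * M * (w⁻¹ * x) = x⁻¹ * (w * M * w⁻¹) * x := by group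
        _ = (x⁻¹ * M * x)⁻¹ := by rw [hw]; group
        _ = M⁻¹ := by rw [hx]
  rw [I, Cfsg.indFun]
  simp only [hcases, Finset.sum_add_distrib, ← Finset.sum_filter, Finset.sum_const, nsmul_eq_mul, hfix, hinv]
  rw [← mul_add, ← mul_assoc, inv_mul_cancel₀ (Nat.cast_ne_zero.2 Nat.card_pos.ne'), one_mul]

theorem exists_beta (h2 : (2 : F) ≠ 0) (θ : Tr.T →* ℂˣ) :
    ∃ β : Fˣ →* ℂˣ, (β (-1) : ℂ) = (θ Tr.negT : ℂ) := by
  have hs : (θ Tr.negT : ℂ) ^ 2 = 1 := by
    rw [sq, ← Units.val_mul, ← map_mul, Tr.negT_sq, map_one, Units.val_one]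
  rcases sq_eq_one_iff.1 hs with h | h
  · exact ⟨1, by rw [h]; rfl⟩
  · have hne : (-1 : Fˣ) ≠ 1 := fun e => h2 (by
      have := congrArg Units.val e
      rw [Units.val_neg, Units.val_one] at this
      linear_combination -this)
    obtain ⟨β, hβ⟩ := CommGroup.exists_apply_ne_one_of_hasEnoughRootsOfUnity Fˣ ℂ hne
    refine ⟨β, ?_⟩
    have : (β (-1) : ℂ) ^ 2 = 1 := by
      rw [← Units.val_pow_eq_pow_val, ← map_pow, neg_one_sq, map_one, Units.val_one]
    rw [h]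
    exact (sq_eq_one_iff.1 this).resolve_left fun e => hβ (Units.ext e)

/-- A character of the multiplicative group with the same value at `-1`. -/
noncomputable def beta (h2 : (2 : F) ≠ 0) (θ : Tr.T →* ℂˣ) : Fˣ →* ℂˣ := (exists_beta Tr h2 θ).choose

theorem beta_neg_one (h2 : (2 : F) ≠ 0) (θ : Tr.T →* ℂˣ) :
    (beta Tr h2 θ (-1) : ℂ) = (θ Tr.negT : ℂ) := (exists_beta Tr h2 θ).choose_spec

/-- The cuspidal virtual character. -/
noncomputable def D (h2 : (2 : F) ≠ 0) (θ : Tr.T →* ℂˣ) : SL(2, F) → ℂ :=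
  fun g => (R (1 : Fˣ →* ℂˣ) g - 2) * R (beta Tr h2 θ) g - I Tr θ g

variable (h2 : (2 : F) ≠ 0)

theorem isClassFunction_D (θ : Tr.T →* ℂˣ) : Cfsg.IsClassFunction SL(2, F) (D Tr h2 θ) := fun g h => by
  simp only [D, isClassFunction_R _ g h, I, isClassFunction_indFun _ _ g h]

theorem isGen_D (θ : Tr.T →* ℂˣ) : Cfsg.IsGeneralizedCharacter SL(2, F) (D Tr h2 θ) := by
  have e : D Tr h2 θ = (R (1 : Fˣ →* ℂˣ) - ((2 : ℤ) : ℂ) • fun _ => (1 : ℂ)) * R (beta Tr h2 θ) - I Tr θ := by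
    funext g; simp [D]
  rw [e]
  exact isGen_sub (isGen_mul (isGen_sub (isGen_of_isCharacter (isCharacter_R _)) (isGen_zsmul isGen_one 2))
    (isGen_of_isCharacter (isCharacter_R _)))
    (isGen_indFun _ (isGen_of_isIrr (isIrr_linChar θ)))

theorem eT (θ : Tr.T →* ℂˣ) {e : Fˣ} (he : e = 1 ∨ e = -1) :
    ∃ t : Tr.T, (t : SL(2, F)) = mk e 0 ∧ (θ t : ℂ) = (beta Tr h2 θ e : ℂ) := by
  rcases he with rfl | rfl
  · exact ⟨1, mk_one_zero.symm, by simp⟩
  · exact ⟨Tr.negT, mk_neg_one_zero.symm, (beta_neg_one Tr h2 θ).symm⟩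

theorem D_central (θ : Tr.T →* ℂˣ) {e : Fˣ} (he : e = 1 ∨ e = -1) :
    D Tr h2 θ (mk e 0) = ((Fintype.card F : ℂ) - 1) * (beta Tr h2 θ e : ℂ) := by
  obtain ⟨t, ht, hθ⟩ := eT Tr h2 θ he
  have hI := I_central Tr θ t (ht ▸ mk_central_mem he)
  rw [ht, hθ] at hI
  rw [D, R_central _ he, R_central _ he, hI, Nat.cast_mul, Nat.cast_sub Fintype.card_pos, Nat.cast_one]
  simp only [MonoidHom.one_apply, Units.val_one]
  ring

theorem D_one (θ : Tr.T →* ℂˣ) : D Tr h2 θ 1 = (Fintype.card F : ℂ) - 1 := by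
  rw [← mk_one_zero, D_central Tr h2 θ (Or.inl rfl), map_one, Units.val_one, mul_one]

theorem D_regular (θ : Tr.T →* ℂˣ) {a : Fˣ} (ha : a ^ 2 ≠ 1) (x : F) : D Tr h2 θ (mk a x) = 0 := by
  rw [D, R_mk_regular _ ha, I_borel Tr θ (fun h => sq_ne_one_iff.1 ha h.1)]
  simp only [MonoidHom.one_apply, Units.val_one]
  ring

theorem D_unipotent (θ : Tr.T →* ℂˣ) {e : Fˣ} (he : e = 1 ∨ e = -1) {x : F} (hx : x ≠ 0) :
    D Tr h2 θ (mk e x) = -(beta Tr h2 θ e : ℂ) := by
  rw [D, R_unipotent _ he hx, R_unipotent _ he hx, I_borel Tr θ (fun h => hx h.2)]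
  simp only [MonoidHom.one_apply, Units.val_one]
  ring

theorem D_torus (θ : Tr.T →* ℂˣ) (t : Tr.T) (h1 : (t : SL(2, F)) ≠ 1) (h1' : (t : SL(2, F)) ≠ -1) :
    D Tr h2 θ t = -((θ t : ℂ) + (θ t⁻¹ : ℂ)) := by
  rw [D, R_nonsplit _ (Tr.regular t.2 h1 h1').2.2, R_nonsplit _ (Tr.regular t.2 h1 h1').2.2,
    I_torus Tr θ t h1 h1']
  ring

theorem conj_R_trivial (g : SL(2, F)) : conj (R (1 : Fˣ →* ℂˣ) g) = R 1 g := by
  simp only [R, Cfsg.indFun, map_mul, map_sum, map_inv₀, map_natCast]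
  refine congrArg _ (Finset.sum_congr rfl fun x _ => ?_)
  by_cases hx : x⁻¹ * g * x ∈ borel F
  · obtain ⟨⟨a, y⟩, e⟩ := (borelEquiv F).surjective ⟨_, hx⟩
    rw [extendByZero_of_mem _ _ hx, ← e]
    show conj (chi _ (⟨mk a y, _⟩ : borel F)) = chi _ (⟨mk a y, _⟩ : borel F)
    rw [chi_mk]; simp
  · rw [extendByZero_of_not_mem _ _ hx, map_zero]

include h2 in
open scoped Classical in
theorem classInner_R_R (β γ : Fˣ →* ℂˣ) :
    Cfsg.classInner (R β) (R γ) = (if β = γ then 1 else 0) + (if β * γ = 1 then 1 else 0) := by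
  rw [classInner_R_of_shape h2 β (isClassFunction_R γ) (fun a => (γ a : ℂ) + (γ a⁻¹ : ℂ))
    (fun a ha x => R_mk_regular γ ha x) 0 γ (fun e he => ?_)]
  · rw [map_zero, zero_mul, add_zero]
    have e : ∀ a, (β a : ℂ) * conj ((γ a : ℂ) + (γ a⁻¹ : ℂ)) =
        (β a : ℂ) * conj (γ a : ℂ) + (β a : ℂ) * (γ a : ℂ) := fun a => by
      rw [map_add, conj_char γ a⁻¹, inv_inv]; ring
    rw [Finset.sum_congr rfl fun a _ => e a, Finset.sum_add_distrib, sum_char_mul_conj, sum_char_mul,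
      Fintype.card_units]
    have hne : ((Fintype.card F - 1 : ℕ) : ℂ) ≠ 0 :=
      Nat.cast_ne_zero.2 (by have := Fintype.one_lt_card (α := F); omega)
    split_ifs <;> field_simp <;> ring
  · rw [sum_central _ _ fun x hx => R_unipotent γ he hx, R_central γ he]
    have h : e⁻¹ = e := by rcases he with rfl | rfl <;> simp
    simp only [h]
    ring

include h2 in
open scoped Classical in
theorem classInner_R_const (β : Fˣ →* ℂˣ) :
    Cfsg.classInner (R β) (fun _ => 1) = if β = 1 then 1 else 0 := by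
  rw [classInner_R_of_shape h2 β (fun _ _ => rfl) (fun _ => 1) (fun _ _ _ => rfl) 0 1 (fun e _ => by simp)]
  have hne : ((Fintype.card F - 1 : ℕ) : ℂ) ≠ 0 :=
    Nat.cast_ne_zero.2 (by have := Fintype.one_lt_card (α := F); omega)
  simp only [map_one, mul_one, map_zero, zero_mul, add_zero, sum_char, Fintype.card_units]
  split_ifs <;> field_simp <;> simp

theorem classInner_R_D (β : Fˣ →* ℂˣ) (θ : Tr.T →* ℂˣ) :
    Cfsg.classInner (R β) (D Tr h2 θ) = 0 := by
  rw [classInner_R_of_shape h2 β (isClassFunction_D Tr h2 θ) (fun _ => 0)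
    (fun a ha x => D_regular Tr h2 θ ha x) 0 1 (fun e he => ?_)]
  · simp
  · rw [sum_central _ _ fun x hx => D_unipotent Tr h2 θ he hx, D_central Tr h2 θ he]
    ring

theorem classInner_I (θ : Tr.T →* ℂˣ) {f : SL(2, F) → ℂ} (hf : Cfsg.IsClassFunction SL(2, F) f) [Fintype Tr.T] :
    Cfsg.classInner (I Tr θ) f = ((Fintype.card F + 1 : ℕ) : ℂ)⁻¹ * ∑ t : Tr.T, (θ t : ℂ) * conj (f t) := by
  rw [I, classInner_indFun _ _ hf, Cfsg.classInner, Tr.card_T]

theorem one_ne_negT (h2 : (2 : F) ≠ 0) : (1 : Tr.T) ≠ Tr.negT := fun e => h2 (by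
  have := congrArg (fun g : Tr.T => (g : SL(2, F)).1 0 0) e
  simp [NSTorus.negT] at this
  linear_combination this)

theorem sum_torus [Fintype Tr.T] (f S : Tr.T → ℂ) (h2 : (2 : F) ≠ 0)
    (hS : ∀ t : Tr.T, (t : SL(2, F)) ≠ 1 → (t : SL(2, F)) ≠ -1 → f t = S t) :
    ∑ t, f t = ∑ t, S t + ((f 1 - S 1) + (f Tr.negT - S Tr.negT)) := by
  classical
  rw [← sub_eq_iff_eq_add', ← Finset.sum_sub_distrib,
    ← Finset.sum_subset (Finset.subset_univ ({1, Tr.negT} : Finset Tr.T)) fun t _ ht => ?_]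
  · rw [Finset.sum_pair (one_ne_negT Tr h2)]
  · simp only [Finset.mem_insert, Finset.mem_singleton, not_or] at ht
    rw [hS t (fun e => ht.1 (Subtype.ext e)) (fun e => ht.2 (Subtype.ext e)), sub_self]

open scoped Classical in
theorem classInner_D_const (θ : Tr.T →* ℂˣ) :
    Cfsg.classInner (D Tr h2 θ) (fun _ => 1) = -(if θ = 1 then 1 else 0) := by
  haveI : Fintype Tr.T := Fintype.ofFinite _
  have e : D Tr h2 θ = (fun g => R (beta Tr h2 θ) g * (R (1 : Fˣ →* ℂˣ) g - 2)) - I Tr θ := by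
    funext g; simp [D, mul_comm]
  rw [e, classInner_sub_left]
  have h1 : Cfsg.classInner (fun g => R (beta Tr h2 θ) g * (R (1 : Fˣ →* ℂˣ) g - 2)) (fun _ => 1) =
      Cfsg.classInner (R (beta Tr h2 θ)) (fun g => R (1 : Fˣ →* ℂˣ) g - 2) := by
    simp only [Cfsg.classInner, map_one, mul_one, map_sub, conj_R_trivial, map_ofNat]
  rw [h1, classInner_R_of_shape h2 _ (fun g h => by simp only [isClassFunction_R _ g h]) (fun _ => 0)
    (fun a ha x => by simp [R_mk_regular _ ha]; norm_num) 0 1 (fun e he => ?_),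
    classInner_I Tr θ (fun _ _ => rfl)]
  · have hne : ((Fintype.card F + 1 : ℕ) : ℂ) ≠ 0 := Nat.cast_ne_zero.2 (by omega)
    simp only [map_one, mul_one, map_zero, mul_zero, zero_mul, add_zero, Finset.sum_const_zero, sum_char,
      zero_sub, ← Nat.card_eq_fintype_card (α := Tr.T), Tr.card_T]
    split_ifs <;> field_simp <;> simp
  · rw [sum_central _ (-1) fun x hx => by simp [R_unipotent _ he hx]; norm_num, R_central _ he]
    simp; ring

open scoped Classical in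
theorem classInner_D_D (θ η : Tr.T →* ℂˣ) :
    Cfsg.classInner (D Tr h2 θ) (D Tr h2 η) = (if θ = η then 1 else 0) + (if θ * η = 1 then 1 else 0) := by
  haveI : Fintype Tr.T := Fintype.ofFinite _
  have e : D Tr h2 θ = (fun g => R (beta Tr h2 θ) g * (R (1 : Fˣ →* ℂˣ) g - 2)) - I Tr θ := by
    funext g; simp [D, mul_comm]
  rw [e, classInner_sub_left]
  have h1 : Cfsg.classInner (fun g => R (beta Tr h2 θ) g * (R (1 : Fˣ →* ℂˣ) g - 2)) (D Tr h2 η) =
      Cfsg.classInner (R (beta Tr h2 θ)) (fun g => (R (1 : Fˣ →* ℂˣ) g - 2) * D Tr h2 η g) := by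
    simp only [Cfsg.classInner, map_mul, map_sub, conj_R_trivial, map_ofNat, mul_assoc]
  have hval : ∀ t : Tr.T, (t : SL(2, F)) ≠ 1 → (t : SL(2, F)) ≠ -1 →
      (θ t : ℂ) * conj (D Tr h2 η t) = -((θ t : ℂ) * conj (η t : ℂ) + (θ t : ℂ) * (η t : ℂ)) := by
    intro t ha hb
    rw [D_torus Tr h2 η t ha hb, map_neg, map_add, conj_char η t⁻¹, inv_inv]
    ring
  have d1 : D Tr h2 η ((1 : Tr.T) : SL(2, F)) = (Fintype.card F : ℂ) - 1 := D_one Tr h2 η
  have dn : D Tr h2 η (Tr.negT : SL(2, F)) = ((Fintype.card F : ℂ) - 1) * (η Tr.negT : ℂ) := by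
    show D Tr h2 η (-1) = _
    rw [← mk_neg_one_zero, D_central Tr h2 η (Or.inr rfl), beta_neg_one]
  rw [h1, classInner_R_of_shape h2 _ (fun g h => by
      simp only [isClassFunction_R _ g h, isClassFunction_D Tr h2 η g h]) (fun _ => 0)
    (fun a ha x => by simp [D_regular Tr h2 η ha]) ((Fintype.card F : ℂ) - 1) (beta Tr h2 η) (fun e he => ?_),
    classInner_I Tr θ (isClassFunction_D Tr h2 η), sum_torus Tr _ _ h2 hval, d1, dn,
    Finset.sum_neg_distrib, Finset.sum_add_distrib, sum_char_mul_conj, sum_char_mul,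
    beta_neg_one, beta_neg_one, ← Nat.card_eq_fintype_card (α := Tr.T), Tr.card_T]
  · have hn : conj (η Tr.negT : ℂ) = (η Tr.negT : ℂ) := by
      rw [conj_char, inv_eq_of_mul_eq_one_right Tr.negT_sq]
    have hq1 : (Fintype.card F : ℂ) + 1 ≠ 0 := Nat.cast_add_one_ne_zero _
    have hq2 : (Fintype.card F : ℂ) - 1 ≠ 0 :=
      sub_ne_zero.2 (Nat.cast_ne_one.2 (Fintype.one_lt_card (α := F)).ne')
    simp only [map_one, Units.val_one, map_zero, mul_zero, Finset.sum_const_zero, zero_add, map_sub, map_mul,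
      map_natCast, hn, one_mul]
    rw [Nat.cast_sub Fintype.card_pos, Nat.cast_add, Nat.cast_one]
    split_ifs <;> field_simp <;> ring
  · rw [sum_central _ (beta Tr h2 η e : ℂ) fun x hx => by
      rw [R_unipotent _ he hx, D_unipotent Tr h2 η he hx]; simp; ring,
      R_central _ he, D_central Tr h2 η he]
    simp; ring

end CfsgLib.SL2CharTable
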