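import Cfsg.Agent.SL2CharTable.Table

/-!
# Values of the exceptional characters of `SL₂(q)`
-/

set_option autoImplicit false
set_option linter.unusedSectionVars false

namespace CfsgLib.SL2CharTable

open Matrix CfsgLib.SL2Borel CfsgLib.SL2Tori CfsgLib.Characters
open scoped MatrixGroups ComplexConjugate

variable {F : Type*} [Field F] [Fintype F] [DecidableEq F]

theorem exists_table (hodd : Odd (Fintype.card F)) :
    ∃ (Tr : NSTorus F) (h2 : (2 : F) ≠ 0), Nonempty (Halves Tr h2) := by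
  obtain ⟨g, -, hg⟩ := exists_nonsplit (F := F)
  exact ⟨⟨g, hg⟩, two_ne_zero_of_odd hodd, nonempty_halves _ _⟩

theorem classFun_congr {G : Type*} [Group G] {f : G → ℂ} (hf : Cfsg.IsClassFunction G f) {a b : G}
    (h : IsConj a b) : f b = f a := by
  obtain ⟨c, rfl⟩ := isConj_iff.1 h
  exact hf a c

/-- Every element meets the torus or the Borel subgroup up to conjugacy. -/
theorem element_cases (Tr : NSTorus F) (h2 : (2 : F) ≠ 0) (g : SL(2, F)) :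
    (∃ (a : Fˣ) (x : F), IsConj (mk a x) g) ∨
      ∃ t : Tr.T, (t : SL(2, F)) ≠ 1 ∧ (t : SL(2, F)) ≠ -1 ∧ IsConj (t : SL(2, F)) g := by
  by_cases h : ∃ m : F, m ^ 2 + tr g * m + 1 = 0
  · obtain ⟨m, hm⟩ := h
    exact Or.inl (exists_mk g hm)
  · simp only [not_exists] at h
    obtain ⟨k, hk⟩ := exists_conj_mem h2 Tr.sq_ne_four Tr.noRoot h
    have he : tr (k * g * k⁻¹) = tr g := by
      simp only [tr, Matrix.SpecialLinearGroup.coe_mul]
      rw [Matrix.trace_mul_cycle, ← Matrix.SpecialLinearGroup.coe_mul, inv_mul_cancel,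
        Matrix.SpecialLinearGroup.coe_one, one_mul]
    refine Or.inr ⟨⟨k * g * k⁻¹, hk⟩, ?_, ?_, (isConj_iff.2 ⟨k, rfl⟩).symm⟩
    · intro e
      apply h (-1)
      rw [← he, show k * g * k⁻¹ = 1 from e, ← mk_one_zero]
      simpa using root_of_mem (1 : Fˣ) (0 : F)
    · intro e
      apply h 1
      rw [← he, show k * g * k⁻¹ = -1 from e, ← mk_neg_one_zero]
      simpa using root_of_mem (-1 : Fˣ) (0 : F)

variable {Tr : NSTorus F} {h2 : (2 : F) ≠ 0}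

/-- A class function orthogonal to all `R` and `D` vanishing at the centre. -/
structure Balanced (Tr : NSTorus F) (h2 : (2 : F) ≠ 0) (Δ : SL(2, F) → ℂ) : Prop where
  cls : Cfsg.IsClassFunction SL(2, F) Δ
  orthR : ∀ β : Fˣ →* ℂˣ, Cfsg.classInner (R β) Δ = 0
  orthD : ∀ η : Tr.T →* ℂˣ, Cfsg.classInner (D Tr h2 η) Δ = 0
  one : Δ 1 = 0
  neg_one : Δ (-1) = 0

namespace Balanced

variable {Δ : SL(2, F) → ℂ} (B : Balanced Tr h2 Δ)
include B

theorem sum_eq_zero (a : Fˣ) : ∑ x : F, Δ (SL2Borel.mk a x) = 0 := by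
  have key : ∀ β : Fˣ →* ℂˣ, ∑ a : Fˣ, (β a : ℂ) * conj (∑ x : F, Δ (SL2Borel.mk a x)) = 0 := by
    intro β
    have h := B.orthR β
    rw [classInner_R β B.cls, mul_eq_zero] at h
    have hne : ((((Fintype.card F - 1 : ℕ) : ℂ)) * Fintype.card F)⁻¹ ≠ 0 :=
      inv_ne_zero (mul_ne_zero (Nat.cast_ne_zero.2 (by have := Fintype.one_lt_card (α := F); omega))
        (Nat.cast_ne_zero.2 Fintype.card_ne_zero))
    rw [← h.resolve_left hne]
    exact Finset.sum_congr rfl fun a _ => by rw [map_sum, Finset.mul_sum]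
  exact (map_eq_zero _).1 (eq_zero_of_orthogonal (fun a : Fˣ => conj (∑ x : F, Δ (SL2Borel.mk a x))) key a)

theorem regular {a : Fˣ} (ha : a ^ 2 ≠ 1) (x : F) : Δ (SL2Borel.mk a x) = 0 := by
  have h := B.sum_eq_zero a
  rw [Finset.sum_congr rfl fun y _ => classFun_congr B.cls (isConj_mk_zero ha y), Finset.sum_const,
    nsmul_eq_mul, mul_eq_zero] at h
  rw [classFun_congr B.cls (isConj_mk_zero ha x)]
  exact h.resolve_left (Nat.cast_ne_zero.2 (Finset.card_ne_zero.2 Finset.univ_nonempty))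

theorem central {e : Fˣ} (he : e = 1 ∨ e = -1) : Δ (SL2Borel.mk e 0) = 0 := by
  rcases he with rfl | rfl
  · rw [mk_one_zero, B.one]
  · rw [mk_neg_one_zero, B.neg_one]

theorem torus (t : Tr.T) : Δ t = 0 := by
  classical
  haveI : Fintype Tr.T := Fintype.ofFinite _
  have key : ∀ η : Tr.T →* ℂˣ, Cfsg.classInner (I Tr η) Δ = 0 := by
    intro η
    have e : I Tr η = (fun g => R (beta Tr h2 η) g * (R (1 : Fˣ →* ℂˣ) g - 2)) - D Tr h2 η := by
      funext g; simp [D, mul_comm]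
    have h1 : Cfsg.classInner (fun g => R (beta Tr h2 η) g * (R (1 : Fˣ →* ℂˣ) g - 2)) Δ =
        Cfsg.classInner (R (beta Tr h2 η)) (fun g => (R (1 : Fˣ →* ℂˣ) g - 2) * Δ g) := by
      simp only [Cfsg.classInner, map_mul, map_sub, conj_R_trivial, map_ofNat, mul_assoc]
    rw [e, classInner_sub_left, B.orthD, sub_zero, h1,
      classInner_R_of_shape h2 _ (fun g h => by simp only [isClassFunction_R _ g h, B.cls g h]) (fun _ => 0)
        (fun a ha x => by simp [B.regular ha x]) 0 1 (fun e he => ?_)]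
    · simp
    · have hs := B.sum_eq_zero e
      rw [← Finset.add_sum_erase _ _ (Finset.mem_univ (0 : F)), B.central he, zero_add] at hs
      rw [← Finset.add_sum_erase _ _ (Finset.mem_univ (0 : F)), B.central he, mul_zero, zero_add,
        Finset.sum_congr rfl fun x hx => by rw [R_unipotent _ he (Finset.ne_of_mem_erase hx)],
        ← Finset.mul_sum, hs]
      simp
  have hs : ∀ η : Tr.T →* ℂˣ, ∑ t : Tr.T, (η t : ℂ) * conj (Δ t) = 0 := by
    intro η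
    have := key η
    rw [classInner_I Tr η B.cls, mul_eq_zero] at this
    exact this.resolve_left (inv_ne_zero (Nat.cast_ne_zero.2 (by omega)))
  simpa using eq_zero_of_orthogonal (fun t : Tr.T => conj (Δ t)) hs t

/-- On non-trivial unipotent elements the value follows the square class. -/
theorem unipotent {e : Fˣ} (he : e = 1 ∨ e = -1) {x : F} (hx : x ≠ 0) :
    Δ (SL2Borel.mk e x) = (quadraticChar F x : ℂ) * Δ (SL2Borel.mk e 1) := by
  have hchar : ringChar F ≠ 2 := fun h => h2 (by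
    have := ringChar.Nat.cast_ringChar (R := F)
    rw [h] at this; exact_mod_cast this)
  obtain ⟨ε, hε⟩ := FiniteField.exists_nonsquare hchar
  have hε0 : ε ≠ 0 := fun h => hε (h ▸ IsSquare.zero)
  set P := Δ (SL2Borel.mk e 1) with hP
  set Q := Δ (SL2Borel.mk e ε) with hQ
  have sc : ∀ (c : F) (z : F), c ≠ 0 → Δ (SL2Borel.mk e (c ^ 2 * z)) = Δ (SL2Borel.mk e z) :=
    fun c z hc => classFun_congr B.cls (isConj_mk_sq (Units.mk0 c hc) e z)
  have hval : ∀ y : F, y ≠ 0 → Δ (SL2Borel.mk e y) = (P + Q) / 2 + (quadraticChar F y : ℂ) * ((P - Q) / 2) := by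
    intro y hy
    by_cases hs : IsSquare y
    · rw [(quadraticChar_one_iff_isSquare hy).2 hs]
      obtain ⟨r, rfl⟩ := hs
      have := sc r 1 (left_ne_zero_of_mul hy)
      rw [mul_one, sq] at this
      rw [this, ← hP]; push_cast; ring
    · rw [quadraticChar_neg_one_iff_not_isSquare.2 hs]
      have hsq : IsSquare (y / ε) := by
        rw [← quadraticChar_one_iff_isSquare (div_ne_zero hy hε0)]
        have e2 : quadraticChar F (y / ε) * quadraticChar F ε = quadraticChar F y := by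
          rw [← map_mul, div_mul_cancel₀ _ hε0]
        rw [quadraticChar_neg_one_iff_not_isSquare.2 hε, quadraticChar_neg_one_iff_not_isSquare.2 hs] at e2
        linear_combination -e2
      obtain ⟨r, hr⟩ := hsq
      have hr0 : r ≠ 0 := fun h => by rw [h, mul_zero, div_eq_zero_iff] at hr; rcases hr with h' | h' <;> contradiction
      have e' : y = r ^ 2 * ε := by rw [sq, ← hr, div_mul_cancel₀ _ hε0]
      rw [e', sc r ε hr0, ← hQ]; push_cast; ring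
  have hsum := B.sum_eq_zero e
  have hval' : ∀ y : F, Δ (SL2Borel.mk e y) =
      (P + Q) / 2 + (quadraticChar F y : ℂ) * ((P - Q) / 2) - (if y = 0 then (P + Q) / 2 else 0) := by
    intro y
    by_cases hy : y = 0
    · subst hy; rw [if_pos rfl, B.central he]; simp
    · rw [if_neg hy, sub_zero, hval y hy]
  have hq0 : ∑ y : F, (quadraticChar F y : ℂ) = 0 := by
    have := quadraticChar_sum_zero (F := F) hchar
    exact_mod_cast this
  rw [Finset.sum_congr rfl fun y _ => hval' y, Finset.sum_sub_distrib, Finset.sum_add_distrib,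
    ← Finset.sum_mul, hq0, zero_mul, add_zero, Finset.sum_ite_eq', if_pos (Finset.mem_univ _),
    Finset.sum_const, Finset.card_univ, nsmul_eq_mul] at hsum
  have hPQ : Q = -P := by
    have hne : (Fintype.card F : ℂ) - 1 ≠ 0 :=
      sub_ne_zero.2 (Nat.cast_ne_one.2 (Fintype.one_lt_card (α := F)).ne')
    have : ((Fintype.card F : ℂ) - 1) * ((P + Q) / 2) = 0 := by linear_combination hsum
    linear_combination 2 * (mul_eq_zero.1 this).resolve_left hne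
  rw [hval x hx, hPQ]; ring

theorem sum_nonzero {e : Fˣ} (he : e = 1 ∨ e = -1) :
    ∑ x ∈ Finset.univ.erase (0 : F), Δ (SL2Borel.mk e x) = 0 := by
  have hs := B.sum_eq_zero e
  rwa [← Finset.add_sum_erase _ _ (Finset.mem_univ (0 : F)), B.central he, zero_add] at hs

/-- The product with the permutation character on the line. -/
theorem R_trivial_mul (g : SL(2, F)) : R (1 : Fˣ →* ℂˣ) g * Δ g = Δ g := by
  rcases element_cases Tr h2 g with ⟨a, x, hg⟩ | ⟨t, h1, h1', hg⟩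
  · rw [classFun_congr (isClassFunction_R _) hg, classFun_congr B.cls hg]
    by_cases ha : a ^ 2 = 1
    · have he : a = 1 ∨ a = -1 := by_contra fun h => sq_ne_one_iff.2 h ha
      by_cases hx : x = 0
      · subst hx; rw [B.central he, mul_zero]
      · rw [R_unipotent _ he hx]; simp
    · rw [B.regular ha x, mul_zero]
  · rw [classFun_congr B.cls hg, B.torus t, mul_zero]

end Balanced

namespace Halves

variable (H : Halves Tr h2)

theorem neg_one_value {χ ψ : SL(2, F) → ℂ} (hχ : Cfsg.IsIrrCharacter SL(2, F) χ)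
    (hψ : Cfsg.IsIrrCharacter SL(2, F) ψ) (h1 : χ 1 = ψ 1) {e : ℂ} (he : e = 1 ∨ e = -1)
    (hs : χ (-1) + ψ (-1) = 2 * χ 1 * e) : χ (-1) = e * χ 1 ∧ ψ (-1) = e * ψ 1 := by
  obtain ⟨n, hn, hn'⟩ := exists_degree_pos hχ
  have hne : χ 1 ≠ 0 := by rw [hn']; exact Nat.cast_ne_zero.2 hn.ne'
  have hnc : (-1 : SL(2, F)) ∈ Subgroup.center SL(2, F) := (SL2Trace.mem_center_iff_eq _).2 (Or.inr rfl)
  have hsq : (-1 : SL(2, F)) * -1 = 1 := by simp
  rcases central_sign hχ hnc hsq with a | a <;> rcases central_sign hψ hnc hsq with b | b <;>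
    rcases he with rfl | rfl <;> rw [a, b, ← h1] at hs <;> rw [a, b, ← h1]
  all_goals first
    | (refine ⟨?_, ?_⟩ <;> linear_combination)
    | (refine absurd ?_ hne; linear_combination (1 / 2 : ℂ) * hs)
    | (refine absurd ?_ hne; linear_combination (-1 / 2 : ℂ) * hs)
    | (refine absurd ?_ hne; linear_combination (1 / 4 : ℂ) * hs)
    | (refine absurd ?_ hne; linear_combination (-1 / 4 : ℂ) * hs)

theorem α_neg_one : (H.α (-1) : ℂ) = 1 ∨ (H.α (-1) : ℂ) = -1 := by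
  by_cases h : IsSquare (((-1 : Fˣ)) : F)
  · exact Or.inl ((H.α_apply _).1 h)
  · exact Or.inr ((H.α_apply _).2 h)

theorem two_half (hodd : Fintype.card F % 2 = 1) :
    (2 : ℂ) * (((Fintype.card F + 1) / 2 : ℕ) : ℂ) = (Fintype.card F : ℂ) + 1 ∧
    (2 : ℂ) * (((Fintype.card F - 1) / 2 : ℕ) : ℂ) = (Fintype.card F : ℂ) - 1 := by
  obtain ⟨k, hk⟩ : ∃ k, Fintype.card F = 2 * k + 1 := ⟨Fintype.card F / 2, by omega⟩
  rw [hk, show (2 * k + 1 + 1) / 2 = k + 1 by omega, show (2 * k + 1 - 1) / 2 = k by omega]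
  push_cast; constructor <;> ring

theorem odd_card (h2 : (2 : F) ≠ 0) : Fintype.card F % 2 = 1 :=
  FiniteField.odd_card_of_char_ne_two fun e => h2 (by
    have := ringChar.Nat.cast_ringChar (R := F)
    rw [e] at this; exact_mod_cast this)

theorem χ_neg_one : H.χ₁ (-1) = (H.α (-1) : ℂ) * H.χ₁ 1 ∧ H.χ₂ (-1) = (H.α (-1) : ℂ) * H.χ₂ 1 := by
  refine neg_one_value H.χ₁_irr H.χ₂_irr (H.χ₁_one.trans H.χ₂_one.symm) H.α_neg_one ?_
  rw [← Pi.add_apply, ← H.R_eq, ← mk_neg_one_zero, R_central _ (Or.inr rfl), H.χ₁_one,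
    (two_half (odd_card h2)).1]

theorem ψ_neg_one : H.ψ₁ (-1) = (H.θ Tr.negT : ℂ) * H.ψ₁ 1 ∧ H.ψ₂ (-1) = (H.θ Tr.negT : ℂ) * H.ψ₂ 1 := by
  refine neg_one_value H.ψ₁_irr H.ψ₂_irr (H.ψ₁_one.trans H.ψ₂_one.symm) ?_ ?_
  · rw [H.sign]
    rcases H.α_neg_one with h | h <;> rw [h] <;> simp
  · rw [← Pi.add_apply, ← H.D_eq, ← mk_neg_one_zero, D_central Tr h2 _ (Or.inr rfl), H.ψ₁_one,
      (two_half (odd_card h2)).2, beta_neg_one]

theorem orth_half {f χ ψ : SL(2, F) → ℂ} (hχ : Cfsg.IsIrrCharacter SL(2, F) χ)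
    (hψ : Cfsg.IsIrrCharacter SL(2, F) ψ) (hne : χ ≠ ψ) (hf : f = χ + ψ) :
    Cfsg.classInner f (χ - ψ) = 0 := by
  rw [hf, classInner_add_left, classInner_sub_right, classInner_sub_right, classInner_isIrr_self hχ,
    classInner_isIrr_self hψ, classInner_isIrr_ne hχ hψ hne, classInner_isIrr_ne hψ hχ hne.symm]
  ring

theorem diff_orth {f ρ : SL(2, F) → ℂ} {χ ψ : SL(2, F) → ℂ} (hχ : Cfsg.IsIrrCharacter SL(2, F) χ)
    (hψ : Cfsg.IsIrrCharacter SL(2, F) ψ) (hρ : Cfsg.IsIrrCharacter SL(2, F) ρ) (hf : f = ρ)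
    (h1 : ρ ≠ χ) (h2' : ρ ≠ ψ) : Cfsg.classInner f (χ - ψ) = 0 := by
  rw [hf, classInner_sub_right, classInner_isIrr_ne hρ hχ h1, classInner_isIrr_ne hρ hψ h2', sub_zero]

theorem deg_facts :
    H.χ₁ 1 ≠ ((Fintype.card F + 1 : ℕ) : ℂ) ∧ H.χ₁ 1 ≠ (Fintype.card F : ℂ) ∧
    H.ψ₁ 1 ≠ ((Fintype.card F + 1 : ℕ) : ℂ) ∧ H.ψ₁ 1 ≠ (Fintype.card F : ℂ) ∧
    H.ψ₁ 1 ≠ ((Fintype.card F - 1 : ℕ) : ℂ) ∧ H.χ₁ 1 ≠ (1 : ℂ) ∧ H.χ₁ 1 ≠ H.ψ₁ 1 := by
  have := odd_card (F := F) h2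
  have := Fintype.one_lt_card (α := F)
  rw [H.χ₁_one, H.ψ₁_one]
  simp only [ne_eq, Nat.cast_inj, Nat.cast_eq_one]
  omega

/-- A class function of the form `χ - ψ` on a pair of halves. -/
theorem balanced_aux {χ ψ : SL(2, F) → ℂ} (hχ : Cfsg.IsIrrCharacter SL(2, F) χ)
    (hψ : Cfsg.IsIrrCharacter SL(2, F) ψ) (h1 : χ 1 = ψ 1) (hn : χ (-1) = ψ (-1))
    (hR : ∀ β : Fˣ →* ℂˣ, β ^ 2 ≠ 1 → R β ≠ χ ∧ R β ≠ ψ)
    (hD : ∀ η : Tr.T →* ℂˣ, η ^ 2 ≠ 1 → D Tr h2 η ≠ χ ∧ D Tr h2 η ≠ ψ)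
    (hRα : Cfsg.classInner (R H.α) (χ - ψ) = 0) (hDθ : Cfsg.classInner (D Tr h2 H.θ) (χ - ψ) = 0)
    (hone : Cfsg.classInner (R (1 : Fˣ →* ℂˣ)) (χ - ψ) = 0)
    (hD1 : Cfsg.classInner (D Tr h2 1) (χ - ψ) = 0) : Balanced Tr h2 (χ - ψ) where
  cls := fun g h => by simp only [Pi.sub_apply, isClassFunction_of_isIrr hχ g h, isClassFunction_of_isIrr hψ g h]
  orthR β := by
    by_cases hβ : β ^ 2 = 1
    · rcases H.α_unique β hβ with rfl | rfl
      · exact hone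
      · exact hRα
    · exact diff_orth hχ hψ (isIrr_R h2 hβ) rfl (hR β hβ).1 (hR β hβ).2
  orthD η := by
    by_cases hη : η ^ 2 = 1
    · rcases H.θ_unique η hη with rfl | rfl
      · exact hD1
      · exact hDθ
    · exact diff_orth hχ hψ (isIrr_D Tr h2 hη) rfl (hD η hη).1 (hD η hη).2
  one := by simp [h1]
  neg_one := by simp [hn]

theorem ne_of_inner {f χ : SL(2, F) → ℂ} {X : SL(2, F) → ℂ} (hX : Cfsg.classInner f X = 0)
    (hχ : Cfsg.classInner f χ = 1) : X ≠ χ := fun e => by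
  rw [e, hχ] at hX; exact one_ne_zero hX

theorem inner_parts : Cfsg.classInner (R H.α) H.χ₁ = 1 ∧ Cfsg.classInner (R H.α) H.χ₂ = 1 ∧
    Cfsg.classInner (D Tr h2 H.θ) H.ψ₁ = 1 ∧ Cfsg.classInner (D Tr h2 H.θ) H.ψ₂ = 1 := by
  rw [H.R_eq, H.D_eq]
  simp [classInner_add_left, classInner_isIrr_self H.χ₁_irr, classInner_isIrr_self H.χ₂_irr,
    classInner_isIrr_self H.ψ₁_irr, classInner_isIrr_self H.ψ₂_irr,
    classInner_isIrr_ne H.χ₁_irr H.χ₂_irr H.χ_ne, classInner_isIrr_ne H.χ₂_irr H.χ₁_irr H.χ_ne.symm,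
    classInner_isIrr_ne H.ψ₁_irr H.ψ₂_irr H.ψ_ne, classInner_isIrr_ne H.ψ₂_irr H.ψ₁_irr H.ψ_ne.symm]

theorem trivial_ne {f χ : SL(2, F) → ℂ} (hf : Cfsg.classInner f (fun _ => 1) = 0)
    (hχ : Cfsg.classInner f χ = 1) : (fun _ => (1 : ℂ)) ≠ χ := ne_of_inner hf hχ

theorem orth_one_aux (h2 : (2 : F) ≠ 0) {f χ ψ : SL(2, F) → ℂ} (hχ : Cfsg.IsIrrCharacter SL(2, F) χ)
    (hψ : Cfsg.IsIrrCharacter SL(2, F) ψ) (hf1 : Cfsg.classInner f (fun _ => 1) = 0)
    (hfS : Cfsg.classInner f St = 0) (h1 : Cfsg.classInner f χ = 1) (h1' : Cfsg.classInner f ψ = 1) :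
    Cfsg.classInner (R (1 : Fˣ →* ℂˣ)) (χ - ψ) = 0 ∧
      Cfsg.classInner (fun _ : SL(2, F) => (1 : ℂ)) (χ - ψ) = 0 := by
  have a := diff_orth (f := fun _ : SL(2, F) => (1 : ℂ)) hχ hψ isIrr_one rfl (trivial_ne hf1 h1)
    (trivial_ne hf1 h1')
  have b := diff_orth (f := St) hχ hψ (isIrr_St h2) rfl (ne_of_inner hfS h1) (ne_of_inner hfS h1')
  refine ⟨?_, a⟩
  rw [show R (1 : Fˣ →* ℂˣ) = St + fun _ => (1 : ℂ) by funext g; simp [St], classInner_add_left, a, b, add_zero]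

theorem D_trivial (h2 : (2 : F) ≠ 0) {Δ : SL(2, F) → ℂ} (hR : ∀ β : Fˣ →* ℂˣ, Cfsg.classInner (R β) Δ = 0)
    (h1 : Cfsg.classInner (fun _ : SL(2, F) => (1 : ℂ)) Δ = 0) {X : SL(2, F) → ℂ}
    (hX : X = D Tr h2 1) (hgen : Cfsg.IsClassFunction SL(2, F) Δ) (hΔ1 : Δ 1 = 0) :
    Cfsg.classInner X Δ = 0 := by
  -- `D 1 = -1 + St` on the class functions orthogonal to all `R`
  have key : Cfsg.classInner (D Tr h2 1 - (St - fun _ => (1 : ℂ))) (D Tr h2 1 - (St - fun _ => (1 : ℂ))) = 0 := by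
    have a : Cfsg.classInner (D Tr h2 1) (D Tr h2 1) = 2 := by
      rw [classInner_D_D, if_pos rfl, if_pos (mul_one (1 : Tr.T →* ℂˣ))]; norm_num
    have b : Cfsg.classInner (D Tr h2 1) (fun _ => 1) = -1 := by rw [classInner_D_const, if_pos rfl]
    have b' : Cfsg.classInner (fun _ => 1) (D Tr h2 1) = -1 := by rw [classInner_conj_symm, b]; simp
    have c : Cfsg.classInner (R (1 : Fˣ →* ℂˣ)) (D Tr h2 1) = 0 := classInner_R_D Tr h2 1 1
    have c' : Cfsg.classInner (D Tr h2 1) (R (1 : Fˣ →* ℂˣ)) = 0 := by rw [classInner_conj_symm, c, map_zero]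
    have d : Cfsg.classInner (R (1 : Fˣ →* ℂˣ)) (fun _ => 1) = 1 := by rw [classInner_R_const h2, if_pos rfl]
    have d' : Cfsg.classInner (fun _ => 1) (R (1 : Fˣ →* ℂˣ)) = 1 := by rw [classInner_conj_symm, d]; simp
    have e : Cfsg.classInner (R (1 : Fˣ →* ℂˣ)) (R 1) = 2 := by
      rw [classInner_R_R h2, if_pos rfl, if_pos (mul_one (1 : Fˣ →* ℂˣ))]; norm_num
    simp only [St_eq, classInner_sub_left, classInner_sub_right, a, b, b', c, c', d, d', e,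
      classInner_isIrr_self isIrr_one]
    ring
  have hz : D Tr h2 1 - (St - fun _ => (1 : ℂ)) = 0 := by
    have hg : Cfsg.IsGeneralizedCharacter SL(2, F) (D Tr h2 1 - (St - fun _ => (1 : ℂ))) :=
      isGen_sub (isGen_D Tr h2 1) (isGen_sub (isGen_of_isIrr (isIrr_St h2)) isGen_one)
    obtain ⟨m, hm, hmi⟩ := exists_int_coeff hg
    have := (classInner_self_eq_sum_sq (isClassFunction_of_isGen hg) m hmi).symm.trans key
    have h0 : ∑ χ, m χ ^ 2 = 0 := by exact_mod_cast this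
    rw [hm]
    refine Finset.sum_eq_zero fun χ _ => ?_
    have := (Finset.sum_eq_zero_iff_of_nonneg fun χ _ => sq_nonneg (m χ)).1 h0 χ (Finset.mem_univ _)
    simp [pow_eq_zero_iff two_ne_zero |>.1 this]
  rw [hX, sub_eq_zero.1 hz, St_eq, classInner_sub_left, classInner_sub_left, hR, h1]
  ring

theorem balanced_χ : Balanced Tr h2 (H.χ₁ - H.χ₂) := by
  obtain ⟨i1, i2, -, -⟩ := H.inner_parts
  have o1 : Cfsg.classInner (R H.α) (fun _ => 1) = 0 := by rw [classInner_R_const h2, if_neg H.α_ne]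
  have o2 : Cfsg.classInner (R H.α) St = 0 := by
    rw [St_eq, classInner_sub_right, o1, classInner_R_R h2, if_neg H.α_ne,
      if_neg (fun h => H.α_ne ((mul_one H.α).symm.trans h))]
    simp
  obtain ⟨hone, htriv⟩ := orth_one_aux h2 H.χ₁_irr H.χ₂_irr o1 o2 i1 i2
  have hR : ∀ β : Fˣ →* ℂˣ, β ^ 2 ≠ 1 → R β ≠ H.χ₁ ∧ R β ≠ H.χ₂ := fun β _ => by
    constructor <;> intro e <;> have e' := congrArg (fun f : SL(2, F) → ℂ => f 1) e <;> simp only [R_one] at e'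
    · exact H.deg_facts.1 (by rw [← e']; push_cast; rfl)
    · exact H.deg_facts.1 (by rw [H.χ₁_one, ← H.χ₂_one, ← e']; push_cast; rfl)
  have hD : ∀ η : Tr.T →* ℂˣ, η ^ 2 ≠ 1 → D Tr h2 η ≠ H.χ₁ ∧ D Tr h2 η ≠ H.χ₂ := fun η _ =>
    ⟨ne_of_inner (classInner_R_D Tr h2 _ η) i1, ne_of_inner (classInner_R_D Tr h2 _ η) i2⟩
  have hα := orth_half H.χ₁_irr H.χ₂_irr H.χ_ne H.R_eq
  obtain ⟨-, -, j1, j2⟩ := H.inner_parts
  have hθ : Cfsg.classInner (D Tr h2 H.θ) (H.χ₁ - H.χ₂) = 0 := by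
    rw [H.D_eq, classInner_add_left,
      diff_orth H.χ₁_irr H.χ₂_irr H.ψ₁_irr rfl (fun e => H.deg_facts.2.2.2.2.2.2 (by rw [e]))
        (fun e => H.deg_facts.2.2.2.2.2.2 (by rw [e, H.χ₁_one, H.χ₂_one])),
      diff_orth H.χ₁_irr H.χ₂_irr H.ψ₂_irr rfl (fun e => H.deg_facts.2.2.2.2.2.2 (by rw [← e, H.ψ₁_one, H.ψ₂_one]))
        (fun e => H.deg_facts.2.2.2.2.2.2 (by rw [H.χ₁_one, ← H.χ₂_one, ← e, H.ψ₁_one, H.ψ₂_one])), add_zero]
  have hcls : Cfsg.IsClassFunction SL(2, F) (H.χ₁ - H.χ₂) := fun g h => by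
    simp only [Pi.sub_apply, isClassFunction_of_isIrr H.χ₁_irr g h, isClassFunction_of_isIrr H.χ₂_irr g h]
  have h1 : H.χ₁ 1 = H.χ₂ 1 := H.χ₁_one.trans H.χ₂_one.symm
  refine balanced_aux H H.χ₁_irr H.χ₂_irr h1 (by rw [H.χ_neg_one.1, H.χ_neg_one.2, h1]) hR hD hα hθ hone ?_
  refine D_trivial h2 (fun β => ?_) htriv rfl hcls (by simp [h1])
  by_cases hβ : β ^ 2 = 1
  · rcases H.α_unique β hβ with rfl | rfl
    · exact hone
    · exact hα
  · exact diff_orth H.χ₁_irr H.χ₂_irr (isIrr_R h2 hβ) rfl (hR β hβ).1 (hR β hβ).2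

theorem balanced_ψ : Balanced Tr h2 (H.ψ₁ - H.ψ₂) := by
  obtain ⟨-, -, i1, i2⟩ := H.inner_parts
  have o1 : Cfsg.classInner (D Tr h2 H.θ) (fun _ => 1) = 0 := by
    rw [classInner_D_const, if_neg H.θ_ne, neg_zero]
  have oR : ∀ β, Cfsg.classInner (D Tr h2 H.θ) (R β) = 0 := fun β => by
    rw [classInner_conj_symm, classInner_R_D, map_zero]
  have o2 : Cfsg.classInner (D Tr h2 H.θ) St = 0 := by rw [St_eq, classInner_sub_right, o1, oR, sub_zero]
  obtain ⟨hone, htriv⟩ := orth_one_aux h2 H.ψ₁_irr H.ψ₂_irr o1 o2 i1 i2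
  have hR : ∀ β : Fˣ →* ℂˣ, β ^ 2 ≠ 1 → R β ≠ H.ψ₁ ∧ R β ≠ H.ψ₂ := fun β _ =>
    ⟨ne_of_inner (oR β) i1, ne_of_inner (oR β) i2⟩
  have hD : ∀ η : Tr.T →* ℂˣ, η ^ 2 ≠ 1 → D Tr h2 η ≠ H.ψ₁ ∧ D Tr h2 η ≠ H.ψ₂ := fun η _ => by
    constructor <;> intro e <;> have e' := congrArg (fun f : SL(2, F) → ℂ => f 1) e <;> simp only [D_one] at e'
    · exact H.deg_facts.2.2.2.2.1 (by rw [← e', Nat.cast_sub Fintype.card_pos, Nat.cast_one])
    · exact H.deg_facts.2.2.2.2.1 (by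
        rw [H.ψ₁_one, ← H.ψ₂_one, ← e', Nat.cast_sub Fintype.card_pos, Nat.cast_one])
  have hθ := orth_half H.ψ₁_irr H.ψ₂_irr H.ψ_ne H.D_eq
  have hα : Cfsg.classInner (R H.α) (H.ψ₁ - H.ψ₂) = 0 := by
    rw [H.R_eq, classInner_add_left,
      diff_orth H.ψ₁_irr H.ψ₂_irr H.χ₁_irr rfl (fun e => H.deg_facts.2.2.2.2.2.2 (by rw [e]))
        (fun e => H.deg_facts.2.2.2.2.2.2 (by rw [e, H.ψ₁_one, H.ψ₂_one])),
      diff_orth H.ψ₁_irr H.ψ₂_irr H.χ₂_irr rfl (fun e => H.deg_facts.2.2.2.2.2.2 (by rw [← e, H.χ₁_one, H.χ₂_one]))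
        (fun e => H.deg_facts.2.2.2.2.2.2 (by rw [H.ψ₁_one, ← H.ψ₂_one, ← e, H.χ₁_one, H.χ₂_one])), add_zero]
  have hcls : Cfsg.IsClassFunction SL(2, F) (H.ψ₁ - H.ψ₂) := fun g h => by
    simp only [Pi.sub_apply, isClassFunction_of_isIrr H.ψ₁_irr g h, isClassFunction_of_isIrr H.ψ₂_irr g h]
  have h1 : H.ψ₁ 1 = H.ψ₂ 1 := H.ψ₁_one.trans H.ψ₂_one.symm
  refine balanced_aux H H.ψ₁_irr H.ψ₂_irr h1 (by rw [H.ψ_neg_one.1, H.ψ_neg_one.2, h1]) hR hD hα hθ hone ?_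
  refine D_trivial h2 (fun β => ?_) htriv rfl hcls (by simp [h1])
  by_cases hβ : β ^ 2 = 1
  · rcases H.α_unique β hβ with rfl | rfl
    · exact hone
    · exact hα
  · exact diff_orth H.ψ₁_irr H.ψ₂_irr (isIrr_R h2 hβ) rfl (hR β hβ).1 (hR β hβ).2

end Halves

end CfsgLib.SL2CharTable
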